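import Cfsg.Agent.Lib.CyclicTree.Model
import Cfsg.Agent.Lib.Blocks.LocalModel
import Cfsg.Agent.Lib.BrauerStar.Pieces

/-!
# Actions of group rings on reduced models and relative traces
-/

set_option autoImplicit false
set_option linter.unusedSectionVars false
set_option linter.style.haveILetI false

namespace Cfsg.Agent.Lib.CyclicTree

open Cfsg Cfsg.Agent.Lib.Blocks Cfsg.Agent.Lib.Characters Cfsg.Agent.Lib.BrauerStar
open Cfsg.Agent.Lib.CyclicCorner Cfsg.Agent.Lib.BrauerPairs MonoidAlgebra

universe u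

variable {K : Type u} [Group K] [Fintype K] {M : Ideal AlgInt} [hMp : M.IsPrime] {p : ℕ}

/-- The action of the group ring on a reduced model. -/
noncomputable def modAct {n : ℕ} (σ : K →* Matrix (Fin n) (Fin n) (locSubring M)) :
    RG M K →+* Module.End (ResField M) (Fin n → ResField M) :=
  (MonoidAlgebra.lift (ResField M) (Module.End (ResField M) (Fin n → ResField M)) K
    (redModel σ)).toRingHom.comp (redG K M)

variable {n : ℕ} (σ : K →* Matrix (Fin n) (Fin n) (locSubring M))

theorem modAct_el (g : K) : modAct σ (el g) = redModel σ g := by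
  show MonoidAlgebra.lift _ _ _ (redModel σ) (redG K M (el g)) = _
  rw [redG_el, MonoidAlgebra.lift_single, one_smul]

theorem modAct_smul (r : locSubring M) (y : RG M K) : modAct σ (r • y) = red M r • modAct σ y := by
  show MonoidAlgebra.lift _ _ _ (redModel σ) (redG K M (r • y)) = _
  rw [redG_smul, map_smul]
  rfl

theorem modAct_eq_of_red {x y : RG M K} (h : redG K M x = redG K M y) :
    modAct σ x = modAct σ y := by
  show MonoidAlgebra.lift _ _ _ (redModel σ) _ = MonoidAlgebra.lift _ _ _ (redModel σ) _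
  rw [h]

theorem modAct_eq_smul_of_red {x y : RG M K} {c : ResField M}
    (h : redG K M x = c • redG K M y) : modAct σ x = c • modAct σ y := by
  show MonoidAlgebra.lift _ _ _ (redModel σ) _ = c • MonoidAlgebra.lift _ _ _ (redModel σ) _
  rw [h, map_smul]

theorem modAct_eq_sum (y : RG M K) :
    modAct σ y = ∑ g : K, red M (y.coeff g) • redModel σ g := by
  conv_lhs => rw [← sum_coeff_smul_el y, map_sum]
  exact Finset.sum_congr rfl fun g _ => by rw [modAct_smul, modAct_el]

theorem modAct_eq_matrix (y : RG M K) :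
    modAct σ y = Matrix.toLinAlgEquiv' ((modelLift σ y).map (red M)) := by
  conv_rhs => rw [← sum_coeff_smul_el y, map_sum]
  rw [modAct_eq_sum, show (∑ g : K, modelLift σ (y.coeff g • el g)).map (red M) =
    ∑ g : K, (modelLift σ (y.coeff g • el g)).map (red M) from
    map_sum (red M).mapMatrix _ _, map_sum]
  refine Finset.sum_congr rfl fun g _ => ?_
  rw [map_smul, modelLift_el, show (y.coeff g • σ g).map (red M) =
    red M (y.coeff g) • (σ g).map (red M) by ext a b; simp, map_smul]
  rfl

/-- The sum over a group in terms of the cosets of a subgroup. -/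
theorem sum_out_mul {A : Type*} [AddCommMonoid A] (R : Subgroup K) [Fintype (K ⧸ R)] [Fintype R]
    (F : K → A) : ∑ a : K ⧸ R, ∑ r : R, F (a.out * (r : K)) = ∑ g : K, F g := by
  rw [← Finset.sum_product' Finset.univ Finset.univ fun (a : K ⧸ R) (r : R) => F (a.out * (r : K))]
  refine Fintype.sum_bijective (fun x : (K ⧸ R) × R => x.1.out * (x.2 : K)) ?_ _ _ fun x => rfl
  constructor
  · rintro ⟨a, r⟩ ⟨a', r'⟩ h
    simp only at h
    have h1 : a = a' := by
      have h2 := congrArg (QuotientGroup.mk (s := R)) h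
      rwa [QuotientGroup.mk_mul_of_mem _ r.2, QuotientGroup.mk_mul_of_mem _ r'.2,
        QuotientGroup.out_eq', QuotientGroup.out_eq'] at h2
    subst h1
    exact Prod.ext rfl (Subtype.ext (mul_left_cancel h))
  · intro g
    obtain ⟨r, hr⟩ := QuotientGroup.mk_out_eq_mul R g
    exact ⟨⟨(g : K ⧸ R), r⁻¹⟩, by simp [hr]⟩

open scoped Classical in
/-- **A sum over free orbits is a trace.** -/
theorem exists_orbit_trace {Γ α : Type*} [Group Γ] [Fintype Γ] [MulAction Γ α] [Fintype α]
    {k A : Type*} [CommSemiring k] [Semiring A] [Algebra k A] (ρ : Γ →* A) (F : α → A)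
    (hF : ∀ (r : Γ) (s : α), F (r • s) = ρ r * F s * ρ r⁻¹) (O : α → Prop)
    (hO : ∀ (r : Γ) (s : α), O s → O (r • s)) (hfree : ∀ (r : Γ) (s : α), O s → r • s = s → r = 1) :
    ∃ Φ : A, ∑ s ∈ Finset.univ.filter O, F s = ∑ r : Γ, ρ r * Φ * ρ r⁻¹ := by
  let st := MulAction.orbitRel Γ α
  let W : α → Prop := fun s => (Quotient.mk st s).out = s
  refine ⟨∑ s ∈ (Finset.univ.filter O).filter W, F s, ?_⟩
  simp only [Finset.mul_sum, Finset.sum_mul, ← hF]
  rw [← Finset.sum_product' Finset.univ ((Finset.univ.filter O).filter W) fun r s => F (r • s)]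
  have hrel : ∀ (r : Γ) (s : α), Quotient.mk st (r • s) = Quotient.mk st s := fun r s =>
    Quotient.sound ⟨r, rfl⟩
  refine (Finset.sum_bij (fun x _ => x.1 • x.2) ?_ ?_ ?_ fun x _ => rfl).symm
  · intro x hx
    simp only [Finset.mem_product, Finset.mem_filter, Finset.mem_univ, true_and] at hx ⊢
    exact hO _ _ hx.1
  · rintro ⟨r, s⟩ hx ⟨r', s'⟩ hx' h
    simp only [Finset.mem_product, Finset.mem_filter, Finset.mem_univ, true_and] at hx hx' h
    have e : s = s' := by
      have h1 := congrArg (Quotient.mk st) h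
      rw [hrel, hrel] at h1
      rw [← hx.2, ← hx'.2, h1]
    subst e
    refine Prod.ext ?_ rfl
    have h2 := hfree (r'⁻¹ * r) s hx.1 (by rw [mul_smul, h, inv_smul_smul])
    exact (inv_mul_eq_one.1 h2).symm
  · intro s hs
    simp only [Finset.mem_filter, Finset.mem_univ, true_and] at hs
    obtain ⟨r, hr⟩ : ∃ r : Γ, r • s = (Quotient.mk st s).out := Quotient.mk_out (s := st) s
    refine ⟨(r⁻¹, (Quotient.mk st s).out), ?_, by rw [← hr, inv_smul_smul]⟩
    simp only [Finset.mem_product, Finset.mem_filter, Finset.mem_univ, true_and]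
    exact ⟨hr ▸ hO r s hs, by show (Quotient.mk st _).out = _; rw [Quotient.out_eq]⟩

variable {G : Type u} [Group G] [Fintype G] {H : Subgroup G} [Fintype H]

/-- Conjugation of a group ring of a normalised subgroup. -/
noncomputable def nconj (M : Ideal AlgInt) [M.IsPrime] (t : G)
    (ht : ∀ a, a ∈ H ↔ t⁻¹ * a * t ∈ H) : RG M H ≃ₐ[locSubring M] RG M H :=
  MonoidAlgebra.domCongr (locSubring M) (locSubring M) (conjEquiv t ht)

variable {t : G} (ht : ∀ a, a ∈ H ↔ t⁻¹ * a * t ∈ H)

theorem nconj_el (h : H) : nconj M t ht (el h : RG M H) = el (conjEquiv t ht h) := by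
  show MonoidAlgebra.domCongr _ _ _ (MonoidAlgebra.single h 1) = _
  rw [MonoidAlgebra.domCongr_single]
  rfl

theorem nconj_eq_sum (y : RG M H) :
    nconj M t ht y = ∑ h : H, y.coeff h • el (conjEquiv t ht h) := by
  conv_lhs => rw [← sum_coeff_smul_el y, map_sum]
  exact Finset.sum_congr rfl fun h _ => by rw [map_smul, nconj_el]

theorem redG_nconj_eq_zero {y : RG M H} (h : redG H M y = 0) : redG H M (nconj M t ht y) = 0 := by
  rw [nconj_eq_sum, map_sum]
  refine Finset.sum_eq_zero fun a _ => ?_
  rw [redG_smul, red_eq_zero_iff.2 (brZero_bot_iff.1 (redG_eq_zero_iff.1 h) a), zero_smul]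

variable (τ : G →* Matrix (Fin n) (Fin n) (locSubring M))

theorem modAct_nconj (y : RG M H) :
    modAct (τ.comp H.subtype) (nconj M t ht y) =
      redModel τ t * modAct (τ.comp H.subtype) y * redModel τ t⁻¹ := by
  rw [nconj_eq_sum, map_sum, modAct_eq_sum (τ.comp H.subtype) y, Finset.mul_sum, Finset.sum_mul]
  refine Finset.sum_congr rfl fun h _ => ?_
  rw [modAct_smul, modAct_el, mul_smul_comm, smul_mul_assoc]
  congr 1
  show redModel τ ((conjEquiv t ht h : H) : G) = redModel τ t * redModel τ (h : G) * redModel τ t⁻¹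
  rw [conjEquiv_coe, map_mul, map_mul]

theorem modAct_ef (hM : IsPModular p M) {f : Set (IrrCharacter H)} (hf : IsPBlock M f) :
    modAct τ (ef M H f) = modAct (τ.comp H.subtype) (eBlock hM hf) := by
  classical
  rw [modAct_eq_sum, modAct_eq_sum]
  rw [← Finset.sum_subset (Finset.subset_univ (Finset.univ.filter fun g : G => g ∈ H))
    fun g _ hg => ?_]
  · rw [Finset.sum_subtype (p := (· ∈ H)) _ (fun a => by simp)]
    refine Finset.sum_congr rfl fun h _ => ?_
    rw [show (ef M H f).coeff (h : G) = (eBlock hM hf).coeff h from Subtype.ext (by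
      show coef (ef M H f) (h : G) = coef (eBlock hM hf) h
      rw [coef_ef hM hf, coef_eBlock, subgroupBlockCoeff_of_mem f h.2])]
    rfl
  · have h0 : (ef M H f).coeff g = 0 := by
      refine Subtype.ext ?_
      show coef (ef M H f) g = 0
      rw [coef_ef hM hf, subgroupBlockCoeff_of_notMem f fun h => hg (by simp [h])]
    rw [h0, map_zero, zero_smul]

theorem nconj_eBlock (hM : IsPModular p M) {f : Set (IrrCharacter H)} (hf : IsPBlock M f)
    (hfix : cj t (ef M H f) = ef M H f) : nconj M t ht (eBlock hM hf) = eBlock hM hf := by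
  classical
  refine coef_injective (funext fun a => ?_)
  rw [nconj_eq_sum, coef_sum, Finset.sum_apply]
  rw [Finset.sum_eq_single ((conjEquiv t ht).symm a)]
  · rw [coef_smul, Pi.smul_apply, MulEquiv.apply_symm_apply, el, MonoidAlgebra.of_apply, coef_single,
      if_pos rfl, OneMemClass.coe_one, smul_eq_mul, mul_one]
    show coef (eBlock hM hf) _ = coef (eBlock hM hf) a
    rw [coef_eBlock]
    set b := (conjEquiv t ht).symm a
    have hab : (a : G) = t * (b : G) * t⁻¹ := by
      rw [← conjEquiv_coe t ht b, MulEquiv.apply_symm_apply]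
    have h1 := cj_eq_self_iff.1 hfix (b : G)
    rw [coef_ef hM hf, ← hab, subgroupBlockCoeff_of_mem f a.2, subgroupBlockCoeff_of_mem f b.2] at h1
    exact h1.symm
  · intro b _ hb
    rw [coef_smul, Pi.smul_apply, el, MonoidAlgebra.of_apply, coef_single,
      if_neg fun h => hb (by rw [← h, MulEquiv.symm_apply_apply]), smul_zero]
  · simp

end Cfsg.Agent.Lib.CyclicTree
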