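import Mathlib.LinearAlgebra.Trace
import Mathlib.LinearAlgebra.Dual.Lemmas
import Mathlib.RingTheory.Nilpotent.Basic
import Mathlib.Tactic

/-!
# Averages of endomorphisms over a twisted cyclic group

If every average of an endomorphism of rank one with a given image is a scalar plus a nilpotent
one, the space has dimension at most one.
-/

set_option autoImplicit false
set_option linter.unusedSectionVars false
set_option linter.style.haveILetI false
set_option linter.unusedSimpArgs false

namespace Cfsg.Agent.Lib.CyclicTree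

open Module

variable {k : Type*} [Field k] {Q : Type*} [AddCommGroup Q] [Module k Q] [FiniteDimensional k Q]

/-- The average of `a` over the powers of `τ`, when `τ ^ e` is the scalar `c`. -/
noncomputable def avg (τ : End k Q) (c : k) (e : ℕ) (a : End k Q) : End k Q :=
  ∑ j ∈ Finset.range e, c⁻¹ • (τ ^ j * a * τ ^ (e - j))

variable {τ : End k Q} {c : k} {e : ℕ}

theorem avg_sum {ι : Type*} (t : Finset ι) (a : ι → End k Q) :
    avg τ c e (∑ i ∈ t, a i) = ∑ i ∈ t, avg τ c e (a i) := by
  simp only [avg, Finset.mul_sum, Finset.sum_mul, Finset.smul_sum]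
  exact Finset.sum_comm

theorem mul_avg (hτ : τ ^ e = c • 1) (a : End k Q) :
    τ * avg τ c e a = avg τ c e a * τ := by
  set F : ℕ → End k Q := fun j => c⁻¹ • (τ ^ j * a * τ ^ (e + 1 - j)) with hF
  have h1 : τ * avg τ c e a = ∑ j ∈ Finset.range e, F (j + 1) := by
    rw [avg, Finset.mul_sum]
    refine Finset.sum_congr rfl fun j _ => ?_
    rw [hF, mul_smul_comm]
    simp only [← mul_assoc, ← pow_succ', Nat.add_sub_add_right]
  have h2 : avg τ c e a * τ = ∑ j ∈ Finset.range e, F j := by
    rw [avg, Finset.sum_mul]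
    refine Finset.sum_congr rfl fun j hj => ?_
    rw [hF, smul_mul_assoc, mul_assoc, ← pow_succ,
      show e - j + 1 = e + 1 - j by have := Finset.mem_range.1 hj; omega]
  have h3 : F e = F 0 := by
    simp only [hF, Nat.add_sub_cancel_left, pow_one, pow_zero, one_mul, Nat.sub_zero, pow_succ,
      hτ, smul_mul_assoc, mul_smul_comm, one_mul, ← mul_assoc, mul_one]
  rw [h1, h2]
  apply add_right_cancel (b := F 0)
  rw [← Finset.sum_range_succ' F e, Finset.sum_range_succ, h3]

theorem avg_mul_left (hτ : τ ^ e = c • 1) (a : End k Q) :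
    avg τ c e (τ * a) = avg τ c e (a * τ) := by
  have h1 : avg τ c e (τ * a) = τ * avg τ c e a := by
    rw [avg, avg, Finset.mul_sum]
    refine Finset.sum_congr rfl fun j _ => ?_
    rw [mul_smul_comm]
    simp only [← mul_assoc, ← pow_succ', ← pow_succ]
  have h2 : avg τ c e (a * τ) = avg τ c e a * τ := by
    rw [avg, avg, Finset.sum_mul]
    refine Finset.sum_congr rfl fun j _ => ?_
    rw [smul_mul_assoc]
    simp only [mul_assoc, ← pow_succ, ← pow_succ']
  rw [h1, h2, mul_avg hτ]

theorem avg_pow_mul (hτ : τ ^ e = c • 1) (i : ℕ) (a : End k Q) :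
    avg τ c e (τ ^ i * a) = avg τ c e (a * τ ^ i) := by
  induction i generalizing a with
  | zero => rw [pow_zero, one_mul, mul_one]
  | succ i ih =>
    rw [pow_succ, mul_assoc, ih, mul_assoc τ a, avg_mul_left hτ, mul_assoc]

theorem avg_of_commute (hc : c ≠ 0) (hτ : τ ^ e = c • 1) {a : End k Q} (ha : Commute τ a) :
    avg τ c e a = (e : k) • a := by
  rw [avg, Finset.sum_congr rfl (g := fun _ => a) fun j hj => ?_, Finset.sum_const, Finset.card_range,
    Nat.cast_smul_eq_nsmul]
  rw [(ha.pow_left j).eq, mul_assoc, ← pow_add,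
    Nat.add_sub_cancel' (Finset.mem_range.1 hj).le, hτ, mul_smul_comm, mul_one, smul_smul,
    inv_mul_cancel₀ hc, one_smul]

theorem trace_avg (hc : c ≠ 0) (hτ : τ ^ e = c • 1) (a : End k Q) :
    LinearMap.trace k Q (avg τ c e a) = (e : k) * LinearMap.trace k Q a := by
  rw [avg, map_sum, Finset.sum_congr rfl (g := fun _ => LinearMap.trace k Q a) fun j hj => ?_,
    Finset.sum_const, Finset.card_range, nsmul_eq_mul]
  rw [map_smul, LinearMap.trace_mul_cycle, ← pow_add,
    Nat.sub_add_cancel (Finset.mem_range.1 hj).le, hτ, smul_mul_assoc, one_mul, map_smul, smul_smul,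
    inv_mul_cancel₀ hc, one_smul]

/-- **Scalar averages force dimension one.** -/
theorem finrank_le_one_of_avg (hc : c ≠ 0) (hτ : τ ^ e = c • 1) (he : (e : k) ≠ 0) (w : Q)
    (hw : w ≠ 0)
    (H : ∀ l : Dual k Q, ∃ μ : k, IsNilpotent (avg τ c e (l.smulRight w) - μ • 1)) :
    finrank k Q ≤ 1 := by
  classical
  haveI : Nontrivial Q := nontrivial_of_ne w 0 hw
  set S := Submodule.span k (Set.range fun i : ℕ => (τ ^ i) w) with hS
  have hτS : ∀ i : ℕ, ∀ x ∈ S, (τ ^ i) x ∈ S := by
    intro i x hx
    induction hx using Submodule.span_induction with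
    | mem z hz =>
      obtain ⟨m, rfl⟩ := hz
      exact Submodule.subset_span ⟨i + m, by simp only [pow_add]; rfl⟩
    | zero => rw [map_zero]; exact zero_mem _
    | add a b _ _ ha hb => rw [map_add]; exact add_mem ha hb
    | smul r a _ ha => rw [map_smul]; exact Submodule.smul_mem _ _ ha
  -- the vector is cyclic
  have hStop : S = ⊤ := by
    by_contra hne
    obtain ⟨l, hl⟩ : ∃ l : Dual k Q, l w = 1 := by
      obtain ⟨l, hl⟩ : ∃ l : Dual k Q, l w ≠ 0 := by
        by_contra hcon
        push Not at hcon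
        exact hw ((Module.forall_dual_apply_eq_zero_iff k w).1 hcon)
      exact ⟨(l w)⁻¹ • l, by simp [inv_mul_cancel₀ hl]⟩
    obtain ⟨μ, hμ⟩ := H l
    set A := avg τ c e (l.smulRight w)
    have hA : ∀ x, A x ∈ S := fun x => by
      simp only [A, avg, LinearMap.sum_apply, LinearMap.smul_apply, End.mul_apply,
        LinearMap.smulRight_apply, map_smul]
      exact sum_mem fun j _ => Submodule.smul_mem _ _ (Submodule.smul_mem _ _
        (Submodule.subset_span ⟨j, rfl⟩))
    have hμ0 : μ = 0 := by
      by_contra h0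
      have hu : IsUnit A := by
        have h := hμ.isUnit_add_right_of_commute (u := μ • (1 : End k Q))
          ((isUnit_iff_ne_zero.2 h0).map (algebraMap k (End k Q)) |> fun h => by
            rwa [Algebra.algebraMap_eq_smul_one] at h)
          (Commute.smul_right (Commute.one_right _) _)
        rwa [sub_add_cancel] at h
      exact hne (eq_top_iff.2 fun x _ => by
        obtain ⟨y, rfl⟩ := ((End.isUnit_iff _).1 hu).2 x
        exact hA y)
    rw [hμ0, zero_smul, sub_zero] at hμ
    have h1 : LinearMap.trace k Q A = 0 :=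
      IsNilpotent.eq_zero (LinearMap.isNilpotent_trace_of_isNilpotent hμ)
    rw [trace_avg hc hτ, LinearMap.trace_smulRight, hl, mul_one] at h1
    exact he h1
  -- `τ` has a scalar average
  obtain ⟨μ, hμ⟩ : ∃ μ : k, IsNilpotent (avg τ c e τ - μ • 1) := by
    let b := Module.finBasis k Q
    have hco : ∀ x : Q, ∃ f : ℕ →₀ k, Finsupp.linearCombination k (fun i => (τ ^ i) w) f = x :=
      fun x => Finsupp.mem_span_range_iff_exists_finsupp.1 (by rw [← hS, hStop]; trivial) |>.imp
        fun f hf => hf
    choose f hf using fun j => hco (τ (b j))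
    let l : Dual k Q := ∑ j, ∑ i ∈ (f j).support, f j i • (b.coord j).comp (τ ^ i)
    obtain ⟨μ, hμ⟩ := H l
    refine ⟨μ, ?_⟩
    have e1 : τ = ∑ j, ∑ i ∈ (f j).support, τ ^ i * (f j i • (b.coord j).smulRight w) := by
      refine LinearMap.ext fun x => ?_
      conv_lhs => rw [← b.sum_repr x, map_sum]
      simp only [LinearMap.sum_apply, End.mul_apply, LinearMap.smul_apply, LinearMap.smulRight_apply,
        map_smul]
      refine Finset.sum_congr rfl fun j _ => ?_
      conv_lhs => rw [← hf j, Finsupp.linearCombination_apply, Finsupp.sum, Finset.smul_sum]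
      refine Finset.sum_congr rfl fun i _ => ?_
      rw [smul_comm]
      rfl
    have e2 : l.smulRight w = ∑ j, ∑ i ∈ (f j).support,
        (f j i • (b.coord j).smulRight w) * τ ^ i := by
      refine LinearMap.ext fun x => ?_
      simp only [l, LinearMap.smulRight_apply, LinearMap.sum_apply, End.mul_apply,
        LinearMap.smul_apply, LinearMap.comp_apply, Finset.sum_smul, smul_assoc]
    conv => arg 1; arg 1; arg 4; rw [e1]
    rw [avg_sum, Finset.sum_congr rfl fun j _ => avg_sum _ _,
      Finset.sum_congr rfl fun j _ => Finset.sum_congr rfl fun i _ => avg_pow_mul hτ i _,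
      Finset.sum_congr rfl fun j _ => (avg_sum _ _).symm, ← avg_sum, ← e2]
    exact hμ
  rw [avg_of_commute hc hτ (Commute.refl τ)] at hμ
  -- `τ` is scalar
  set ν := μ / (e : k) with hν
  have hN : IsNilpotent (τ - ν • 1) := by
    have := hμ.smul (e : k)⁻¹
    rwa [smul_sub, smul_smul, inv_mul_cancel₀ he, one_smul, smul_smul, inv_mul_eq_div, ← hν] at this
  have he0 : 0 < e := Nat.pos_of_ne_zero fun h => he (by rw [h, Nat.cast_zero])
  have hτν : τ = ν • 1 := by
    set N := τ - ν • 1 with hNdef
    have hcomm : Commute τ (ν • (1 : End k Q)) := (Commute.one_right τ).smul_right ν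
    have hν0 : ν ≠ 0 := by
      intro h0
      rw [hNdef, h0, zero_smul, sub_zero] at hN
      obtain ⟨m, hm⟩ := hN
      have : (τ ^ e) ^ m = 0 := by rw [← pow_mul, mul_comm, pow_mul, hm, zero_pow he0.ne']
      rw [hτ, smul_pow, one_pow] at this
      exact one_ne_zero ((smul_eq_zero.1 this).resolve_left (pow_ne_zero m hc))
    set Sg := ∑ i ∈ Finset.range e, τ ^ i * (ν • (1 : End k Q)) ^ (e - 1 - i) with hSg
    have hgeom : Sg * N = (c - ν ^ e) • 1 := by
      rw [hSg, hNdef, hcomm.geom_sum₂_mul, hτ, smul_pow, one_pow, sub_smul]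
    have hSN : Commute Sg N := by
      refine Commute.sum_left _ _ _ fun i _ => ?_
      rw [smul_pow, one_pow]
      refine Commute.mul_left (Commute.pow_left ?_ i) ((Commute.one_left N).smul_left _)
      exact (Commute.refl τ).sub_right hcomm
    have hcν : c - ν ^ e = 0 := by
      by_contra h
      have h1 := hSN.isNilpotent_mul_left hN
      rw [hgeom] at h1
      obtain ⟨m, hm⟩ := h1
      rw [smul_pow, one_pow] at hm
      exact one_ne_zero ((smul_eq_zero.1 hm).resolve_left (pow_ne_zero m h))
    rw [hcν, zero_smul] at hgeom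
    have hSu : IsUnit Sg := by
      have hpow : ∀ i : ℕ, ∃ Z : End k Q, Commute Z N ∧ τ ^ i = ν ^ i • 1 + N * Z := by
        intro i
        induction i with
        | zero => exact ⟨0, Commute.zero_left N, by simp⟩
        | succ i ih =>
          obtain ⟨Z, hZ, hi⟩ := ih
          refine ⟨Z * τ + ν ^ i • 1, ?_, ?_⟩
          · exact (hZ.mul_left ((Commute.refl τ).sub_right hcomm)).add_left
              ((Commute.one_left N).smul_left _)
          · rw [pow_succ, hi, add_mul, mul_assoc, smul_mul_assoc, one_mul, mul_add, mul_smul_comm,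
              mul_one, hNdef, smul_sub, smul_smul, ← pow_succ]
            abel
      choose Z hZc hZ using hpow
      have hS1 : Sg = ((e : k) * ν ^ (e - 1)) • 1 +
          N * ∑ i ∈ Finset.range e, ν ^ (e - 1 - i) • Z i := by
        rw [hSg, Finset.mul_sum, mul_smul, Nat.cast_smul_eq_nsmul]
        rw [show e • ν ^ (e - 1) • (1 : End k Q) = ∑ _i ∈ Finset.range e, ν ^ (e - 1) • (1 : End k Q) by
          rw [Finset.sum_const, Finset.card_range], ← Finset.sum_add_distrib]
        refine Finset.sum_congr rfl fun i hi => ?_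
        rw [hZ i, smul_pow, one_pow, mul_smul_comm, mul_one, smul_add, smul_smul, ← pow_add,
          show e - 1 - i + i = e - 1 by have := Finset.mem_range.1 hi; omega, mul_smul_comm]
      rw [hS1]
      refine IsNilpotent.isUnit_add_left_of_commute ?_ ?_ ((Commute.one_right _).smul_right _)
      · exact (Commute.sum_right _ _ _ fun i _ => (hZc i).symm.smul_right _).isNilpotent_mul_right hN
      · rw [← Algebra.algebraMap_eq_smul_one]
        exact (isUnit_iff_ne_zero.2 (mul_ne_zero he (pow_ne_zero _ hν0))).map _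
    exact sub_eq_zero.1 (hSu.mul_right_eq_zero.1 hgeom)
  refine finrank_le_one w fun x => ?_
  have hx : x ∈ Submodule.span k {w} := by
    have h1 : x ∈ S := hStop ▸ Submodule.mem_top
    refine (Submodule.span_le.2 ?_) h1
    rintro _ ⟨i, rfl⟩
    show (τ ^ i) w ∈ Submodule.span k {w}
    rw [hτν, smul_pow, one_pow]
    exact Submodule.smul_mem _ _ (Submodule.mem_span_singleton_self w)
  exact Submodule.mem_span_singleton.1 hx

/-- **Endomorphisms commuting with a nilpotent one that have rank one on its kernel.** -/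
theorem exists_commuting_rank_one {V : Type*} [AddCommGroup V] [Module k V]
    (W : Submodule k V) (X : End k V) {n : ℕ} (hX : ∀ x ∈ W, X x ∈ W) (hn : ∀ x ∈ W, (X ^ n) x = 0)
    (I : Submodule k V) (h : ¬ W ⊓ LinearMap.ker X ≤ I) :
    ∃ w ∈ W, X w = 0 ∧ w ∉ I ∧
      ∀ l : Dual k V, (∀ v ∈ I, l v = 0) → ∃ a : End k V, (∀ x ∈ W, a x ∈ W) ∧
        (∀ x ∈ W, a (X x) = X (a x)) ∧
        ∀ v ∈ W, X v = 0 → a v - l v • w ∈ I := by
  classical
  let Good : ℕ → Prop := fun s => ∃ u ∈ W, X ((X ^ s) u) = 0 ∧ (X ^ s) u ∉ I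
  obtain ⟨w₀, hw₀, hw₀I⟩ := SetLike.not_le_iff_exists.1 h
  obtain ⟨hw₀W, hw₀X⟩ := Submodule.mem_inf.1 hw₀
  have h0 : Good 0 := ⟨w₀, hw₀W, by simpa using hw₀X, by simpa using hw₀I⟩
  have hbd : ∀ s, Good s → s ≤ n := by
    rintro s ⟨u, hu, -, hI⟩
    by_contra hs
    apply hI
    rw [show s = s - n + n by omega, pow_add, End.mul_apply, hn u hu, map_zero]
    exact zero_mem _
  have hbound : ∀ m, Good m → m ≤ Nat.findGreatest Good n := fun m hm =>
    Nat.le_findGreatest (hbd m hm) hm
  set s := Nat.findGreatest Good n with hs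
  obtain ⟨u, huW, huX, huI⟩ : Good s := Nat.findGreatest_spec (Nat.zero_le n) h0
  have hpowW : ∀ j : ℕ, ∀ x ∈ W, (X ^ j) x ∈ W := by
    intro j
    induction j with
    | zero => simp
    | succ j ih => intro x hx; rw [pow_succ', End.mul_apply]; exact hX _ (ih x hx)
  refine ⟨(X ^ s) u, hpowW s u huW, huX, huI, fun l hl => ?_⟩
  set R := W.map (X ^ (s + 1)) with hR
  set K := W ⊓ LinearMap.ker X with hK
  obtain ⟨l', hl'⟩ : ∃ l' : Dual k (V ⧸ R), (R.mkQ.comp K.subtype).dualMap l' = l.comp K.subtype := by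
    have hm : l.comp K.subtype ∈ LinearMap.range (R.mkQ.comp K.subtype).dualMap := by
      rw [LinearMap.range_dualMap_eq_dualAnnihilator_ker, Submodule.mem_dualAnnihilator]
      intro v hv
      rw [LinearMap.mem_ker, LinearMap.comp_apply, Submodule.mkQ_apply,
        Submodule.Quotient.mk_eq_zero] at hv
      obtain ⟨y, hy, hyv⟩ := hv
      refine hl _ ?_
      by_contra hI
      have hv2 : X (v : V) = 0 := LinearMap.mem_ker.1 (Submodule.mem_inf.1 v.2).2
      have hgood : Good (s + 1) := ⟨y, hy, by rw [hyv]; exact hv2, by rw [hyv]; exact hI⟩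
      have := hbound _ hgood
      omega
    exact hm
  let L : Dual k V := l'.comp R.mkQ
  refine ⟨∑ j ∈ Finset.range (s + 1), (L.comp (X ^ j)).smulRight ((X ^ (s - j)) u), ?_, ?_, ?_⟩
  · intro x _
    rw [LinearMap.sum_apply]
    exact sum_mem fun j _ => by
      rw [LinearMap.smulRight_apply]; exact Submodule.smul_mem _ _ (hpowW _ u huW)
  · intro x hx
    have hLR : L ((X ^ (s + 1)) x) = 0 := by
      show l' (R.mkQ ((X ^ (s + 1)) x)) = 0
      rw [Submodule.mkQ_apply, (Submodule.Quotient.mk_eq_zero R).2 ⟨x, hx, rfl⟩, map_zero]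
    simp only [LinearMap.sum_apply, LinearMap.smulRight_apply, LinearMap.comp_apply, map_sum,
      map_smul]
    set F : ℕ → V := fun j => L ((X ^ j) x) • (X ^ (s + 1 - j)) u with hF
    have e1 : ∀ j ∈ Finset.range (s + 1), L ((X ^ j) (X x)) • (X ^ (s - j)) u = F (j + 1) :=
      fun j _ => by
        rw [hF, ← End.mul_apply, ← pow_succ]
        simp only [Nat.add_sub_add_right]
    have e2 : ∀ j ∈ Finset.range (s + 1), L ((X ^ j) x) • X ((X ^ (s - j)) u) = F j := fun j hj => by
      rw [hF, ← End.mul_apply, ← pow_succ']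
      simp only []
      rw [show s - j + 1 = s + 1 - j by have := Finset.mem_range.1 hj; omega]
    rw [Finset.sum_congr rfl e1, Finset.sum_congr rfl e2]
    have h3 : F (s + 1) = F 0 := by
      simp only [hF, hLR, zero_smul, Nat.sub_zero]
      rw [pow_succ', End.mul_apply, huX, smul_zero]
    apply add_right_cancel (b := F 0)
    rw [← Finset.sum_range_succ' F (s + 1), Finset.sum_range_succ F (s + 1), h3]
  · intro v hv hvX
    rw [LinearMap.sum_apply, Finset.sum_eq_single 0]
    · have : L v = l v := LinearMap.congr_fun hl' ⟨v, hv, hvX⟩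
      simp [this]
    · intro j _ hj
      obtain ⟨i, rfl⟩ : ∃ i, j = i + 1 := ⟨j - 1, by omega⟩
      rw [LinearMap.smulRight_apply, LinearMap.comp_apply, pow_succ, End.mul_apply, hvX, map_zero,
        map_zero, zero_smul]
    · simp

end Cfsg.Agent.Lib.CyclicTree
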