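import Cfsg.Agent.Lib.CyclicTree.Relation

/-!
# Products of central values of the block, modulo `p`
-/

set_option autoImplicit false
set_option linter.unusedSectionVars false
set_option linter.style.haveILetI false

namespace Cfsg.Agent.Lib.CyclicTree

open Cfsg Cfsg.Agent.Lib.Blocks Cfsg.Agent.Lib.Characters Cfsg.Agent.Lib.BlockHeights
open Cfsg.Agent.Lib.BrauerPairs Cfsg.Agent.Lib.BrauerStar Cfsg.Agent.Lib.CyclicCorner

universe u

variable {G : Type u} [Group G] [Fintype G] {M : Ideal AlgInt} [hMp : M.IsPrime] {p : ℕ}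

/-- A trace sees the block idempotent as a multiple of a primitive one. -/
theorem trace_decomp {K : Type u} [Group K] [Fintype K] {A : Type*} [Semiring A]
    (φ : RG M K →+* A) (τ : A →+ ℂ) (hτ : ∀ a b, τ (a * b) = τ (b * a))
    {E i : RG M K} {T : Finset (RG M K)}
    (hT : IsDecomp (⊤ : Subalgebra (locSubring M) (RG M K)) E T)
    (heq : ∀ l ∈ T, IsEquivIn (⊤ : Subalgebra (locSubring M) (RG M K)) l i) {u : A}
    (hu : ∀ y : RG M K, Commute (φ y) u) : τ (φ E * u) = (T.card : ℂ) * τ (φ i * u) := by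
  rw [← hT.sum, map_sum, Finset.sum_mul, map_sum, Finset.sum_congr rfl fun l hl => ?_,
    Finset.sum_const, nsmul_eq_mul]
  obtain ⟨x, y, hx, hy, h1, h2⟩ := heq l hl
  rw [← h1, map_mul φ, mul_assoc, hτ, mul_assoc, ← (hu x).eq, ← mul_assoc, ← map_mul φ, h2]

variable {hM : IsPModular p M} {B : Set (IrrCharacter G)} {z : G} {H N : Subgroup G} [Fintype H]
  {f : Set (IrrCharacter H)} {PH : Subgroup H} {t : G} {e : ℕ}

theorem commute_emb_of_el {u : RG M G} (h : ∀ k : H, Commute (el (k : G)) u) (y : RG M H) :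
    Commute (emb H y) u := by
  rw [emb_eq_sum]
  exact Commute.sum_left _ _ _ fun k _ => (h k).smul_left _

theorem commute_of_el {K : Type u} [Group K] [Fintype K] {u : RG M K} (h : ∀ k : K, Commute (el k) u)
    (y : RG M K) : Commute y u := by
  rw [← sum_coeff_smul_el y]
  exact Commute.sum_left _ _ _ fun k _ => (h k).smul_left _

namespace LocalData

variable (L : LocalData hM B z H N f PH t e)
include L

/-- A primitive idempotent of the block with the size of the block. -/
theorem exists_corner : ∃ (i X : RG M H) (q D : ℕ), 0 < D ∧ RankOneCorner hM L.ind.1 i X q ∧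
    (∀ (χ : IrrCharacter G) (u : RG M G), (∀ h : H, Commute (el (h : G)) u) →
      ev (χ : G → ℂ) (ef M H f * u) = (D : ℂ) * ev (χ : G → ℂ) (emb H i * u)) ∧
    (∀ η ∈ f, ∀ u : RG M H, (∀ h : H, Commute (el h) u) →
      ev (η : H → ℂ) u = (D : ℂ) * ev (η : H → ℂ) (i * u)) := by
  classical
  haveI := L.cyc
  have hf := L.ind.1
  obtain ⟨T, hT⟩ := exists_isDecomp (S := (⊤ : Subalgebra (locSubring M) (RG M H)))
    smul_eq_zero' (Algebra.mem_top (x := eBlock hM hf)) (eBlock_idem hM hf)
  have hne : eBlock hM hf ≠ 0 := fun h => by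
    obtain ⟨η, hη⟩ := IsPBlock.nonempty hf
    have h1 := ev_mul_eBlock hM hf hη (1 : RG M H)
    rw [h, mul_zero, ev_zero, ← el_one, ev_el] at h1
    exact IsIrrCharacter.apply_one_ne_zero η.2 h1.symm
  obtain ⟨i, hiT⟩ : T.Nonempty := Finset.nonempty_of_ne_empty fun h => hne (by
    rw [← hT.sum, h, Finset.sum_empty])
  have hi := hT.prim i hiT
  have hiB : i * eBlock hM hf = i := hT.mul_right hiT
  obtain ⟨X, D⟩ := exists_rankOneCorner hM hf L.defectf L.rank hi hiB
  have heq : ∀ l, l ∈ T → IsEquivIn (⊤ : Subalgebra (locSubring M) (RG M H)) l i := fun l hl' =>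
    isEquivIn_of_rank_one hM hf L.defectf L.rank (hT.prim l hl') (hT.mul_right hl') hi hiB
  refine ⟨i, X, _, T.card, Finset.card_pos.2 ⟨i, hiT⟩, D, fun χ u hu => ?_, fun η hη u hu => ?_⟩
  · let τ : RG M G →+ ℂ :=
      { toFun := ev (χ : G → ℂ), map_zero' := ev_zero _, map_add' := ev_add _ }
    have h := trace_decomp (A := RG M G) (emb H : RG M H →ₐ[locSubring M] RG M G).toRingHom τ
      (fun a b => ev_mul_comm (irr_isClassFunction χ) a b) hT heq (u := u)
      (fun y => commute_emb_of_el hu y)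
    rw [← emb_eBlock H hM hf]
    exact h
  · let τ : RG M H →+ ℂ :=
      { toFun := ev (η : H → ℂ), map_zero' := ev_zero _, map_add' := ev_add _ }
    have h := trace_decomp (A := RG M H) (RingHom.id _) τ
      (fun a b => ev_mul_comm (irr_isClassFunction η) a b) hT heq (u := u)
      (fun y => commute_of_el hu y)
    rw [← ev_mul_eBlock hM hf hη u, ← eBlock_mul_comm hM hf u]
    exact h

set_option maxHeartbeats 1000000 in
open scoped Classical in
/-- **The relation.** -/
theorem central_relation (hq : Nat.card PH = p) {i : RG M H} {D : ℕ} (hD : 0 < D)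
    (hDG : ∀ (χ : IrrCharacter G) (u : RG M G), (∀ h : H, Commute (el (h : G)) u) →
      ev (χ : G → ℂ) (ef M H f * u) = (D : ℂ) * ev (χ : G → ℂ) (emb H i * u))
    (χ : IrrCharacter G) {c c' : RG M H} (hc : ∀ h : H, Commute (el h) c)
    (hc' : ∀ h : H, Commute (el h) c') (hcz : cj (⟨z, L.z_mem⟩ : H) i = i)
    (hct : ∀ j, cj (t ^ j) (emb H c) = emb H c) :
    ∃ r : locSubring M, (Nat.card G : ℂ) * (D : ℂ) / ((χ : G → ℂ) 1 * (Nat.card H : ℂ)) *
      (ev (χ : G → ℂ) (emb H (i * c')) * ev (χ : G → ℂ) (emb H (i * c))) =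
      (e : ℂ) * ev (χ : G → ℂ) (emb H (i * (c' * c))) + (p : ℂ) * (r : ℂ) := by
  haveI := Fact.mk hM.1
  have hf := L.ind.1
  have hcl := irr_isClassFunction χ
  set E := eBlock hM hf with hE
  have hEc : ∀ h : H, Commute (el h) E := fun h => (eBlock_mul_comm hM hf (el h)).symm
  have hcen : ∀ {u : RG M H}, (∀ h : H, Commute (el h) u) → ∀ h : H, cj h u = u :=
    fun hu h => commute_el_iff.1 (hu h)
  have hD' : ∀ u : RG M H, (∀ h : H, Commute (el h) u) →
      ev (χ : G → ℂ) (emb H (E * u)) = (D : ℂ) * ev (χ : G → ℂ) (emb H (i * u)) := fun u hu => by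
    rw [map_mul, map_mul, emb_eBlock]
    exact hDG χ _ fun h => by rw [← emb_el]; exact (hu h).map (emb H)
  obtain ⟨v, w, hw, hEv⟩ := exists_p_smul_eBlock hM hf L.defectf hq
  set y := E * c with hy
  have hyp : p • y = trAll (v * c) + (p * p) • (w * c) := by
    rw [hy, ← smul_mul_assoc, hEv, add_mul, trAll_mul v (hcen hc), smul_mul_assoc]
  obtain ⟨r, hr⟩ := L.sum_outside χ (a := i * c')
    (by rw [map_mul, hcz, hcen hc']) (fun h => by rw [map_mul, hw, hcen hc]) hyp
  refine ⟨r, ?_⟩
  -- the three parts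
  set F : G → ℂ := fun g => ev (χ : G → ℂ) (emb H (E * c') * cj g (emb H y)) with hF
  set Out := Finset.univ.filter (fun g : G => g ∉ N) with hOut
  have hout : ∑ g ∈ Out, F g = (D : ℂ) * ((p : ℂ) * (Nat.card H : ℂ) * (r : ℂ)) := by
    set S := ∑ g ∈ Out, cj g (emb H y) with hS
    have hSc : ∀ h : H, Commute (el (h : G)) (emb H c' * S) := fun h => by
      refine Commute.mul_right (by rw [← emb_el]; exact (hc' h).map (emb H)) (commute_el_iff.2 ?_)
      rw [hS, map_sum]
      exact Finset.sum_equiv (Equiv.mulLeft (h : G))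
        (fun g => by simp [hOut, N.mul_mem_cancel_left (L.H_le h.2)]) fun g _ => (cj_mul _ _ _).symm
    rw [← hr, ← ev_sum, ← ev_sum, ← Finset.mul_sum, ← Finset.mul_sum, ← hS, map_mul, map_mul,
      emb_eBlock, mul_assoc, hDG χ _ hSc, mul_assoc]
  let T' : Finset G := (Finset.range e ×ˢ (Finset.univ : Finset H)).image fun a => t ^ a.1 * (a.2 : G)
  have hin : ∑ g ∈ Finset.univ.filter (fun g : G => g ∈ N), F g =
      (e : ℂ) * (Nat.card H : ℂ) * ((D : ℂ) * ev (χ : G → ℂ) (emb H (i * (c' * c)))) := by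
    rw [← Finset.sum_subset (s₁ := T') (fun x hx => ?_) fun x hxN hxT => ?_]
    · have hsame : ∀ x ∈ T', F x = (D : ℂ) * ev (χ : G → ℂ) (emb H (i * (c' * c))) := by
        intro x hx
        obtain ⟨⟨j, h⟩, -, rfl⟩ := Finset.mem_image.1 hx
        have hEt : cj (t ^ j) (emb H E) = emb H E := by
          rw [emb_eBlock, ← cj_iterate]
          exact Function.iterate_fixed L.hfix j
        simp only [hF]
        rw [cj_mul, cj_emb, hy, map_mul (cj h), hcen hEc, hcen hc, map_mul (emb H) E c, map_mul (cj (t ^ j)),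
          hEt, hct j, ← map_mul, ← map_mul, ← hD' _ (fun h => (hc' h).mul_right (hc h))]
        congr 2
        rw [mul_assoc, ← mul_assoc c', ← eBlock_mul_comm hM hf c', mul_assoc, ← mul_assoc,
          eBlock_idem]
      rw [Finset.sum_congr rfl hsame, Finset.sum_const, nsmul_eq_mul,
        Finset.card_image_of_injOn ?_, Finset.card_product, Finset.card_range, Finset.card_univ,
        ← Nat.card_eq_fintype_card, Nat.cast_mul]
      rintro ⟨a₁, a₂⟩ ha ⟨b₁, b₂⟩ hb hab
      simp only [Finset.coe_product, Set.mem_prod, Finset.mem_coe, Finset.mem_range] at ha hb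
      simp only at hab
      have h1 : a₁ = b₁ := L.hdist _ ha.1 _ hb.1 (by
        rw [show (t ^ a₁)⁻¹ * t ^ b₁ = (a₂ : G) * (b₂ : G)⁻¹ by
          rw [inv_mul_eq_iff_eq_mul, ← mul_assoc, hab, mul_inv_cancel_right]]
        exact H.mul_mem a₂.2 (H.inv_mem b₂.2))
      subst h1
      exact Prod.ext rfl (Subtype.ext (mul_left_cancel hab))
    · obtain ⟨a, -, rfl⟩ := Finset.mem_image.1 hx
      exact Finset.mem_filter.2 ⟨Finset.mem_univ _, N.mul_mem (pow_mem L.ht _) (L.H_le a.2.2)⟩
    · have hxN' := (Finset.mem_filter.1 hxN).2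
      have hblk := isPBlock_transBlock (conjEquiv x (L.conj_mem hxN')) hf
      have hcb := subgroupBlockCoeff_transBlock x (L.conj_mem hxN') f
      have hzero : emb H E * cj x (emb H E) = 0 := by
        rw [emb_eBlock, cj_ef_of_coe hM hf hblk x hcb]
        refine ef_mul_ne hM hf hblk fun h => L.hkill x hxN' (fun j hj hjH => hxT ?_) (by rw [← hcb, ← h])
        exact Finset.mem_image.2 ⟨(j, ⟨_, hjH⟩),
          Finset.mem_product.2 ⟨Finset.mem_range.2 hj, Finset.mem_univ _⟩, by simp⟩
      simp only [hF, hy]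
      rw [map_mul, map_mul, map_mul, (show Commute (emb H E) (emb H c') from
        Commute.map (show Commute E c' from eBlock_mul_comm hM hf c') (emb H)).eq, mul_assoc,
        ← mul_assoc (emb H E), hzero, zero_mul, mul_zero, ev_zero]
  have hsum : ∑ g : G, F g = (Nat.card G : ℂ) / (χ : G → ℂ) 1 *
      (ev (χ : G → ℂ) (emb H (E * c')) * ev (χ : G → ℂ) (emb H y)) := sum_ev_mul_cj χ _ _
  rw [← Finset.sum_filter_add_sum_filter_not Finset.univ (fun g : G => g ∈ N) F, hin,
    show (Finset.univ.filter fun g : G => ¬ g ∈ N) = Out from rfl, hout, hy, hD' c hc, hD' c' hc'] at hsum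
  have hD0 : (D : ℂ) ≠ 0 := Nat.cast_ne_zero.2 hD.ne'
  have hH0 : (Nat.card H : ℂ) ≠ 0 := natCard_ne_zero_complex
  have hχ0 := IsIrrCharacter.apply_one_ne_zero χ.2
  field_simp at hsum ⊢
  linear_combination -hsum

end LocalData

end Cfsg.Agent.Lib.CyclicTree
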