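import Cfsg.Agent.Lib.CyclicTree.CentralRelation
import Cfsg.Agent.Lib.CyclicPieces.Cyclotomic

/-!
# The complementary pattern does not occur
-/

set_option autoImplicit false
set_option linter.unusedSectionVars false
set_option linter.style.haveILetI false

namespace Cfsg.Agent.Lib.CyclicTree

open Cfsg Cfsg.Agent.Lib.Blocks Cfsg.Agent.Lib.Characters Cfsg.Agent.Lib.BlockHeights
open Cfsg.Agent.Lib.BrauerPairs Cfsg.Agent.Lib.BrauerStar Cfsg.Agent.Lib.CyclicCorner
open Cfsg.Agent.Lib.CyclicPieces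

universe u

variable {G : Type u} [Group G] [Fintype G] {M : Ideal AlgInt} [hMp : M.IsPrime] {p : ℕ}
variable {hM : IsPModular p M} {B : Set (IrrCharacter G)} {z : G} {H N : Subgroup G} [Fintype H]
  {f : Set (IrrCharacter H)} {PH : Subgroup H} {t : G} {e : ℕ}
  {L : LocalData hM B z H N f PH t e} {η₀ : IrrCharacter H} {m : ℕ} {ηs : Fin m → IrrCharacter H}
  {y : Fin m → IrrCharacter G} {d : IrrCharacter G → ℤ}

set_option maxHeartbeats 4000000 in
open scoped Classical in
/-- **The complementary pattern does not occur.** -/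
theorem TreeData.sunflower (S : TreeData L η₀ ηs y d) :
    Nat.card B = e + m ∧ ∀ j i, coordW η₀ (ηs j) (y i) = if i = j then d (y i) else 0 := by
  rcases S.shape with h | ⟨hm3, hcardB, hco⟩
  · exact h
  exfalso
  haveI := Fact.mk hM.1
  haveI : Fintype (IrrCharacter H) := Fintype.ofFinite _
  haveI := L.cyc
  have hp1 : 1 < p := hM.1.one_lt
  have hf := L.ind.1
  have hme : m ≤ e + 1 := by
    have := S.rank_eq
    have := blockRank_pos hM L.ind.2.1
    omega
  have hele : e ≤ p - 1 := Nat.le_of_dvd (by omega) L.e_dvd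
  -- the defect group has order `p`
  have hq : Nat.card PH = p := by
    obtain ⟨k, hk⟩ := IsPGroup.iff_card.1 (IsDefectGroup.isPGroup L.defectf (p := p))
    rcases k with _ | _ | k
    · have := L.one_lt; rw [hk, pow_zero] at this; omega
    · simpa using hk
    · exfalso
      have h1 : p ^ 2 ≤ Nat.card PH := by rw [hk]; exact Nat.pow_le_pow_right (by omega) (by omega)
      rw [← S.card_eq] at h1
      have h2 : m * e ≤ (e + 1) * e := Nat.mul_le_mul_right e hme
      have h3 : (e + 1) * e ≤ p * (p - 1) := Nat.mul_le_mul (by omega) hele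
      have h4 : p * (p - 1) + p = p ^ 2 := by
        rw [pow_two, ← Nat.mul_succ, Nat.succ_eq_add_one, Nat.sub_add_cancel (by omega)]
      omega
  have hmep : m * e + 1 = p := hq ▸ S.card_eq
  have he2 : 2 ≤ e := by omega
  have h3e : 3 * e ≤ p - 1 := by
    have := Nat.mul_le_mul_right e hm3
    omega
  -- the exponents
  set zH : H := ⟨z, L.z_mem⟩ with hzH
  have hzHo : orderOf zH = p := by rw [← Subgroup.orderOf_coe]; exact L.zo
  have hpow : ∀ a b : ℕ, (a : ZMod p) = b → zH ^ a = zH ^ b := fun a b h => by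
    rw [pow_eq_pow_iff_modEq, hzHo]
    exact (ZMod.natCast_eq_natCast_iff a b p).1 h
  have hpowG : ∀ a b : ℕ, z ^ a = z ^ b → (a : ZMod p) = b := fun a b h => by
    rw [pow_eq_pow_iff_modEq, L.zo] at h
    exact (ZMod.natCast_eq_natCast_iff a b p).2 h
  obtain ⟨k₁, hk₁⟩ : ∃ k : ℕ, t * z * t⁻¹ = z ^ k := by
    obtain ⟨k, hk⟩ := mem_powers_iff_mem_zpowers.2 ((L.mem_N t).1 L.ht)
    exact ⟨k, hk.symm⟩
  set c₁ : ZMod p := (k₁ : ZMod p) with hc₁
  have hconj : ∀ j : ℕ, ∀ x : ZMod p, t ^ j * z ^ x.val * (t ^ j)⁻¹ = z ^ (x * c₁ ^ j).val := by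
    intro j
    induction j with
    | zero => intro x; simp
    | succ j ih =>
      intro x
      have h1 : t * z ^ x.val * t⁻¹ = z ^ (x * c₁).val := by
        rw [← conj_pow, hk₁, ← pow_mul, pow_eq_pow_iff_modEq, L.zo, ← ZMod.natCast_eq_natCast_iff,
          Nat.cast_mul, ZMod.natCast_zmod_val, ZMod.natCast_zmod_val, hc₁, mul_comm]
      calc t ^ (j + 1) * z ^ x.val * (t ^ (j + 1))⁻¹ = t ^ j * (t * z ^ x.val * t⁻¹) * (t ^ j)⁻¹ := by
            rw [pow_succ]; group
        _ = _ := by rw [h1, ih, pow_succ', mul_assoc]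
  have hcpow : ∀ j : ℕ, c₁ ^ j = 1 ↔ t ^ j ∈ H := by
    intro j
    have h1 := hconj j 1
    rw [ZMod.val_one, pow_one, one_mul] at h1
    rw [L.mem_H]
    constructor
    · intro h
      rw [h, ZMod.val_one, pow_one] at h1
      show z * t ^ j = t ^ j * z
      calc z * t ^ j = t ^ j * z * (t ^ j)⁻¹ * t ^ j := by rw [h1]
        _ = t ^ j * z := by group
    · intro h
      rw [← h.eq, mul_inv_cancel_right] at h1
      have h2 := hpowG (c₁ ^ j).val 1 (by rw [pow_one]; exact h1.symm)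
      rwa [ZMod.natCast_zmod_val, Nat.cast_one] at h2
  have hc0 : c₁ ≠ 0 := fun h => one_ne_zero (α := ZMod p) (by
    have h2 := (hcpow e).2 L.hte
    rw [h, zero_pow L.e_pos.ne'] at h2
    exact h2.symm)
  set R : Finset (ZMod p) := (Finset.range e).image fun j => c₁ ^ j with hR
  have hinjR : Set.InjOn (fun j => c₁ ^ j) (Finset.range e : Set ℕ) := by
    intro a ha b hb hab
    simp only [Finset.coe_range, Set.mem_Iio] at ha hb
    simp only at hab
    have key : ∀ a b : ℕ, a ≤ b → b < e → c₁ ^ a = c₁ ^ b → a = b := fun a b hab' hb' h => by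
      refine L.hdist a (by omega) b hb' ?_
      rw [show (t ^ a)⁻¹ * t ^ b = t ^ (b - a) by
        rw [inv_mul_eq_iff_eq_mul, ← pow_add]; congr 1; omega]
      refine (hcpow _).1 (mul_left_cancel₀ (pow_ne_zero a hc0) ?_)
      rw [← pow_add, mul_one, h]
      congr 1
      omega
    rcases le_total a b with h | h
    · exact key a b h hb hab
    · exact (key b a h ha hab.symm).symm
  have hRcard : R.card = e := by rw [hR, Finset.card_image_of_injOn hinjR, Finset.card_range]
  have hRroots : R = (Polynomial.nthRoots e (1 : ZMod p)).toFinset := by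
    refine Finset.eq_of_subset_of_card_le (fun x hx => ?_) ?_
    · obtain ⟨j, -, rfl⟩ := Finset.mem_image.1 hx
      rw [Multiset.mem_toFinset, Polynomial.mem_nthRoots L.e_pos, ← pow_mul, mul_comm, pow_mul,
        (hcpow e).2 L.hte, one_pow]
    · rw [hRcard]
      exact (Multiset.toFinset_card_le _).trans (Polynomial.card_nthRoots e 1)
  have hRne : ∀ x ∈ R, x ≠ 0 := fun x hx => by
    obtain ⟨j, -, rfl⟩ := Finset.mem_image.1 hx
    exact pow_ne_zero _ hc0
  have hRmul : ∀ j, ∀ x ∈ R, x * c₁ ^ j ∈ R := fun j x hx => by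
    rw [hRroots, Multiset.mem_toFinset, Polynomial.mem_nthRoots L.e_pos] at hx ⊢
    rw [mul_pow, hx, ← pow_mul, mul_comm j, pow_mul, (hcpow e).2 L.hte, one_pow, one_mul]
  -- the central values
  obtain ⟨i, X, q', D, hD, hC, hDG, hDf⟩ := L.exists_corner
  have hzc : ∀ (a : ℕ) (h : H), Commute (el h) (el (zH ^ a) : RG M H) := fun a h =>
    ((show Commute h zH from Subtype.ext (((L.mem_H _).1 h.2).symm.eq)).pow_right a).map
      (MonoidAlgebra.of (locSubring M) H)
  have hic : ∀ {u : RG M H}, (∀ h : H, Commute (el h) u) →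
      InCorner (⊤ : Subalgebra (locSubring M) (RG M H)) i i (i * u) := fun {u} hu =>
    ⟨Algebra.mem_top, by rw [← mul_assoc, hC.prim.idem], by
      rw [mul_assoc, ← (commute_of_el hu i).eq, ← mul_assoc, hC.prim.idem]⟩
  have hmul : ∀ {η : IrrCharacter H}, η ∈ f → ∀ {a b : RG M H}, (∀ h : H, Commute (el h) a) →
      (∀ h : H, Commute (el h) b) → ev (η : H → ℂ) (i * (a * b)) =
        ev (η : H → ℂ) (i * a) * ev (η : H → ℂ) (i * b) := fun {η} hη {a b} ha hb => by
    rw [← hC.ev_mul hη (hic ha) (hic hb)]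
    congr 1
    rw [← mul_assoc, ← mul_assoc, (hic ha).2.2]
  set lam : IrrCharacter H → ZMod p → ℂ := fun η x => ev (η : H → ℂ) (i * el (zH ^ x.val)) with hlam
  have hlamD : ∀ η ∈ f, ∀ x : ZMod p, (η : H → ℂ) (zH ^ x.val) = (D : ℂ) * lam η x :=
    fun η hη x => by rw [← ev_el (M := M) (η : H → ℂ) (zH ^ x.val)]; exact hDf η hη _ (hzc _)
  have hlam0 : ∀ η ∈ f, lam η 0 = 1 := fun η hη => by
    simp only [hlam, ZMod.val_zero, pow_zero, el_one, mul_one]
    exact hC.one η hη
  have hlamadd : ∀ η ∈ f, ∀ x x', lam η (x + x') = lam η x * lam η x' := fun η hη x x' => by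
    simp only [hlam]
    rw [← hmul hη (hzc _) (hzc _), ← el_mul, ← pow_add]
    congr 3
    exact hpow _ _ (by rw [Nat.cast_add, ZMod.natCast_zmod_val, ZMod.natCast_zmod_val,
      ZMod.natCast_zmod_val])
  have hprim : IsPrimitiveRoot (ZMod.stdAddChar (1 : ZMod p)) p := by
    have ho : orderOf (ZMod.stdAddChar (1 : ZMod p)) = p := orderOf_eq_prime
      (by rw [← AddChar.map_nsmul_eq_pow, nsmul_one, ZMod.natCast_self, AddChar.map_zero_eq_one])
      fun h => one_ne_zero (α := ZMod p)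
        (ZMod.injective_stdAddChar (h.trans (AddChar.map_zero_eq_one _).symm))
    conv => arg 2; rw [← ho]
    exact IsPrimitiveRoot.orderOf _
  have hchar : ∀ η ∈ f, ∃ c : ZMod p, ∀ x, lam η x = ZMod.stdAddChar (x * c) := by
    intro η hη
    have hnat : ∀ n : ℕ, lam η (n : ZMod p) = lam η 1 ^ n := by
      intro n
      induction n with
      | zero => rw [Nat.cast_zero, hlam0 η hη, pow_zero]
      | succ n ih => rw [Nat.cast_succ, hlamadd η hη, ih, pow_succ]
    obtain ⟨c, -, hc⟩ := hprim.eq_pow_of_pow_eq_one (ξ := lam η 1)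
      (by rw [← hnat, ZMod.natCast_self, hlam0 η hη])
    refine ⟨(c : ZMod p), fun x => ?_⟩
    rw [← ZMod.natCast_zmod_val x, hnat, ← hc, ← pow_mul, ← AddChar.map_nsmul_eq_pow, nsmul_one,
      Nat.cast_mul, mul_comm]
  choose! cη hcη using hchar
  have htc : ∀ η ∈ f, ∀ j, cη (L.nact (pow_mem L.ht j) η) * c₁ ^ j = cη η := by
    intro η hη j
    have hη' := (L.nact_mem_iff (pow_mem L.ht j) hη).2 (L.gconj_pow j)
    apply ZMod.injective_stdAddChar
    have h2 : (L.nact (pow_mem L.ht j) η : H → ℂ) (zH ^ (c₁ ^ j).val) = (η : H → ℂ) (zH ^ (1 : ZMod p).val) := by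
      refine L.nact_apply _ η _ _ ?_
      simp only [SubmonoidClass.coe_pow, hzH]
      rw [show z ^ (c₁ ^ j).val = t ^ j * z ^ (1 : ZMod p).val * (t ^ j)⁻¹ by rw [hconj, one_mul]]
      group
    rw [hlamD _ hη', hlamD _ hη, hcη _ hη', hcη _ hη, one_mul] at h2
    rw [mul_comm]
    exact mul_left_cancel₀ (Nat.cast_ne_zero.2 hD.ne') h2
  have hc00 : cη η₀ = 0 := by
    have h1 := htc η₀ S.mem₀ 1
    rw [S.fix₀ 1, pow_one] at h1
    have h2 : c₁ ≠ 1 := fun h => L.pow_notMem one_ne_zero (by omega)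
      ((hcpow 1).1 (by rw [h, one_pow]))
    have h3 : cη η₀ * (c₁ - 1) = 0 := by rw [mul_sub, h1, mul_one, sub_self]
    exact (mul_eq_zero.1 h3).resolve_right (sub_ne_zero.2 h2)
  set fs : Finset (IrrCharacter H) := Finset.univ.filter (fun η => η ∈ f) with hfs
  have hfsmem : ∀ η, η ∈ fs ↔ η ∈ f := fun η => by simp [hfs]
  have hfscard : fs.card = p := by
    rw [← hq, ← L.card_f, Nat.card_eq_card_finite_toFinset (Set.toFinite f)]
    congr 1
    ext η
    simp [hfs]
  have hsum0 : ∀ x : ZMod p, x ≠ 0 → ∑ η ∈ fs, ZMod.stdAddChar (x * cη η) = 0 := by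
    intro x hx
    have hsing : ¬ IsPRegular p (zH ^ x.val) := by
      show ¬ ¬ p ∣ orderOf (zH ^ x.val)
      rw [not_not, orderOf_pow' _ (fun h => hx (by rw [← ZMod.natCast_zmod_val x, h, Nat.cast_zero])),
        hzHo, Nat.Coprime.gcd_eq_one ((hM.1.coprime_iff_not_dvd).2 fun h => hx (by
          rw [← ZMod.natCast_zmod_val x, (ZMod.natCast_eq_zero_iff _ _).2 h])), Nat.div_one]
    have h1 := L.sum_singular hsing
    rw [← Finset.sum_filter, ← hfs, Finset.sum_congr rfl fun η hη => by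
      rw [hlamD η ((hfsmem η).1 hη), hcη η ((hfsmem η).1 hη)], ← Finset.mul_sum] at h1
    exact (mul_eq_zero.1 h1).resolve_left (Nat.cast_ne_zero.2 hD.ne')
  -- an orbit with a nontrivial character
  obtain ⟨i₀, hi₀⟩ : ∃ i₀, cη (ηs i₀) ≠ 0 := by
    by_contra hno
    push Not at hno
    have hall : ∀ η ∈ fs, cη η = 0 := fun η hη => by
      by_cases h : η = η₀
      · rw [h, hc00]
      obtain ⟨i', hi'⟩ := S.cover η ((hfsmem η).1 hη) h
      obtain ⟨j, -, hj⟩ := S.orbit η ((hfsmem η).1 hη) h i' hi'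
      rw [← htc η ((hfsmem η).1 hη) j, hj, hno, zero_mul]
    have h1 := hsum0 1 one_ne_zero
    rw [Finset.sum_congr rfl fun η hη => by rw [hall η hη, mul_zero, AddChar.map_zero_eq_one],
      Finset.sum_const, hfscard, nsmul_one] at h1
    exact hM.1.ne_zero (Nat.cast_eq_zero.1 h1)
  -- its members
  set χ := y i₀ with hχ
  set ε := d χ with hε
  have hεε : ε = 1 ∨ ε = -1 := S.sign χ (S.y_mem i₀)
  let ηj : ℕ → IrrCharacter H := fun j => L.nact (N.inv_mem (pow_mem L.ht j)) (ηs i₀)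
  have hback : ∀ j, L.nact (pow_mem L.ht j) (ηj j) = ηs i₀ := fun j => by
    rw [← L.nact_comp (pow_mem L.ht j) (N.inv_mem (pow_mem L.ht j)) (by simp [N.one_mem])]
    exact L.nact_of_mem (by simp [H.one_mem]) _ _
  have hηjf : ∀ j, ηj j ∈ f := fun j => by
    refine (L.nact_mem_iff _ (S.mem i₀).1).2 ?_
    conv_lhs => rw [← L.gconj_pow j, ← gconj_mul, inv_mul_cancel, gconj_one]
  have hηjne : ∀ j, ηj j ≠ η₀ := fun j h => (S.mem i₀).2 (by rw [← hback j, h, S.fix₀])
  set O : Finset (IrrCharacter H) := (Finset.range e).image ηj with hO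
  have hOinj : Set.InjOn ηj (Finset.range e : Set ℕ) := by
    intro a ha b hb hab
    simp only [Finset.coe_range, Set.mem_Iio] at ha hb
    rcases le_total a b with h | h
    · exact L.orbit_inj (hηjf a) (hηjne a) S.uniq₀ h hb (hback a) (by rw [hab]; exact hback b)
    · exact (L.orbit_inj (hηjf a) (hηjne a) S.uniq₀ h ha (by rw [hab]; exact hback b) (hback a)).symm
  have hmult : ∀ η ∈ f, (mult χ η : ℂ) = ((mult χ η₀ : ℂ) - ε) +
      ((if η = η₀ then (ε : ℂ) else 0) + if η ∈ O then (ε : ℂ) else 0) := by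
    intro η hη
    by_cases h0 : η = η₀
    · subst h0
      have : η ∉ O := fun h => by
        obtain ⟨j, -, hj⟩ := Finset.mem_image.1 h
        exact hηjne j hj
      rw [if_pos rfl, if_neg this]
      ring
    rw [if_neg h0, zero_add]
    obtain ⟨i', hi'⟩ := S.cover η hη h0
    have hw : (mult χ η₀ : ℤ) - mult χ η = if i₀ = i' then 0 else ε :=
      (congrFun hi' χ).trans (hco i' i₀)
    by_cases hii : i₀ = i'
    · obtain ⟨j, hj, hj'⟩ := S.orbit η hη h0 i' hi'
      have hin : η ∈ O := Finset.mem_image.2 ⟨j, Finset.mem_range.2 hj, L.nact_injective _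
        ((hback j).trans (by rw [hj', hii]))⟩
      rw [if_pos hii, sub_eq_zero] at hw
      rw [if_pos hin, sub_add_cancel]
      exact_mod_cast hw.symm
    · have hnot : η ∉ O := fun h => hii (by
        obtain ⟨j, -, rfl⟩ := Finset.mem_image.1 h
        have h1 : coordW η₀ (ηj j) χ = coordW η₀ (ηs i₀) χ :=
          congrFun (L.coordW_nact _ η₀ (ηs i₀)) χ
        by_contra hne'
        have h2 := (congrFun hi' χ).symm.trans h1
        rw [hco i' i₀, hco i₀ i₀, if_pos rfl, if_neg hne'] at h2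
        rcases hεε with h | h <;> rw [← hε, h] at h2 <;> omega)
      rw [if_neg hii] at hw
      rw [if_neg hnot, add_zero, ← Int.cast_natCast (mult χ η), show (mult χ η : ℤ) = (mult χ η₀ : ℤ) - ε by omega,
        Int.cast_sub, Int.cast_natCast]
  have hwsum : ∀ F : IrrCharacter H → ℂ, ∑ η ∈ fs, (mult χ η : ℂ) * F η =
      ((mult χ η₀ : ℂ) - ε) * ∑ η ∈ fs, F η + ε * (F η₀ + ∑ j ∈ Finset.range e, F (ηj j)) := by
    intro F
    have hsub : O ⊆ fs := fun η hη => by
      obtain ⟨j, -, rfl⟩ := Finset.mem_image.1 hη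
      exact (hfsmem _).2 (hηjf j)
    rw [Finset.sum_congr rfl fun η hη => by rw [hmult η ((hfsmem η).1 hη), add_mul, add_mul,
      ite_mul, zero_mul, ite_mul, zero_mul], Finset.sum_add_distrib, Finset.sum_add_distrib,
      ← Finset.mul_sum, Finset.sum_ite_eq', if_pos ((hfsmem _).2 S.mem₀), Finset.sum_ite_mem,
      Finset.inter_eq_right.2 hsub, ← Finset.mul_sum, hO, Finset.sum_image hOinj, mul_add]
  -- the element
  set gh : RG M H := ∑ x ∈ R, el (zH ^ x.val) with hgh
  have hghc : ∀ h : H, Commute (el h) gh := fun h => Commute.sum_right _ _ _ fun x _ => hzc _ h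
  have hghv : ∀ η ∈ f, ev (η : H → ℂ) (i * gh) = ∑ x ∈ R, ZMod.stdAddChar (x * cη η) := fun η hη => by
    rw [hgh, Finset.mul_sum, ev_sum]
    exact Finset.sum_congr rfl fun x _ => hcη η hη x
  have hPhi : ∀ u : RG M H, (∀ h : H, Commute (el h) u) →
      ev (χ : G → ℂ) (emb H (i * u)) = ∑ η ∈ fs, (mult χ η : ℂ) * ev (η : H → ℂ) (i * u) := by
    intro u hu
    rw [ev_emb_eq_sum, hfs, Finset.sum_filter]
    refine Finset.sum_congr rfl fun η _ => ?_
    split_ifs with h
    · rfl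
    · rw [ev_eq_zero_of_not_mem hM hf ?_ h, mul_zero]
      rw [mul_assoc, ← eBlock_mul_comm hM hf u, ← mul_assoc, hC.mul_block]
  set σ : ℂ := ∑ x ∈ R, ZMod.stdAddChar (x * cη (ηs i₀)) with hσ
  have hPO : ∀ j, (∑ x ∈ R, ZMod.stdAddChar (x * cη (ηj j))) = σ := by
    intro j
    refine (Finset.sum_bij (fun x _ => x * c₁ ^ j) (fun x hx => hRmul j x hx)
      (fun a _ b _ h => mul_right_cancel₀ (pow_ne_zero j hc0) h) (fun x hx => ?_) fun x _ => ?_)
    · have hsurj := Finset.surj_on_of_inj_on_of_card_le (fun a (_ : a ∈ R) => a * c₁ ^ j)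
        (fun a ha => hRmul j a ha) (fun a b _ _ h => mul_right_cancel₀ (pow_ne_zero j hc0) h) le_rfl x hx
      obtain ⟨a, ha, hae⟩ := hsurj
      exact ⟨a, ha, hae.symm⟩
    · rw [← htc (ηj j) (hηjf j) j, hback j]
      congr 1
      ring
  have hP0 : (∑ x ∈ R, ZMod.stdAddChar (x * cη η₀)) = (e : ℂ) := by
    simp [hc00, hRcard]
  -- the three sums
  set T₀ : ℤ := (mult χ η₀ : ℤ) - ε with hT₀
  have hT₀' : (mult χ η₀ : ℂ) - ε = (T₀ : ℂ) := by simp [hT₀]
  have hone' : ∀ h : H, Commute (el h) (1 : RG M H) := fun h => Commute.one_right _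
  have hn : ev (χ : G → ℂ) (emb H (i * 1)) = (ε : ℂ) * (1 + e) + (p : ℂ) * T₀ := by
    rw [hPhi 1 hone', hwsum, hT₀']
    simp only [mul_one]
    rw [Finset.sum_congr rfl fun η hη => hC.one η ((hfsmem η).1 hη), Finset.sum_const, hfscard,
      hC.one _ S.mem₀, Finset.sum_congr rfl fun j _ => hC.one _ (hηjf j), Finset.sum_const,
      Finset.card_range, nsmul_one, nsmul_one]
    ring
  have hG1 : ev (χ : G → ℂ) (emb H (i * gh)) = (ε : ℂ) * (e * (1 + σ)) := by
    rw [hPhi gh hghc, hwsum, Finset.sum_congr rfl fun η hη => hghv η ((hfsmem η).1 hη), Finset.sum_comm,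
      Finset.sum_eq_zero fun x hx => hsum0 x (hRne x hx), hghv _ S.mem₀, hP0,
      Finset.sum_congr rfl fun j _ => (hghv _ (hηjf j)).trans (hPO j), Finset.sum_const,
      Finset.card_range, nsmul_eq_mul]
    ring
  obtain ⟨K, hG2⟩ : ∃ K : ℕ, ev (χ : G → ℂ) (emb H (i * (gh * gh))) =
      (ε : ℂ) * (e * (e + σ ^ 2)) + (p : ℂ) * ((T₀ : ℂ) * K) := by
    refine ⟨((R ×ˢ R).filter fun x => x.1 + x.2 = 0).card, ?_⟩
    have hsq : ∀ η ∈ f, ev (η : H → ℂ) (i * (gh * gh)) = (∑ x ∈ R, ZMod.stdAddChar (x * cη η)) ^ 2 :=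
      fun η hη => by rw [hmul hη hghc hghc, hghv η hη, sq]
    rw [hPhi _ (fun h => (hghc h).mul_right (hghc h)), hwsum, hT₀',
      Finset.sum_congr rfl fun η hη => hsq η ((hfsmem η).1 hη), hsq _ S.mem₀, hP0,
      Finset.sum_congr rfl fun j _ => (hsq _ (hηjf j)).trans (by rw [hPO j]), Finset.sum_const,
      Finset.card_range, nsmul_eq_mul]
    have h1 : ∑ η ∈ fs, (∑ x ∈ R, ZMod.stdAddChar (x * cη η)) ^ 2 =
        (p : ℂ) * ((R ×ˢ R).filter fun x => x.1 + x.2 = 0).card := by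
      simp only [sq, Finset.sum_mul_sum, ← AddChar.map_add_eq_mul, ← add_mul]
      rw [Finset.sum_comm, Finset.sum_congr rfl fun a _ => Finset.sum_comm,
        ← Finset.sum_product' R R fun a b => ∑ η ∈ fs, ZMod.stdAddChar ((a + b) * cη η),
        Finset.card_filter, Nat.cast_sum, Finset.mul_sum]
      refine Finset.sum_congr rfl fun x _ => ?_
      by_cases h : x.1 + x.2 = 0
      · rw [if_pos h, h, Finset.sum_congr rfl fun η _ => by rw [zero_mul, AddChar.map_zero_eq_one],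
          Finset.sum_const, hfscard, nsmul_one, Nat.cast_one, mul_one]
      · rw [if_neg h, hsum0 _ h, Nat.cast_zero, mul_zero]
    rw [h1]
    ring
  -- the relation
  have hcz : cj (⟨z, L.z_mem⟩ : H) i = i :=
    commute_el_iff.1 (commute_of_el (fun h => by simpa using hzc 1 h) i).symm
  have hct1 : ∀ j, cj (t ^ j) (emb H (1 : RG M H)) = emb H 1 := fun j => by rw [map_one, map_one]
  have hctg : ∀ j, cj (t ^ j) (emb H gh) = emb H gh := fun j => by
    simp only [hgh, map_sum, emb_el, SubmonoidClass.coe_pow]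
    refine Finset.sum_bij (fun x _ => x * c₁ ^ j) (fun x hx => hRmul j x hx)
      (fun a _ b _ h => mul_right_cancel₀ (pow_ne_zero j hc0) h) (fun x hx => ?_) fun x _ => ?_
    · obtain ⟨a, ha, hae⟩ := Finset.surj_on_of_inj_on_of_card_le (fun a (_ : a ∈ R) => a * c₁ ^ j)
        (fun a ha => hRmul j a ha) (fun a b _ _ h => mul_right_cancel₀ (pow_ne_zero j hc0) h) le_rfl x hx
      exact ⟨a, ha, hae.symm⟩
    · rw [cj_apply, ← el_mul, ← el_mul, ← hconj j x]
  obtain ⟨r0, hr0⟩ := L.central_relation hq hD hDG χ hone' hone' hcz hct1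
  obtain ⟨r2, hr2⟩ := L.central_relation hq hD hDG χ hghc hghc hcz hctg
  rw [mul_one (1 : RG M H), hn] at hr0
  rw [hG1, hG2] at hr2
  set n : ℂ := (ε : ℂ) * (1 + e) + (p : ℂ) * T₀ with hndef
  have hnR : MemLocalRing M n := memLocalRing_add (memLocalRing_mul (memLocalRing_intCast _)
    (memLocalRing_add memLocalRing_one (memLocalRing_natCast _)))
    (memLocalRing_mul (memLocalRing_natCast _) (memLocalRing_intCast _))
  have hnU : ¬ MemLocalIdeal M n := by
    intro h
    have h1 : MemLocalIdeal M (((ε * (1 + (e : ℤ)) + (p : ℤ) * T₀ : ℤ)) : ℂ) := by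
      push_cast; exact h
    rw [memLocalIdeal_intCast_iff hM] at h1
    have h2 : (p : ℤ) ∣ 1 + (e : ℤ) := by
      have h3 := (dvd_add_left (dvd_mul_right _ _)).1 h1
      rcases hεε with h4 | h4
      · simpa [h4] using h3
      · rw [h4, neg_one_mul, dvd_neg] at h3; exact h3
    have := Int.le_of_dvd (by omega) h2
    omega
  have hn0 := ne_zero_of_not_memLocalIdeal hnU
  have hσR : MemLocalRing M σ := memLocalRing_sum _ fun x _ => memLocalRing_stdAddChar _
  set K' : ℂ := (n * r2 - r0 * ((ε : ℂ) * (e * (1 + σ))) ^ 2 * n⁻¹) +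
    (e : ℂ) * (T₀ * ((ε : ℂ) * (e * (e + σ ^ 2))) + n * (T₀ * K)) with hK'
  set C := (Nat.card G : ℂ) * (D : ℂ) / ((χ : G → ℂ) 1 * (Nat.card H : ℂ)) with hCdef
  have hεsq : (ε : ℂ) ^ 2 = 1 := by rcases hεε with h | h <;> simp [h]
  have hkey : ((e : ℂ) - σ) ^ 2 / (p : ℂ) = -K' * ((e : ℂ) ^ 2)⁻¹ := by
    have he0 : (e : ℂ) ≠ 0 := Nat.cast_ne_zero.2 L.e_pos.ne'
    rw [div_eq_iff (Nat.cast_ne_zero.2 hM.1.ne_zero)]
    set Xv : ℂ := (ε : ℂ) * (e * (1 + σ)) with hXv
    set Yv : ℂ := (ε : ℂ) * (e * (e + σ ^ 2)) + (p : ℂ) * ((T₀ : ℂ) * K) with hYv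
    have h1 : (e : ℂ) * (Xv ^ 2 - n * Yv) = (p : ℂ) * (n * r2 - r0 * Xv ^ 2 * n⁻¹) := by
      refine mul_left_cancel₀ hn0 ?_
      have h2 : n * ((p : ℂ) * (n * r2 - r0 * Xv ^ 2 * n⁻¹)) =
          (p : ℂ) * (n ^ 2 * r2 - r0 * Xv ^ 2) := by field_simp
      rw [h2]
      linear_combination n ^ 2 * hr2 - Xv ^ 2 * hr0
    have h3 : (e : ℂ) ^ 2 * ((e : ℂ) - σ) ^ 2 = -K' * p := by
      rw [hK']
      simp only [hXv, hYv, hndef] at h1 ⊢
      linear_combination -h1 - (e : ℂ) ^ 2 * ((e : ℂ) - σ) ^ 2 * hεsq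
    calc ((e : ℂ) - σ) ^ 2 = ((e : ℂ) ^ 2)⁻¹ * ((e : ℂ) ^ 2 * ((e : ℂ) - σ) ^ 2) := by
          rw [inv_mul_cancel_left₀ (pow_ne_zero 2 he0)]
      _ = _ := by rw [h3]; ring
  refine sq_natCast_sub_orbitSum_not_dvd hM L.e_dvd h3e hi₀ ?_
  rw [← hRroots, hkey]
  have hepl : ¬ p ∣ e := L.not_dvd_e
  refine memLocalRing_mul (memLocalRing_neg ?_) ?_
  · refine memLocalRing_add (memLocalRing_sub (memLocalRing_mul hnR r2.2)
      (memLocalRing_mul (memLocalRing_mul r0.2 (memLocalRing_pow (memLocalRing_mul (memLocalRing_intCast _)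
        (memLocalRing_mul (memLocalRing_natCast _) (memLocalRing_add memLocalRing_one hσR))) _))
        (memLocalRing_inv hnR hnU))) ?_
    exact memLocalRing_mul (memLocalRing_natCast _) (memLocalRing_add
      (memLocalRing_mul (memLocalRing_intCast _) (memLocalRing_mul (memLocalRing_intCast _)
        (memLocalRing_mul (memLocalRing_natCast _) (memLocalRing_add (memLocalRing_natCast _)
          (memLocalRing_pow hσR _)))))
      (memLocalRing_mul hnR (memLocalRing_mul (memLocalRing_intCast _) (memLocalRing_natCast _))))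
  · rw [← Nat.cast_pow]
    exact memLocalRing_inv_natCast hM fun h => hepl (hM.1.dvd_of_dvd_pow h)

end Cfsg.Agent.Lib.CyclicTree
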