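import Cfsg.Agent.Lib.CyclicCorner.Degrees
import Cfsg.Agent.Lib.Blocks.PrimeOrderBound

/-!
# Primitive idempotents of a block of rank one with cyclic defect group
-/

set_option autoImplicit false
set_option linter.unusedSectionVars false
set_option linter.style.haveILetI false

namespace Cfsg.Agent.Lib.CyclicTree

open Cfsg Cfsg.Agent.Lib.Blocks Cfsg.Agent.Lib.Characters Cfsg.Agent.Lib.BrauerStar
open Cfsg.Agent.Lib.CyclicCorner

universe u

variable {G : Type u} [Group G] [Fintype G] {M : Ideal AlgInt} [hMp : M.IsPrime] {p : ℕ}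

/-- The matrices of a model, extended to the group ring. -/
noncomputable def modelLift {n : ℕ} (σ : G →* Matrix (Fin n) (Fin n) (locSubring M)) :
    RG M G →ₐ[locSubring M] Matrix (Fin n) (Fin n) (locSubring M) :=
  MonoidAlgebra.lift (locSubring M) (Matrix (Fin n) (Fin n) (locSubring M)) G σ

theorem modelLift_el {n : ℕ} (σ : G →* Matrix (Fin n) (Fin n) (locSubring M)) (g : G) :
    modelLift σ (el g) = σ g := by
  show MonoidAlgebra.lift _ _ _ σ (MonoidAlgebra.of _ _ g) = σ g
  rw [MonoidAlgebra.lift_of]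

theorem trace_modelLift {n : ℕ} (σ : G →* Matrix (Fin n) (Fin n) (locSubring M)) {χ : G → ℂ}
    (hσ : ∀ g, ((σ g).map (locSubring M).subtype).trace = χ g) (y : RG M G) :
    ((modelLift σ y).map (locSubring M).subtype).trace = ev χ y := by
  rw [modelLift, MonoidAlgebra.lift_apply, Finsupp.sum_fintype _ _ (fun g => by simp),
    show (∑ g : G, y.coeff g • σ g).map (locSubring M).subtype =
      ∑ g : G, (y.coeff g • σ g).map (locSubring M).subtype from
      map_sum ((locSubring M).subtype.mapMatrix) _ _, Matrix.trace_sum]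
  refine Finset.sum_congr rfl fun g _ => ?_
  rw [← hσ g, Matrix.trace, Matrix.trace, Finset.mul_sum]
  exact Finset.sum_congr rfl fun a _ => rfl

/-- The value at an idempotent is a natural number. -/
theorem exists_nat_ev (hM : IsPModular p M) {χ : G → ℂ} (hχ : IsIrrCharacter G χ) {i : RG M G}
    (hii : i * i = i) : ∃ r : ℕ, ev χ i = (r : ℂ) := by
  obtain ⟨n, σ, hσ⟩ := exists_model (M := M) hM hχ
  refine ⟨((modelLift σ i).map (locSubring M).subtype).rank, ?_⟩
  rw [← trace_modelLift σ (fun g => by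
    rw [← hσ g]), rank_eq_trace_of_idempotent]
  rw [← Matrix.map_mul, ← map_mul, hii]

/-- The trace of a class is a class function. -/
theorem tau_cj (hM : IsPModular p M) {T : Finset (RG M G)}
    (hT : IsDecomp (⊤ : Subalgebra (locSubring M) (RG M G)) 1 T) {i : RG M G}
    (hi : IsPrimIn (⊤ : Subalgebra (locSubring M) (RG M G)) i) (g : G) (a : RG M G) :
    tau (⊤ : Subalgebra (locSubring M) (RG M G)) i T (cj g a) =
      tau (⊤ : Subalgebra (locSubring M) (RG M G)) i T a := by
  classical
  have hR := monicSplits_locSubring (M := M)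
  set S : Subalgebra (locSubring M) (RG M G) := ⊤
  have hσ : Stabilizes S (cj (M := M) g) := ⟨fun _ _ => Algebra.mem_top, fun _ _ => Algebra.mem_top⟩
  have he : IsEquivIn S i (cj g i) := by
    refine ⟨i * el g⁻¹, el g * i, ⟨Algebra.mem_top, by rw [← mul_assoc, hi.idem], ?_⟩,
      ⟨Algebra.mem_top, ?_, by rw [mul_assoc, hi.idem]⟩, ?_, ?_⟩
    · rw [cj_apply]
      simp only [mul_assoc]
      rw [← mul_assoc (el g⁻¹) (el g), ← el_mul, inv_mul_cancel, el_one, one_mul,
        ← mul_assoc i i, hi.idem]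
    · rw [cj_apply]
      simp only [mul_assoc]
      rw [← mul_assoc (el g⁻¹) (el g), ← el_mul, inv_mul_cancel, el_one, one_mul, hi.idem]
    · rw [mul_assoc, ← mul_assoc (el g⁻¹), ← el_mul, inv_mul_cancel, el_one, one_mul, hi.idem]
    · rw [cj_apply, ← mul_assoc, mul_assoc (el g) i i, hi.idem]
  rw [← tau_equiv hR hT hi (hi.map hσ) he Algebra.mem_top, ← tau_map hR hσ hT hi Algebra.mem_top]
  convert tau_congr hR (hi.map hσ) hT (hT.map hσ) Algebra.mem_top using 3

theorem tau_smul {T : Finset (RG M G)}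
    (hT : IsDecomp (⊤ : Subalgebra (locSubring M) (RG M G)) 1 T) {i : RG M G}
    (hi : IsPrimIn (⊤ : Subalgebra (locSubring M) (RG M G)) i) (r : locSubring M) (a : RG M G) :
    tau (⊤ : Subalgebra (locSubring M) (RG M G)) i T (r • a) =
      red M r * tau (⊤ : Subalgebra (locSubring M) (RG M G)) i T a := by
  classical
  have hR := monicSplits_locSubring (M := M)
  rw [tau, tau, Finset.mul_sum]
  refine Finset.sum_congr rfl fun l hl => ?_
  by_cases h : IsEquivIn (⊤ : Subalgebra (locSubring M) (RG M G)) l i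
  · obtain ⟨x, y, hx, hy, h1, h2⟩ := h
    rw [tauTerm_eq hR hi Algebra.mem_top (hT.prim l hl) hx hy h1 h2,
      tauTerm_eq hR hi Algebra.mem_top (hT.prim l hl) hx hy h1 h2]
    have hc : InCorner (⊤ : Subalgebra (locSubring M) (RG M G)) i i (y * a * x) :=
      ⟨Algebra.mem_top, by rw [← mul_assoc, ← mul_assoc, hy.2.1], by rw [mul_assoc, hx.2.2]⟩
    rw [show y * (r • a) * x = (r • i) * (y * a * x) by
      rw [mul_smul_comm, smul_mul_assoc, smul_mul_assoc, hc.2.1], rho_mul hR hi (inCorner_smul hi r) hc,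
      rho_eq hR hi (inCorner_smul hi r) (r := r) (by rw [sub_self]; exact hi.not_isUnitIn_zero)]
  · rw [tauTerm, tauTerm, dif_neg h, dif_neg h, mul_zero]

/-- The group ring element as a combination of group elements. -/
theorem sum_coeff_smul_el (z : RG M G) : ∑ g : G, z.coeff g • (el g : RG M G) = z := by
  classical
  refine coef_injective (funext fun h => ?_)
  rw [coef_sum, Finset.sum_apply, Finset.sum_eq_single h]
  · rw [coef_smul, Pi.smul_apply, el, MonoidAlgebra.of_apply, coef_single, if_pos rfl,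
      OneMemClass.coe_one, smul_eq_mul, mul_one]
    rfl
  · intro g _ hne
    rw [coef_smul, Pi.smul_apply, el, MonoidAlgebra.of_apply, coef_single, if_neg hne, smul_zero]
  · simp

set_option maxHeartbeats 1000000 in
/-- **Primitive idempotents with equal values at every character are equivalent.** -/
theorem isEquivIn_of_ev_eq (hM : IsPModular p M) {i j : RG M G}
    (hi : IsPrimIn (⊤ : Subalgebra (locSubring M) (RG M G)) i)
    (hj : IsPrimIn (⊤ : Subalgebra (locSubring M) (RG M G)) j)
    (h : ∀ χ : IrrCharacter G, ev (χ : G → ℂ) i = ev (χ : G → ℂ) j) :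
    IsEquivIn (⊤ : Subalgebra (locSubring M) (RG M G)) i j := by
  classical
  haveI := Fact.mk hM.1
  haveI := resField_charP (M := M) hM
  have hR := monicSplits_locSubring (M := M)
  set S : Subalgebra (locSubring M) (RG M G) := ⊤
  haveI := Fintype.ofFinite (IrrCharacter G)
  have hdec : ∀ l, IsPrimIn S l → ∃ T : Finset (RG M G), IsDecomp S 1 T ∧ l ∈ T := by
    intro l hl
    obtain ⟨T, hT⟩ := exists_isDecomp (S := S) smul_eq_zero' (e := 1 - l) Algebra.mem_top (by
      rw [mul_sub, sub_mul, sub_mul, mul_one, one_mul, mul_one, hl.idem]; abel)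
    have h0 : ∀ m ∈ T, l * m = 0 ∧ m * l = 0 := fun m hm => by
      refine ⟨?_, ?_⟩
      · rw [← hT.mul_left hm, ← mul_assoc, mul_sub, mul_one, hl.idem, sub_self, zero_mul]
      · rw [← hT.mul_right hm, mul_assoc, sub_mul, one_mul, hl.idem, sub_self, mul_zero]
    have hlT : l ∉ T := fun hm => hl.ne_zero (hl.idem ▸ (h0 l hm).1)
    refine ⟨insert l T, ⟨fun m hm => ?_, fun a ha b hb hne => ?_, ?_⟩, Finset.mem_insert_self _ _⟩
    · rcases Finset.mem_insert.1 hm with rfl | hm
      · exact hl
      · exact hT.prim m hm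
    · rcases Finset.mem_insert.1 ha with ha' | ha'
      · rcases Finset.mem_insert.1 hb with hb' | hb'
        · exact absurd (ha'.trans hb'.symm) hne
        · rw [ha']; exact (h0 b hb').1
      · rcases Finset.mem_insert.1 hb with hb' | hb'
        · rw [hb']; exact (h0 a ha').2
        · exact hT.orth a ha' b hb' hne
    · rw [Finset.sum_insert hlT, hT.sum, add_sub_cancel]
  obtain ⟨T, hT, hiT⟩ := hdec i hi
  obtain ⟨T', hT', hjT⟩ := hdec j hj
  -- a lift of the trace on the group elements
  have hlift : ∀ C : ConjClasses G, ∃ r : locSubring M, red M r = tau S i T (el C.out) :=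
    fun C => red_surjective _
  choose c hc using hlift
  let θ : G → ℂ := fun g => (c (ConjClasses.mk g) : ℂ)
  have hθ : IsClassFunction G θ := fun g y => by
    show (c _ : ℂ) = c _
    rw [ConjClasses.mk_eq_mk_iff_isConj.2 (isConj_iff.2 ⟨y, rfl⟩).symm]
  have hev : ∀ x : RG M G, ∃ r : locSubring M, (r : ℂ) = ev θ x ∧ red M r = tau S i T x := by
    intro x
    refine ⟨∑ g : G, x.coeff g * c (ConjClasses.mk g), ?_, ?_⟩
    · rw [AddSubmonoidClass.coe_finsetSum]
      exact Finset.sum_congr rfl fun g _ => by rw [Subring.coe_mul]; rfl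
    · conv_rhs => rw [← sum_coeff_smul_el x, tau_sum hR hi T _ _ (fun g _ => Algebra.mem_top)]
      rw [map_sum]
      refine Finset.sum_congr rfl fun g _ => ?_
      rw [map_mul, tau_smul hT hi, hc]
      obtain ⟨y, hy⟩ := isConj_iff.1 (ConjClasses.mk_eq_mk_iff_isConj.1
        (Quotient.out_eq (ConjClasses.mk g) : ConjClasses.mk (ConjClasses.mk g).out = ConjClasses.mk g))
      refine congrArg (fun z => red M (x.coeff g) * z) ?_
      rw [← tau_cj hM hT hi y, cj_apply, ← el_mul, ← el_mul, hy]
  have hθeq : ev θ i = ev θ j := by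
    have he : ∀ x : RG M G, ev θ x = ∑ χ : IrrCharacter G,
        classInner θ (χ : G → ℂ) * ev (χ : G → ℂ) x := fun x => by
      conv_lhs => rw [eq_sum_classInner hθ]
      simp only [ev, Finset.sum_apply, Pi.smul_apply, smul_eq_mul, Finset.mul_sum]
      rw [Finset.sum_comm]
      exact Finset.sum_congr rfl fun χ _ => Finset.sum_congr rfl fun g _ => by ring
    rw [he, he]
    simp only [h]
  obtain ⟨ri, hri, hti⟩ := hev i
  obtain ⟨rj, hrj, htj⟩ := hev j
  have htau : tau S i T i = tau S i T j := by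
    rw [← hti, ← htj, show ri = rj from Subtype.ext (by rw [hri, hrj, hθeq])]
  by_contra hne
  have h1 : tau S i T i = 1 := by
    have := tau_subsum hR hi hT (J := {i}) (by simpa using hiT)
    rw [Finset.sum_singleton] at this
    rw [this, Finset.filter_singleton, if_pos (IsEquivIn.refl hi), Finset.card_singleton,
      Nat.cast_one]
  have h0 : tau S i T j = 0 := by
    rw [tau_congr hR hi hT hT' Algebra.mem_top]
    have := tau_subsum hR hi hT' (J := {j}) (by simpa using hjT)
    rw [Finset.sum_singleton] at this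
    rw [this, Finset.filter_singleton, if_neg fun hh => hne hh.symm, Finset.card_empty,
      Nat.cast_zero]
  rw [h1, h0] at htau
  exact one_ne_zero htau

variable {B : Set (IrrCharacter G)} {P : Subgroup G}

/-- **The values at a primitive idempotent of a rank-one block with cyclic defect group.** -/
theorem ev_prim_eq_one (hM : IsPModular p M) (hB : IsPBlock M B) (hPD : IsDefectGroup p M B P)
    [IsCyclic P] (hl : blockRank p B = 1) {i : RG M G}
    (hi : IsPrimIn (⊤ : Subalgebra (locSubring M) (RG M G)) i) (hiB : i * eBlock hM hB = i)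
    {χ : IrrCharacter G} (hχ : χ ∈ B) : ev (χ : G → ℂ) i = 1 := by
  classical
  haveI := Fintype.ofFinite (IrrCharacter G)
  obtain ⟨φ, d, -, hd, -⟩ := BlockHeights.rank_one_data hM hB hPD hl
  set c : ℂ := (Nat.card G : ℂ)⁻¹ * ∑ g, phiSum i g * φ g with hc
  have ht : ∀ η ∈ B, ev (η : G → ℂ) i = (d η : ℂ) * c := by
    intro η hη
    rw [hc, mul_left_comm, eq_inv_mul_iff_mul_eq₀ natCard_ne_zero_complex,
      ← sum_phiSum_mul i (irr_isClassFunction η), Finset.mul_sum]
    refine Finset.sum_congr rfl fun g _ => ?_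
    by_cases hg : IsPRegular p g
    · rw [hd η hη g hg]; ring
    · rw [phiSum_eq_zero hM hi.idem hg]; ring
  have hd0 : (d χ : ℂ) ≠ 0 := fun h0 => by
    have := hd χ hχ 1 (BlockHeights.isPRegular_one hM.1)
    rw [h0, zero_mul] at this
    exact IsIrrCharacter.apply_one_ne_zero χ.2 this
  have hc0 : c ≠ 0 := by
    intro h0
    apply phiSum_one_ne_zero hi.idem hi.ne_zero
    have hcl : IsClassFunction G (fun g => phiSum i g⁻¹) := fun g y => by
      show phiSum i (y * g * y⁻¹)⁻¹ = phiSum i g⁻¹
      rw [← isClassFunction_phiSum i g⁻¹ y]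
      congr 1
      group
    have h1 := congrFun (eq_sum_classInner hcl) 1
    simp only [inv_one] at h1
    rw [h1, Finset.sum_apply]
    refine Finset.sum_eq_zero fun η _ => ?_
    have h2 : classInner (fun g => phiSum i g⁻¹) (η : G → ℂ) = ev (η : G → ℂ) i := by
      rw [classInner_eq_sum_inv (irr_isCharacter η)]
      rw [Fintype.sum_equiv (Equiv.inv G) (fun g => phiSum i g⁻¹ * (η : G → ℂ) g⁻¹)
        (fun g => phiSum i g * (η : G → ℂ) g) (fun g => rfl), sum_phiSum_mul i (irr_isClassFunction η),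
        ← mul_assoc, inv_mul_cancel₀ natCard_ne_zero_complex, one_mul]
    rw [Pi.smul_apply, h2]
    by_cases hη : η ∈ B
    · rw [ht η hη, h0, mul_zero, zero_smul]
    · rw [ev_eq_zero_of_not_mem hM hB hiB hη, zero_smul]
  obtain ⟨r, hr⟩ := exists_nat_ev hM χ.2 hi.idem
  have hcube := ev_cube χ hi.idem (commute_corner hM hB hPD hi hiB)
  rw [hr] at hcube ⊢
  have hr0 : r ≠ 0 := fun h0 => mul_ne_zero hd0 hc0 (by rw [← ht χ hχ, hr, h0, Nat.cast_zero])
  have h3 : r ^ 3 = r := by exact_mod_cast hcube
  have : r = 1 := by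
    by_contra hne
    have hr2 : 2 ≤ r := by omega
    have : r < r ^ 3 := by
      calc r = r ^ 1 := (pow_one r).symm
        _ < r ^ 3 := Nat.pow_lt_pow_right (by omega) (by norm_num)
    omega
  rw [this, Nat.cast_one]

/-- **The primitive idempotents of such a block are all equivalent.** -/
theorem isEquivIn_of_rank_one (hM : IsPModular p M) (hB : IsPBlock M B)
    (hPD : IsDefectGroup p M B P) [IsCyclic P] (hl : blockRank p B = 1) {i j : RG M G}
    (hi : IsPrimIn (⊤ : Subalgebra (locSubring M) (RG M G)) i) (hiB : i * eBlock hM hB = i)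
    (hj : IsPrimIn (⊤ : Subalgebra (locSubring M) (RG M G)) j) (hjB : j * eBlock hM hB = j) :
    IsEquivIn (⊤ : Subalgebra (locSubring M) (RG M G)) i j :=
  isEquivIn_of_ev_eq hM hi hj fun χ => by
    by_cases hχ : χ ∈ B
    · rw [ev_prim_eq_one hM hB hPD hl hi hiB hχ, ev_prim_eq_one hM hB hPD hl hj hjB hχ]
    · rw [ev_eq_zero_of_not_mem hM hB hiB hχ, ev_eq_zero_of_not_mem hM hB hjB hχ]

end Cfsg.Agent.Lib.CyclicTree
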