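import Cfsg.Agent.Lib.CyclicTree.Lattice
import Cfsg.Agent.Lib.BlockHeights.PositiveHeight
import Cfsg.Agent.Lib.CyclicPieces.Combinatorics

/-!
# The exceptional and non-exceptional characters of a block with cyclic defect group
-/

set_option autoImplicit false
set_option linter.unusedSectionVars false
set_option linter.style.haveILetI false

namespace Cfsg.Agent.Lib.CyclicTree

open Cfsg Cfsg.Agent.Lib.Blocks Cfsg.Agent.Lib.Characters Cfsg.Agent.Lib.BlockHeights
open Cfsg.Agent.Lib.BrauerPairs Cfsg.Agent.Lib.BrauerStar Cfsg.Agent.Lib.CyclicPieces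
open scoped ComplexConjugate

universe u

variable {G : Type u} [Group G] [Fintype G] {M : Ideal AlgInt} [hMp : M.IsPrime] {p : ℕ}
variable {hM : IsPModular p M} {B : Set (IrrCharacter G)} {z : G} {H N : Subgroup G} [Fintype H]
  {f : Set (IrrCharacter H)} {PH : Subgroup H} {t : G} {e : ℕ}

theorem coordW_self (η₀ : IrrCharacter H) (χ : IrrCharacter G) : coordW η₀ η₀ χ = 0 := by
  simp [coordW]

namespace LocalData

variable (L : LocalData hM B z H N f PH t e)
include L

theorem e_pos : 0 < e := Nat.pos_of_ne_zero fun h0 => by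
  have h := L.e_dvd
  rw [h0, zero_dvd_iff] at h
  have := hM.1.two_le
  omega

theorem not_dvd_e : ¬ p ∣ e := fun h => by
  have h1 := Nat.le_of_dvd L.e_pos h
  have h2 := Nat.le_of_dvd (by have := hM.1.two_le; omega) L.e_dvd
  have := hM.1.two_le
  omega

theorem mult_nact {n : G} (hn : n ∈ N) (χ : IrrCharacter G) (η : IrrCharacter H) :
    mult χ (L.nact hn η) = mult χ η := by
  apply Nat.cast_injective (R := ℂ)
  rw [← resMult_eq_mult, ← resMult_eq_mult, resMult, resMult, classInner, classInner]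
  congr 1
  refine (Fintype.sum_equiv (conjEquiv n (L.conj_mem hn)).toEquiv _ _ fun k => ?_).symm
  rw [L.nact_apply hn η _ k (by simp [conjEquiv, mul_assoc])]
  show (χ : G → ℂ) (k : G) * _ = (χ : G → ℂ) (n * (k : G) * n⁻¹) * _
  congr 1
  conv_rhs => rw [← irr_isClassFunction χ (n * (k : G) * n⁻¹) n⁻¹]
  simp [mul_assoc]

theorem coordW_nact {n : G} (hn : n ∈ N) (η₀ η : IrrCharacter H) :
    coordW (G := G) η₀ (L.nact hn η) = coordW η₀ η :=
  funext fun χ => by simp [coordW, L.mult_nact hn χ η]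

theorem nact_injective {n : G} (hn : n ∈ N) : Function.Injective (L.nact hn) :=
  transIrr_injective _

/-- At most one power of `t` carries one member to another. -/
theorem orbit_inj {η₀ η η' : IrrCharacter H} (hη' : η' ∈ f) (hne' : η' ≠ η₀)
    (huniq : ∀ j, j ≠ 0 → j < e → ∀ η ∈ f, L.nact (pow_mem L.ht j) η = η → η = η₀) {a b : ℕ}
    (hab : a ≤ b) (hb : b < e) (h1 : L.nact (pow_mem L.ht a) η' = η)
    (h2 : L.nact (pow_mem L.ht b) η' = η) : a = b := by
  by_contra hne
  refine hne' (huniq (b - a) (by omega) (by omega) η' hη' (L.nact_injective (pow_mem L.ht a) ?_))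
  rw [← L.nact_comp (pow_mem L.ht a) (pow_mem L.ht (b - a)) (mul_mem (pow_mem L.ht _) (pow_mem L.ht _)),
    h1, ← h2]
  exact L.nact_congr (by rw [← pow_add]; congr 1; omega) _ _ _

theorem spread (χ : IrrCharacter G) : ∃ t₀ : ℕ, ∀ η ∈ f, t₀ ≤ mult χ η ∧ mult χ η ≤ t₀ + 1 := by
  haveI := L.cyc
  have hkill : ∀ b ∈ N, (∀ j < e, (t ^ j)⁻¹ * b ∉ H) →
      ef M H f * cj b (ef M H f) = 0 := by
    intro b hb hbad
    have hblk := isPBlock_transBlock (conjEquiv b (L.conj_mem hb)) L.ind.1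
    have hc := subgroupBlockCoeff_transBlock b (L.conj_mem hb) f
    rw [cj_ef_of_coe hM L.ind.1 hblk b hc]
    exact ef_mul_ne hM L.ind.1 hblk fun h => L.hkill b hb hbad (by rw [← hc, ← h])
  obtain ⟨t₀, ht₀⟩ := resMult_spread hM L.H_le (fun b hb a => L.conj_mem hb a) L.ind.1 L.defectf
    L.rank (fun y hy u v hu hv h => L.ti hy hu hv h) t e L.ht L.hfix L.hte L.hdist hkill L.not_dvd_e χ
  exact ⟨t₀, fun η hη => ht₀ η hη _ (resMult_eq_mult χ η)⟩

theorem coord_sign (η₀ : IrrCharacter H) (h0 : η₀ ∈ f) (χ : IrrCharacter G) :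
    ∃ s : ℤ, (s = 1 ∨ s = -1) ∧ ∀ η ∈ f, coordW η₀ η χ = 0 ∨ coordW η₀ η χ = s := by
  obtain ⟨t₀, ht⟩ := L.spread χ
  have h := ht η₀ h0
  refine ⟨if mult χ η₀ = t₀ then -1 else 1, by split_ifs <;> simp, fun η hη => ?_⟩
  have h' := ht η hη
  unfold coordW
  split_ifs with he <;> omega

theorem exists_coord_ne [Fintype (IrrCharacter G)] {η₀ : IrrCharacter H} (h0 : η₀ ∈ f)
    (hk : 2 ≤ Nat.card B) {χ : IrrCharacter G} (hχ : χ ∈ B) :
    ∃ η ∈ f, coordW η₀ η χ ≠ 0 := by
  classical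
  by_contra hno
  push Not at hno
  have hvan : ∀ g : G, ¬ IsPRegular p g → (χ : G → ℂ) g = 0 := fun g hg => by
    have h := L.vanish_singular h0 (fun ξ => if ξ = χ then 1 else 0)
      (fun ξ hξ => if_neg fun (h : ξ = χ) => hξ (h ▸ hχ))
      (fun η hη => by simp [hno η hη]) hg
    simpa using h
  have hreg : pRegularPart p (χ : G → ℂ) = (χ : G → ℂ) := by
    funext g
    by_cases hg : IsPRegular p g
    · simp only [pRegularPart_eq, regInd_of_regular hg, one_mul]
    · simp [pRegularPart_eq, regInd, hg, hvan g hg]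
  obtain ⟨ψ₀, hψ₀, hmin⟩ := exists_nu_eq_minExp (p := p) (IsPBlock.nonempty L.ind.2.1)
  have hpair : ∀ ψ : IrrCharacter G, ψ ≠ χ → pairing p χ ψ = 0 := fun ψ hψ => by
    have h1 := classInner_pRegularPart hM.1 χ ψ
    rw [hreg, IsIrrCharacter.classInner_ne χ.2 ψ.2 (fun h => hψ (Subtype.ext h).symm), eq_comm,
      div_eq_zero_iff] at h1
    exact_mod_cast h1.resolve_right (pow_ne_zero _ (Nat.cast_ne_zero.2 hM.1.ne_zero))
  by_cases hχ0 : ψ₀ = χ
  · subst hχ0
    haveI : Subsingleton B := ⟨fun a b => Subtype.ext (by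
      have key : ∀ ψ ∈ B, ψ = ψ₀ := fun ψ hψ => by
        by_contra hne
        exact pairing_ne_zero_of_minimal hM L.ind.2.1 hψ₀ hmin hψ (hpair ψ hne)
      rw [key a a.2, key b b.2])⟩
    have := Finite.card_le_one_iff_subsingleton.2 (inferInstance : Subsingleton B)
    omega
  · exact pairing_ne_zero_of_minimal hM L.ind.2.1 hψ₀ hmin hχ
      ((pairing_symm hM.1 _ _).trans (hpair ψ₀ hχ0))

end LocalData

/-- The shape of the block: the members indexed by the classes of differences, the signs, and the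
two possible incidence patterns. -/
structure TreeData (L : LocalData hM B z H N f PH t e) (η₀ : IrrCharacter H) {m : ℕ}
    (ηs : Fin m → IrrCharacter H) (y : Fin m → IrrCharacter G) (d : IrrCharacter G → ℤ) : Prop where
  pos : 0 < m
  mem₀ : η₀ ∈ f
  fix₀ : ∀ j, L.nact (pow_mem L.ht j) η₀ = η₀
  uniq₀ : ∀ j, j ≠ 0 → j < e → ∀ η ∈ f, L.nact (pow_mem L.ht j) η = η → η = η₀
  mem : ∀ i, ηs i ∈ f ∧ ηs i ≠ η₀
  cover : ∀ η ∈ f, η ≠ η₀ → ∃ i, coordW (G := G) η₀ η = coordW η₀ (ηs i)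
  orbit : ∀ η ∈ f, η ≠ η₀ → ∀ i, coordW (G := G) η₀ η = coordW η₀ (ηs i) →
    ∃ j < e, L.nact (pow_mem L.ht j) η = ηs i
  card_eq : m * e + 1 = Nat.card PH
  rank_eq : Nat.card B = blockRank p B + m
  inj : Function.Injective y
  y_mem : ∀ i, y i ∈ B
  sign : ∀ χ ∈ B, d χ = 1 ∨ d χ = -1
  other : ∀ j, ∀ χ ∈ B, (∀ i, χ ≠ y i) → coordW η₀ (ηs j) χ = d χ
  shape : (Nat.card B = e + m ∧ ∀ j i, coordW η₀ (ηs j) (y i) = if i = j then d (y i) else 0) ∨
    (3 ≤ m ∧ Nat.card B = e + 2 ∧ ∀ j i, coordW η₀ (ηs j) (y i) = if i = j then 0 else d (y i))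

set_option maxHeartbeats 1000000 in
/-- **The shape exists.** -/
theorem LocalData.exists_tree (L : LocalData hM B z H N f PH t e) :
    ∃ (η₀ : IrrCharacter H) (m : ℕ) (ηs : Fin m → IrrCharacter H) (y : Fin m → IrrCharacter G)
      (d : IrrCharacter G → ℤ), TreeData L η₀ ηs y d := by
  classical
  haveI : Fintype (IrrCharacter G) := Fintype.ofFinite _
  haveI : Fintype (IrrCharacter H) := Fintype.ofFinite _
  obtain ⟨η₀, h0, hfix, huniq⟩ := L.exists_center
  set fs : Finset (IrrCharacter H) := Finset.univ.filter fun η => η ∈ f ∧ η ≠ η₀ with hfs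
  have hmem : ∀ η, η ∈ fs ↔ η ∈ f ∧ η ≠ η₀ := fun η => by simp [hfs]
  set w : IrrCharacter H → IrrCharacter G → ℤ := fun η => coordW η₀ η with hw
  set cnt : IrrCharacter H → IrrCharacter H → ℕ := fun η η' =>
    ((Finset.range e).filter fun j => L.nact (pow_mem L.ht j) η' = η).card with hcnt
  have hgram : ∀ η ∈ fs, ∀ η' ∈ fs, ∑ χ, w η χ * w η' χ = (e : ℤ) + cnt η η' := fun η hη η' hη' =>
    L.gram h0 hfix ((hmem η).1 hη).1 ((hmem η').1 hη').1 ((hmem η).1 hη).2 ((hmem η').1 hη').2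
  have hone : ∀ η ∈ fs, cnt η η = 1 := by
    intro η hη
    refine Finset.card_eq_one.2 ⟨0, ?_⟩
    ext j
    rw [Finset.mem_filter, Finset.mem_range, Finset.mem_singleton]
    refine ⟨fun h => by_contra fun hj => ((hmem η).1 hη).2
      (huniq j hj h.1 η ((hmem η).1 hη).1 h.2), fun hj => ⟨hj ▸ L.e_pos, ?_⟩⟩
    subst hj
    exact L.nact_of_mem (by simp [H.one_mem]) _ η
  have hsame : ∀ η ∈ fs, ∀ η' ∈ fs, cnt η η' = if w η' = w η then 1 else 0 := by
    intro η hη η' hη'
    split_ifs with h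
    · have h1 := hgram η hη η' hη'
      rw [h, hgram η hη η hη, hone η hη] at h1
      omega
    · refine Finset.card_eq_zero.2 (Finset.filter_eq_empty_iff.2 fun j _ hj => h ?_)
      rw [← hj]
      exact (L.coordW_nact _ η₀ η').symm
  have hfib : ∀ η ∈ fs, (fs.filter fun η' => w η' = w η).card = e := by
    intro η hη
    rw [Finset.card_filter, ← Finset.sum_congr rfl fun η' hη' => hsame η hη η' hη']
    simp only [hcnt, Finset.card_filter]
    rw [Finset.sum_comm]
    refine (Finset.sum_congr rfl fun j _ => ?_).trans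
      ((Finset.sum_const _).trans (by rw [Finset.card_range, nsmul_one, Nat.cast_id]))
    rw [← Finset.card_filter]
    have hmaps : ∀ a ∈ fs, L.nact (pow_mem L.ht j) a ∈ fs := fun a ha => (hmem _).2
      ⟨(L.nact_mem_iff _ ((hmem a).1 ha).1).2 (L.gconj_pow j), fun h => ((hmem a).1 ha).2
        (L.nact_injective _ (h.trans (hfix j).symm))⟩
    have hsurj := Finset.surj_on_of_inj_on_of_card_le
      (fun a (_ : a ∈ fs) => L.nact (pow_mem L.ht j) a) hmaps
      (fun a b _ _ h => L.nact_injective _ h) le_rfl η hη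
    obtain ⟨a, ha, hae⟩ := hsurj
    refine Finset.card_eq_one.2 ⟨a, ?_⟩
    ext b
    rw [Finset.mem_filter, Finset.mem_singleton]
    exact ⟨fun hb => L.nact_injective _ (hb.2.trans hae), fun hb => hb ▸ ⟨ha, hae.symm⟩⟩
  set W := fs.image w with hW
  set m := W.card with hm
  have hmcard : m * e = fs.card := by
    rw [Finset.card_eq_sum_card_image w fs, Finset.sum_congr rfl (g := fun _ => e) fun c hc => by
      obtain ⟨η, hη, rfl⟩ := Finset.mem_image.1 hc
      exact hfib η hη, Finset.sum_const, smul_eq_mul]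
  have hfcard : fs.card + 1 = Nat.card PH := by
    rw [← L.card_f, Nat.card_eq_card_finite_toFinset (Set.toFinite f),
      show fs = (Set.toFinite f).toFinset.erase η₀ by ext η; simp [hfs, and_comm],
      Finset.card_erase_add_one ((Set.Finite.mem_toFinset _).2 h0)]
  have hpos : 0 < m := Nat.pos_of_ne_zero fun h => by
    rw [h, zero_mul] at hmcard
    have := L.one_lt
    omega
  have hrank : Nat.card B = blockRank p B + m := by
    have h1 := L.count
    rw [← hfcard, ← hmcard] at h1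
    push_cast at h1
    rw [add_sub_cancel_right] at h1
    have h2 := mul_right_cancel₀ (Nat.cast_ne_zero.2 L.e_pos.ne') h1
    omega
  have hk : 2 ≤ Nat.card B := by
    have := blockRank_pos hM L.ind.2.1
    omega
  let ηs : Fin m → IrrCharacter H := fun i => (Finset.mem_image.1 (W.equivFin.symm i).2).choose
  have hηs : ∀ i, ηs i ∈ fs ∧ w (ηs i) = (W.equivFin.symm i : IrrCharacter G → ℤ) := fun i =>
    (Finset.mem_image.1 (W.equivFin.symm i).2).choose_spec
  have hinj : ∀ i j, w (ηs i) = w (ηs j) → i = j := fun i j h => by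
    rw [(hηs i).2, (hηs j).2] at h
    exact W.equivFin.symm.injective (Subtype.ext h)
  have hcover : ∀ η ∈ f, η ≠ η₀ → ∃ i, w η = w (ηs i) := fun η hη hne =>
    ⟨W.equivFin ⟨w η, Finset.mem_image_of_mem _ ((hmem η).2 ⟨hη, hne⟩)⟩, by
      rw [(hηs _).2, Equiv.symm_apply_apply]⟩
  haveI : Fintype {χ // χ ∈ B} := Fintype.ofFinite _
  obtain ⟨y, d, hy, hd, hother, hshape⟩ := lattice_dichotomy hpos L.e_pos
    (fun i (χ : {χ // χ ∈ B}) => w (ηs i) χ.1)
    (fun i j => by
      have h1 : ∀ χ : IrrCharacter G, χ ∈ (Finset.univ.filter fun χ => χ ∈ B) ↔ χ ∈ B := by simp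
      rw [← Finset.sum_subtype (Finset.univ.filter fun χ => χ ∈ B) h1
          (fun χ => w (ηs i) χ * w (ηs j) χ),
        Finset.sum_filter_of_ne fun χ _ hne => by_contra fun hχ => hne (by
          simp only [hw]
          rw [L.coord_eq_zero_of_not_mem h0 ((hmem _).1 (hηs i).1).1 hχ, zero_mul]),
        hgram _ (hηs i).1 _ (hηs j).1, hsame _ (hηs i).1 _ (hηs j).1]
      by_cases hij : i = j
      · rw [if_pos hij, if_pos (by rw [hij]), Nat.cast_one]
      · rw [if_neg hij, if_neg fun h => hij (hinj _ _ h).symm, Nat.cast_zero])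
    (fun χ => by
      obtain ⟨s, hs, hs'⟩ := L.coord_sign η₀ h0 χ.1
      exact ⟨s, hs, fun j => hs' _ ((hmem _).1 (hηs j).1).1⟩)
    (fun χ => by
      obtain ⟨η, hη, hne⟩ := L.exists_coord_ne h0 hk χ.2
      obtain ⟨i, hi⟩ := hcover η hη fun h => hne (h ▸ coordW_self η₀ χ.1)
      exact ⟨i, fun h => hne ((congrFun hi χ.1).trans h)⟩)
  refine ⟨η₀, m, ηs, fun i => (y i).1, fun χ => if h : χ ∈ B then d ⟨χ, h⟩ else 1, hpos, h0, hfix,
    huniq, fun i => (hmem _).1 (hηs i).1, hcover, ?_, by omega, hrank,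
    Subtype.val_injective.comp hy, fun i => (y i).2, ?_, ?_, ?_⟩
  · intro η hη hne i hi
    have h1 := hsame (ηs i) (hηs i).1 η ((hmem η).2 ⟨hη, hne⟩)
    rw [if_pos hi] at h1
    have h2 : 0 < ((Finset.range e).filter fun j => L.nact (pow_mem L.ht j) η = ηs i).card :=
      lt_of_lt_of_eq Nat.one_pos h1.symm
    obtain ⟨j, hj⟩ := Finset.card_pos.1 h2
    rw [Finset.mem_filter, Finset.mem_range] at hj
    exact ⟨j, hj⟩
  · intro χ hχ
    rw [dif_pos hχ]
    exact hd _
  · intro j χ hχ hne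
    rw [dif_pos hχ]
    exact hother j ⟨χ, hχ⟩ fun i h => hne i (congrArg Subtype.val h)
  · rcases hshape with ⟨hc, hs⟩ | ⟨h3, hc, hs⟩
    · refine Or.inl ⟨by rw [Nat.card_eq_fintype_card]; exact hc, fun j i => ?_⟩
      rw [dif_pos (y i).2]
      exact hs j i
    · refine Or.inr ⟨h3, by rw [Nat.card_eq_fintype_card]; exact hc, fun j i => ?_⟩
      rw [dif_pos (y i).2]
      exact hs j i

end Cfsg.Agent.Lib.CyclicTree
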