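import Cfsg.Agent.Lib.CyclicTree.Powers
import Cfsg.Agent.Lib.CyclicCorner.Lift

/-!
# A generator of the corner of a block with cyclic defect group
-/

set_option autoImplicit false
set_option linter.unusedSectionVars false
set_option linter.style.haveILetI false

namespace Cfsg.Agent.Lib.CyclicTree

open Cfsg Cfsg.Agent.Lib.Blocks Cfsg.Agent.Lib.BrauerStar Cfsg.Agent.Lib.CyclicCorner MonoidAlgebra

universe u

variable {G : Type u} [Group G] [Fintype G] {M : Ideal AlgInt} [hMp : M.IsPrime] {p : ℕ}
variable {B : Set (IrrCharacter G)} {P : Subgroup G}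

/-- **A nilpotent generator of the corner.** -/
theorem exists_generator (hM : IsPModular p M) (hB : IsPBlock M B) (hPD : IsDefectGroup p M B P)
    [IsCyclic P] {i : RG M G} (hi : IsPrimIn (⊤ : Subalgebra (locSubring M) (RG M G)) i)
    (hiB : i * eBlock hM hB = i) :
    ∃ X : RG M G, InCorner (⊤ : Subalgebra (locSubring M) (RG M G)) i i X ∧
      ∃ n : ℕ, BrZero ⊥ (X ^ n * i) ∧
        ∀ a, InCorner (⊤ : Subalgebra (locSubring M) (RG M G)) i i a →
          a ∈ Submodule.span (locSubring M) (Set.range fun m : Fin n => X ^ (m : ℕ) * i) := by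
  classical
  haveI := Fact.mk hM.1
  haveI := resField_charP (M := M) hM
  set S : Subalgebra (locSubring M) (RG M G) := ⊤
  have hS : MonicSplits (locSubring M) := monicSplits_locSubring
  let ε : MonoidAlgebra (ResField M) G →ₗ[ResField M] ResField M :=
    { toFun := fun z => ∑ g : G, z.coeff g * rho S i (sand i (el g))
      map_add' := fun a b => by simp [add_mul, Finset.sum_add_distrib]
      map_smul' := fun c a => by simp [Finset.mul_sum, mul_assoc] }
  have hε : ∀ a : RG M G, ε (redG G M a) = rho S i (sand i a) := by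
    intro a
    induction a using MonoidAlgebra.induction_linear with
    | zero =>
      rw [map_zero, map_zero, map_zero,
        rho_zero_of_nonunit hS hi ⟨Algebra.mem_top, mul_zero i, zero_mul i⟩ hi.not_isUnitIn_zero]
    | single g r =>
      have e : single g r = r • (el g : RG M G) := by
        rw [el, MonoidAlgebra.of_apply, MonoidAlgebra.smul_single', mul_one]
      have hr : rho S i (r • i) = red M r := rho_eq hS hi (inCorner_smul hi r)
        (by rw [sub_self]; exact hi.not_isUnitIn_zero)
      rw [e, map_smul (sand i), show r • sand i (el g) = (r • i) * sand i (el g) by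
          rw [smul_mul_assoc, (inCorner_sand hi _).2.1],
        rho_mul hS hi (inCorner_smul hi r) (inCorner_sand hi _), hr, redG_smul, redG_el]
      show ∑ h : G, _ = _
      rw [Finset.sum_eq_single g]
      · simp
      · intro h _ hne
        simp [Finsupp.single_eq_of_ne hne]
      · simp
    | add a b ha hb => rw [map_add, map_add, map_add, ha, hb,
        rho_add hS hi (inCorner_sand hi _) (inCorner_sand hi _)]
  have hsand : ∀ a : RG M G, redG G M (sand i a) = redG G M i * redG G M a * redG G M i :=
    fun a => by rw [sand_apply, map_mul, map_mul]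
  have hfixS : ∀ {a : RG M G}, InCorner S i i a → sand i a = a := fun ha => by
    rw [sand_apply, ha.2.1, ha.2.2]
  have hidem : redG G M i * redG G M i = redG G M i := by rw [← map_mul, hi.idem]
  have hlift : ∀ a, redG G M i * a * redG G M i = a →
      ∃ a', InCorner S i i a' ∧ redG G M a' = a ∧ ε a = rho S i a' := fun a ha => by
    obtain ⟨a₀, rfl⟩ := redG_surjective (M := M) a
    refine ⟨sand i a₀, inCorner_sand hi a₀, by rw [hsand, ha], hε a₀⟩
  obtain ⟨t, R, c, hRP, hcomm, he⟩ := exists_trace_form hM hB hPD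
  let D : TraceCorner (ResField M) G P :=
    { i := redG G M i
      idem := hidem
      ε := ε
      ε_i := by
        rw [hε, hfixS (inCorner_self hi), rho_self hS hi]
      ε_mul := fun a b ha hb => by
        obtain ⟨a', hac, ha', hae⟩ := hlift a ha
        obtain ⟨b', hbc, hb', hbe⟩ := hlift b hb
        rw [hae, hbe, ← ha', ← hb', ← map_mul, hε, hfixS (hac.mul hbc),
          rho_mul hS hi hac hbc]
      t := t
      R := R
      R_le := hRP
      comm := hcomm
      coe := c
      Rfin := fun g => Fintype.ofFinite _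
      e := redG G M (eBlock hM hB)
      e_def := he _
      e_central := fun h => by
        rw [← redG_el, ← map_mul, ← map_mul, eBlock_mul_comm hM hB]
      ie := by rw [← map_mul, hiB] }
  have hunit : ∀ a, D.i * a * D.i = a → D.ε a ≠ 0 →
      ∃ w, D.i * w * D.i = w ∧ w * a = D.i := by
    intro a ha hne
    obtain ⟨a', hac, ha', hae⟩ := hlift a ha
    have hu : IsUnitIn S i a' := by
      by_contra hn
      exact hne (hae.trans (rho_zero_of_nonunit hS hi hac hn))
    obtain ⟨w, -, hw1, hw2, -, hw3⟩ := hu
    refine ⟨redG G M w, ?_, ?_⟩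
    · show redG G M i * redG G M w * redG G M i = _
      rw [← map_mul, hw1, ← map_mul, hw2]
    · show redG G M w * a = redG G M i
      rw [← ha', ← map_mul, hw3]
  obtain ⟨u, hu⟩ := IsCyclic.exists_generator (α := P)
  have hPu : P = Subgroup.zpowers (u : G) := by
    ext z
    constructor
    · intro hz
      obtain ⟨n, hn⟩ := hu ⟨z, hz⟩
      exact ⟨n, by simpa using congrArg Subtype.val hn⟩
    · intro hz; exact Subgroup.zpowers_le.2 u.2 hz
  obtain ⟨n₀, hn₀⟩ := IsPGroup.iff_orderOf.1 (IsDefectGroup.isPGroup hPD) u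
  have huo : (u : G) ^ p ^ n₀ = 1 := by rw [← hn₀, ← Subgroup.orderOf_coe, pow_orderOf_eq_one]
  obtain ⟨xb, hxrad, n, hxn, hspan⟩ := exists_powers_span_rad D hunit hPu huo
  have hxb := ((mem_cornerRad D).1 hxrad).1
  obtain ⟨X, hXc, hXr, -⟩ := hlift xb hxb
  set C : Submodule (locSubring M) (RG M G) := LinearMap.range (sand i) with hC
  set T : Submodule (locSubring M) (RG M G) :=
    Submodule.span (locSubring M) (Set.range fun m : Fin n => X ^ (m : ℕ) * i) with hT
  have hCT : C ≤ T := by
    refine Submodule.le_of_le_smul_of_le_jacobson_bot (I := IsLocalRing.maximalIdeal (locSubring M))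
      (by rw [hC, LinearMap.range_eq_map]; exact (Module.Finite.fg_top).map _)
      (IsLocalRing.maximalIdeal_le_jacobson _) ?_
    rintro a ⟨a₀, rfl⟩
    have h1 := hspan (redG G M (sand i a₀)) (by
      show redG G M i * _ * redG G M i = _
      rw [← map_mul, ← map_mul, (inCorner_sand hi a₀).2.1, (inCorner_sand hi a₀).2.2])
    have h2 : ∀ z ∈ Submodule.span (ResField M)
        (Set.range fun m : Fin n => xb ^ (m : ℕ) * D.i), ∃ s ∈ T, redG G M s = z := by
      intro z hz
      induction hz using Submodule.span_induction with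
      | mem z hz =>
        obtain ⟨m, rfl⟩ := hz
        exact ⟨X ^ (m : ℕ) * i, Submodule.subset_span ⟨m, rfl⟩, by rw [map_mul, map_pow, hXr]⟩
      | zero => exact ⟨0, zero_mem _, map_zero _⟩
      | add a b _ _ ha hb =>
        obtain ⟨a', ha1, rfl⟩ := ha
        obtain ⟨b', hb1, rfl⟩ := hb
        exact ⟨a' + b', add_mem ha1 hb1, map_add _ _ _⟩
      | smul r a _ ha =>
        obtain ⟨a', ha1, rfl⟩ := ha
        obtain ⟨r', rfl⟩ := red_surjective (M := M) r
        exact ⟨r' • a', Submodule.smul_mem _ _ ha1, redG_smul _ _⟩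
    obtain ⟨s, hs, hse⟩ := h2 _ h1
    obtain ⟨s₀, hs₀⟩ : s ∈ C := by
      refine (Submodule.span_le.2 ?_) hs
      rintro _ ⟨m, rfl⟩
      have hcm : Commute i X := hXc.2.1.trans hXc.2.2.symm
      refine ⟨X ^ (m : ℕ) * i, ?_⟩
      rw [sand_apply, ← mul_assoc, (hcm.pow_right _).eq, mul_assoc _ i i, hi.idem, mul_assoc, hi.idem]
    have hd : sand i a₀ - s = sand i (a₀ - s₀) := by rw [map_sub, hs₀]
    have hsm : BrZero ⊥ (sand i a₀ - s) := redG_eq_zero_iff.1 (by rw [map_sub, hse, sub_self])
    refine Submodule.mem_sup.2 ⟨s, hs, sand i a₀ - s, ?_, by abel⟩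
    have hexp : sand i a₀ - s = sand i (∑ g : G, ((sand i a₀ - s).coeff g) • el g) := by
      have h4 : ∀ z : RG M G, ∑ g : G, z.coeff g • (el g : RG M G) = z := fun z => by
        refine coef_injective (funext fun h => ?_)
        rw [coef_sum, Finset.sum_apply, Finset.sum_eq_single h]
        · rw [coef_smul, Pi.smul_apply, el, MonoidAlgebra.of_apply, coef_single, if_pos rfl,
            OneMemClass.coe_one, smul_eq_mul, mul_one]
          rfl
        · intro g _ hne
          rw [coef_smul, Pi.smul_apply, el, MonoidAlgebra.of_apply, coef_single, if_neg hne,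
            smul_zero]
        · simp
      rw [h4, hd, hfixS (inCorner_sand hi _)]
    rw [hexp, map_sum]
    refine Submodule.sum_mem _ fun g _ => ?_
    rw [map_smul]
    exact Submodule.smul_mem_smul (by
      rw [maximalIdeal_locSubring, mem_locIdeal]
      exact brZero_bot_iff.1 hsm g) (LinearMap.mem_range_self _ _)
  refine ⟨X, hXc, n, ?_, ?_⟩
  · refine redG_eq_zero_iff.1 ?_
    rw [map_mul, map_pow, hXr]
    have h1 : Commute xb D.i := (mul_i_of_mem D hxb).trans (i_mul_of_mem D hxb).symm
    exact ((h1.pow_left n).eq).trans hxn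
  · intro a ha
    exact hCT ⟨a, by rw [sand_apply, ha.2.1, ha.2.2]⟩

end Cfsg.Agent.Lib.CyclicTree
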