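import Cfsg.Agent.Lib.CyclicTree.Ambient

/-!
# The conjugates from outside the normalizer form a trace from the trivial group
-/

set_option autoImplicit false
set_option linter.unusedSectionVars false
set_option linter.style.haveILetI false

namespace Cfsg.Agent.Lib.CyclicTree

open Cfsg Cfsg.Agent.Lib.Blocks Cfsg.Agent.Lib.Characters Cfsg.Agent.Lib.BrauerStar
open Cfsg.Agent.Lib.CyclicCorner MonoidAlgebra

universe u

variable {G : Type u} [Group G] [Fintype G] {M : Ideal AlgInt} [hMp : M.IsPrime] {p : ℕ}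

/-- The conjugate of an endomorphism. -/
noncomputable def cjEnd {n : ℕ} (σ : G →* Matrix (Fin n) (Fin n) (locSubring M))
    (ψ : Module.End (ResField M) (Fin n → ResField M)) (b : G) :
    Module.End (ResField M) (Fin n → ResField M) :=
  redModel σ b * ψ * redModel σ b⁻¹

variable {n : ℕ} {σ : G →* Matrix (Fin n) (Fin n) (locSubring M)}

theorem cjEnd_mul (ψ : Module.End (ResField M) (Fin n → ResField M)) (a b : G) :
    cjEnd σ ψ (a * b) = redModel σ a * cjEnd σ ψ b * redModel σ a⁻¹ := by
  simp only [cjEnd, map_mul, mul_inv_rev, mul_assoc]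

theorem cjEnd_mul_of_commute {ψ : Module.End (ResField M) (Fin n → ResField M)} {b : G}
    (hb : Commute (redModel σ b) ψ) (a : G) : cjEnd σ ψ (a * b) = cjEnd σ ψ a := by
  rw [cjEnd, cjEnd, map_mul, mul_assoc _ (redModel σ b), hb.eq, mul_inv_rev, map_mul,
    show redModel σ a * (ψ * redModel σ b) * (redModel σ b⁻¹ * redModel σ a⁻¹) =
      redModel σ a * ψ * (redModel σ b * redModel σ b⁻¹) * redModel σ a⁻¹ by simp only [mul_assoc],
    ← map_mul, mul_inv_cancel, map_one, mul_one]

set_option maxHeartbeats 1000000 in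
open scoped Classical in
/-- **Outside the normalizer the conjugates form a trace from the trivial group.** -/
theorem exists_outside_trace (hM : IsPModular p M) {H N : Subgroup G} [Fintype H] (hHN : H ≤ N)
    [Fintype (G ⧸ H)] {f : Set (IrrCharacter H)} (hf : IsPBlock M f) {PH : Subgroup H}
    (hPD : IsDefectGroup p M f PH)
    (hTI : ∀ y : G, y ∉ N → ∀ u v : H, u ∈ PH → v ∈ PH → y⁻¹ * (u : G) * y = (v : G) → u = 1)
    (σ : G →* Matrix (Fin n) (Fin n) (locSubring M))
    (ψ : Module.End (ResField M) (Fin n → ResField M))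
    (hψH : ∀ h : H, Commute (redModel σ (h : G)) ψ)
    (hψE : modAct (σ.comp H.subtype) (eBlock hM hf) * ψ = ψ) :
    ∃ Φ : Module.End (ResField M) (Fin n → ResField M),
      modAct (σ.comp H.subtype) (eBlock hM hf) *
          ∑ b ∈ Finset.univ.filter (fun b : G ⧸ H => b.out ∉ N), cjEnd σ ψ b.out =
        ∑ h : H, redModel (σ.comp H.subtype) h * Φ * redModel (σ.comp H.subtype) h⁻¹ := by
  obtain ⟨ts, R, c, hRP, hcomm, he⟩ := exists_trace_form hM hf hPD
  haveI : ∀ g, Fintype (H ⧸ R g) := fun g => Fintype.ofFinite _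
  set ρ := redModel σ with hρ
  set ρH := redModel (σ.comp H.subtype) with hρH
  have hρρ : ∀ h : H, ρH h = ρ (h : G) := fun h => rfl
  set E := modAct (σ.comp H.subtype) (eBlock hM hf) with hE
  have hEform : E = ∑ g ∈ ts, c g • ∑ a : H ⧸ R g, ρH (a.out * g * a.out⁻¹) := by
    show MonoidAlgebra.lift _ _ _ ρH (redG H M _) = _
    rw [he _, map_sum]
    refine Finset.sum_congr rfl fun g _ => ?_
    rw [map_smul, map_sum]
    exact congrArg _ (Finset.sum_congr rfl fun a _ => by rw [MonoidAlgebra.lift_single, one_smul])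
  let Φg : H → Module.End (ResField M) (Fin n → ResField M) := fun g => ρH g * ψ
  have hEa : ∀ (g : H) (a : H), ρ (a : G) * Φg g * ρ (a : G)⁻¹ = ρH (a * g * a⁻¹) * ψ := by
    intro g a
    simp only [Φg, hρρ, Subgroup.coe_mul, InvMemClass.coe_inv, map_mul]
    rw [mul_assoc (ρ (a : G) * ρ (g : G)) (ρ (a : G)⁻¹) ψ, ← InvMemClass.coe_inv, (hψH a⁻¹).eq]
    simp only [InvMemClass.coe_inv, mul_assoc]
  have hinv : ∀ g ∈ ts, ∀ r ∈ R g, Commute (ρ ((r : H) : G)) (Φg g) := fun g hg r hr =>
    Commute.mul_right (by rw [← hρρ]; exact (hcomm g hg r hr).map ρH) (hψH r)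
  -- the sum over the cosets outside
  set Γ := ∑ b ∈ Finset.univ.filter (fun b : G ⧸ H => b.out ∉ N), cjEnd σ ψ b.out with hΓ
  let R' : H → Subgroup G := fun g => (R g).map H.subtype
  haveI : ∀ g, Fintype (G ⧸ R' g) := fun g => Fintype.ofFinite _
  have hR'H : ∀ g, R' g ≤ H := fun g => Subgroup.map_subtype_le _
  have hout : ∀ (b : G) (h : H), b * (h : G) ∈ N ↔ b ∈ N := fun b h =>
    N.mul_mem_cancel_right (hHN h.2)
  have hΓform : Γ = ∑ g ∈ ts, c g •
      ∑ s ∈ Finset.univ.filter (fun s : G ⧸ R' g => s.out ∉ N), cjEnd σ (Φg g) s.out := by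
    have h1 : ∀ b : G, cjEnd σ ψ b = ∑ g ∈ ts, c g • ∑ a : H ⧸ R g,
        cjEnd σ (Φg g) (b * (a.out : G)) := by
      intro b
      conv_lhs => rw [← hψE, hEform]
      simp only [cjEnd, Finset.sum_mul, Finset.mul_sum, smul_mul_assoc, mul_smul_comm]
      refine Finset.sum_congr rfl fun g _ => congrArg _ (Finset.sum_congr rfl fun a _ => ?_)
      rw [← hEa, map_mul, mul_inv_rev, map_mul]
      simp only [mul_assoc]
      rfl
    rw [hΓ, Finset.sum_congr rfl fun (b : G ⧸ H) _ => h1 b.out, Finset.sum_comm]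
    refine Finset.sum_congr rfl fun g hg => ?_
    rw [← Finset.smul_sum, ← Finset.sum_product' _ _ fun (b : G ⧸ H) (a : H ⧸ R g) =>
      cjEnd σ (Φg g) (b.out * (a.out : G))]
    congr 1
    refine Finset.sum_bij (fun x _ => ((x.1.out * (x.2.out : G) : G) : G ⧸ R' g)) ?_ ?_ ?_ ?_
    · intro x hx
      simp only [Finset.mem_product, Finset.mem_filter, Finset.mem_univ, true_and, and_true] at hx ⊢
      obtain ⟨r, hr⟩ := QuotientGroup.mk_out_eq_mul (R' g) (x.1.out * (x.2.out : G))
      rw [hr]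
      exact fun h => hx ((hout _ _).1 ((N.mul_mem_cancel_right (hHN (hR'H g r.2))).1 h))
    · rintro ⟨b, a⟩ - ⟨b', a'⟩ - h
      simp only [QuotientGroup.eq] at h
      have hb : b = b' := by
        rw [← b.out_eq', ← b'.out_eq', QuotientGroup.eq]
        have h' := H.mul_mem (H.mul_mem a.out.2 (hR'H g h)) (H.inv_mem a'.out.2)
        simpa [mul_assoc] using h'
      subst hb
      refine Prod.ext rfl ?_
      rw [← a.out_eq', ← a'.out_eq', QuotientGroup.eq]
      obtain ⟨r, hr, e⟩ := h
      have e' : a.out⁻¹ * a'.out = r := Subtype.ext (by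
        rw [show H.subtype r = (r : G) from rfl] at e
        simp [e, mul_assoc])
      rw [e']; exact hr
    · intro s hs
      simp only [Finset.mem_filter, Finset.mem_univ, true_and] at hs
      obtain ⟨h₀, hh₀⟩ := QuotientGroup.mk_out_eq_mul H s.out
      obtain ⟨r, hr⟩ := QuotientGroup.mk_out_eq_mul (R g) h₀⁻¹
      refine ⟨((s.out : G ⧸ H), ((h₀⁻¹ : H) : H ⧸ R g)), ?_, ?_⟩
      · simp only [Finset.mem_product, Finset.mem_filter, Finset.mem_univ, true_and, and_true]
        rw [hh₀]
        exact fun h => hs ((hout _ _).1 h)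
      · show ((_ : G) : G ⧸ R' g) = s
        conv_rhs => rw [← s.out_eq']
        rw [hh₀, hr, Subgroup.coe_mul, InvMemClass.coe_inv,
          show s.out * (h₀ : G) * ((h₀ : G)⁻¹ * ((r : H) : G)) = s.out * ((r : H) : G) by group]
        exact QuotientGroup.mk_mul_of_mem _ ⟨r, r.2, rfl⟩
    · intro x _
      obtain ⟨⟨r₁, r, hr, rfl⟩, hr'⟩ := QuotientGroup.mk_out_eq_mul (R' g) (x.1.out * (x.2.out : G))
      show _ = cjEnd σ (Φg g) (Quotient.out _)
      rw [hr']
      exact (cjEnd_mul_of_commute (hinv g hg r hr) _).symm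
  have hΓH : ∀ h : H, Commute (ρ (h : G)) Γ := by
    intro h
    have h1 : ρ (h : G) * Γ * ρ (h : G)⁻¹ = Γ := by
      rw [hΓ, Finset.mul_sum, Finset.sum_mul,
        Finset.sum_congr rfl fun (b : G ⧸ H) _ => (cjEnd_mul (σ := σ) ψ (h : G) b.out).symm]
      have key : ∀ b : G ⧸ H, cjEnd σ ψ ((h : G) * b.out) = cjEnd σ ψ ((h : G) • b).out ∧
          ((h : G) * b.out ∈ N ↔ ((h : G) • b).out ∈ N) := fun b => by
        obtain ⟨h', hh'⟩ := QuotientGroup.mk_out_eq_mul H ((h : G) * b.out)
        have e : ((h : G) • b) = (((h : G) * b.out : G) : G ⧸ H) := by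
          conv_lhs => rw [← b.out_eq']
          rfl
        rw [e, hh']
        exact ⟨(cjEnd_mul_of_commute (hψH h') _).symm, (hout _ _).symm⟩
      refine Finset.sum_equiv (MulAction.toPerm (h : G)) (fun b => ?_) fun b _ => (key b).1
      simp only [Finset.mem_filter, Finset.mem_univ, true_and, MulAction.toPerm_apply]
      rw [← (key b).2]
      exact not_congr (N.mul_mem_cancel_left (hHN h.2)).symm
    calc ρ (h : G) * Γ = ρ (h : G) * Γ * (ρ (h : G)⁻¹ * ρ (h : G)) := by
          rw [← map_mul, inv_mul_cancel, map_one, mul_one]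
      _ = Γ * ρ (h : G) := by rw [← mul_assoc, h1]
  -- free orbits
  have horb : ∀ g' ∈ ts, ∃ Φ, Γ = ∑ r : R g', ρH (r : H) * Φ * ρH (r : H)⁻¹ := by
    intro g' hg'
    choose Φ hΦ using fun g : ts => by
      letI : MulAction (R g') (G ⧸ R' g) := MulAction.compHom _ (H.subtype.comp (R g').subtype)
      exact exists_orbit_trace (k := ResField M) (ρH.comp (R g').subtype)
        (fun s : G ⧸ R' g => cjEnd σ (Φg g) s.out)
        (fun r s => by
          have e : r • s = (((((r : H) : G) * s.out) : G) : G ⧸ R' g) := by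
            conv_lhs => rw [← s.out_eq']
            rfl
          obtain ⟨⟨r₁, r₂, hr₂, rfl⟩, hr⟩ := QuotientGroup.mk_out_eq_mul (R' g) (((r : H) : G) * s.out)
          show cjEnd σ (Φg g) (r • s).out = _
          rw [e, hr]
          refine (cjEnd_mul_of_commute (hinv g g.2 r₂ hr₂) _).trans ?_
          rw [cjEnd_mul]
          rfl)
        (fun s => s.out ∉ N)
        (fun r s hs => by
          have e : r • s = (((((r : H) : G) * s.out) : G) : G ⧸ R' g) := by
            conv_lhs => rw [← s.out_eq']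
            rfl
          obtain ⟨r', hr⟩ := QuotientGroup.mk_out_eq_mul (R' g) (((r : H) : G) * s.out)
          rw [e, hr, N.mul_mem_cancel_right (hHN (hR'H _ r'.2)),
            N.mul_mem_cancel_left (hHN (r : H).2)]
          exact hs)
        (fun r s hs hrs => by
          have e : r • s = (((((r : H) : G) * s.out) : G) : G ⧸ R' g) := by
            conv_lhs => rw [← s.out_eq']
            rfl
          rw [e] at hrs
          conv_rhs at hrs => rw [← s.out_eq']
          obtain ⟨v, hv, hv'⟩ := QuotientGroup.eq.1 hrs.symm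
          refine Subtype.ext ?_
          refine hTI s.out hs (r : H) v (hRP g' hg' r.2) (hRP g g.2 hv) ?_
          show _ = H.subtype v
          rw [hv', mul_assoc])
    refine ⟨∑ g : ts, c g • Φ g, ?_⟩
    rw [hΓform, ← Finset.sum_coe_sort ts]
    refine (Finset.sum_congr rfl (g := fun g : ts => c (g : H) •
      ∑ r : R g', (ρH.comp (R g').subtype) r * Φ g * (ρH.comp (R g').subtype) r⁻¹) fun g _ => ?_).trans ?_
    · congr 1
      convert hΦ g using 2
      ext s
      simp
    simp only [MonoidHom.comp_apply, Subgroup.coe_subtype, InvMemClass.coe_inv, Finset.smul_sum, Finset.mul_sum, Finset.sum_mul, mul_smul_comm, smul_mul_assoc]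
    exact Finset.sum_comm
  choose Ψ hΨ using fun g' : ts => horb g' g'.2
  refine ⟨∑ g' : ts, c g' • (ρH (g' : H) * Ψ g'), ?_⟩
  simp only [hEform, Finset.sum_mul, smul_mul_assoc, Finset.mul_sum, mul_smul_comm]
  rw [Finset.sum_comm (s := (Finset.univ : Finset H)), ← Finset.sum_coe_sort ts]
  refine Finset.sum_congr rfl fun g' _ => ?_
  rw [← Finset.smul_sum, ← sum_out_mul (R (g' : H))]
  congr 1
  refine Finset.sum_congr rfl fun a _ => ?_
  calc ρH (a.out * (g' : H) * a.out⁻¹) * Γ = ρH a.out * ρH (g' : H) * Γ * ρH a.out⁻¹ := by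
        rw [map_mul, map_mul, mul_assoc (ρH a.out * ρH (g' : H)) (ρH a.out⁻¹) Γ, hρρ a.out⁻¹,
          (hΓH a.out⁻¹).eq]
        simp only [mul_assoc]
    _ = _ := by
        rw [hΨ g', Finset.mul_sum, Finset.sum_mul]
        refine Finset.sum_congr rfl fun r _ => ?_
        rw [map_mul, mul_inv_rev, map_mul]
        simp only [← mul_assoc]
        rw [mul_assoc (ρH a.out) (ρH (g' : H)), ← map_mul ρH (g' : H), ← (hcomm g' g'.2 r r.2).eq,
          map_mul, ← mul_assoc]

end Cfsg.Agent.Lib.CyclicTree
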