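import Cfsg.Agent.Lib.CyclicTree.Ambient

/-!
# Pieces for the spread bound: scalars on the kernel, block endomorphisms, traces
-/

set_option autoImplicit false
set_option linter.unusedSectionVars false
set_option linter.style.haveILetI false

namespace Cfsg.Agent.Lib.CyclicTree

open Cfsg Cfsg.Agent.Lib.Blocks Cfsg.Agent.Lib.Characters Cfsg.Agent.Lib.BrauerStar
open Cfsg.Agent.Lib.CyclicCorner Module

universe u

variable {H : Type u} [Group H] [Fintype H] {M : Ideal AlgInt} [hMp : M.IsPrime] {p : ℕ}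
variable {hM : IsPModular p M} {f : Set (IrrCharacter H)} {hf : IsPBlock M f} {i X : RG M H} {q : ℕ}

namespace RankOneCorner

variable (D : RankOneCorner hM hf i X q)
include D

/-- A nilpotent element of the corner is a multiple of the generator. -/
theorem residue_of_nilpotent (hp : p.Prime) (hq : 0 < q) {c : RG M H}
    (hc : InCorner (⊤ : Subalgebra (locSubring M) (RG M H)) i i c) (h : redG H M (c ^ q) = 0) :
    ∃ d, InCorner (⊤ : Subalgebra (locSubring M) (RG M H)) i i d ∧
      redG H M c = redG H M (X * d) := by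
  classical
  obtain ⟨P, -, rfl⟩ := D.exists_poly hp hc
  refine ⟨cp i X P.divX, D.cp_mem _, ?_⟩
  have hdec : cp i X P = X * cp i X P.divX + P.coeff 0 • i := by
    conv_lhs => rw [← Polynomial.X_mul_divX_add P]
    simp only [cp, map_add, map_mul, Polynomial.aeval_X, Polynomial.aeval_C, add_mul, mul_assoc,
      Algebra.smul_def]
  set r := red M (P.coeff 0)
  set T := cp i X (Polynomial.X ^ (q - 1)) with hT
  have hTe : redG H M (T * cp i X P) = r • redG H M T := by
    have h1 : T * (X * cp i X P.divX) = X ^ q * i * cp i X P.divX := by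
      rw [hT, cp, Polynomial.aeval_X_pow, ← mul_assoc, mul_assoc (X ^ (q - 1)) i X, D.commute_X.eq,
        ← mul_assoc, ← pow_succ, Nat.sub_add_cancel hq]
    rw [hdec, mul_add, map_add, h1, map_mul _ (X ^ q * i), D.redG_pow_card hp, zero_mul, zero_add,
      mul_smul_comm, redG_smul, (D.cp_mem _).2.2]
  have hpow : ∀ m : ℕ, redG H M (T * cp i X P ^ m) = r ^ m • redG H M T := by
    intro m
    induction m with
    | zero => rw [pow_zero, mul_one, pow_zero, one_smul]
    | succ m ih =>
      rw [pow_succ, ← mul_assoc, map_mul, ih, smul_mul_assoc, ← map_mul, hTe, smul_smul, ← pow_succ]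
  have h2 := hpow q
  rw [map_mul, h, mul_zero] at h2
  have hr : r = 0 := (pow_eq_zero_iff hq.ne').1
    ((smul_eq_zero.1 h2.symm).resolve_right (D.redG_top_ne_zero hp hq))
  rw [hdec, map_add, redG_smul]
  show _ + r • _ = _
  rw [hr, zero_smul, add_zero]

variable {n : ℕ} (σ : H →* Matrix (Fin n) (Fin n) (locSubring M))

/-- Corner elements act by scalars where the generator vanishes. -/
theorem scalar_on_kernel {c : RG M H}
    (hc : InCorner (⊤ : Subalgebra (locSubring M) (RG M H)) i i c) :
    ∃ r : ResField M, ∀ v, modAct σ i v = v → modAct σ X v = 0 → modAct σ c v = r • v := by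
  obtain ⟨m₀, -, hs⟩ := D.span
  have := hs c hc
  clear hc
  induction this using Submodule.span_induction with
  | mem z hz =>
    obtain ⟨m, rfl⟩ := hz
    refine ⟨if (m : ℕ) = 0 then 1 else 0, fun v hv hX => ?_⟩
    obtain ⟨m, hm⟩ := m
    cases m with
    | zero => simp [hv]
    | succ m =>
      simp only [Nat.succ_ne_zero, if_false, zero_smul, map_mul, map_pow, Module.End.mul_apply, hv,
        pow_succ, hX, map_zero]
  | zero => exact ⟨0, fun v _ _ => by simp⟩
  | add a b _ _ ha hb =>
    obtain ⟨r, hr⟩ := ha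
    obtain ⟨r', hr'⟩ := hb
    exact ⟨r + r', fun v hv hX => by
      rw [map_add, LinearMap.add_apply, hr v hv hX, hr' v hv hX, add_smul]⟩
  | smul r a _ ha =>
    obtain ⟨r', hr'⟩ := ha
    exact ⟨red M r * r', fun v hv hX => by
      rw [modAct_smul, LinearMap.smul_apply, hr' v hv hX, smul_smul]⟩

/-- An endomorphism of the corner extends to the block. -/
theorem exists_block_commuting {T : Finset (RG M H)}
    (hT : IsDecomp (⊤ : Subalgebra (locSubring M) (RG M H)) (eBlock hM hf) T) (hiT : i ∈ T)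
    (x y : RG M H → RG M H)
    (hxy : ∀ l ∈ T, InCorner (⊤ : Subalgebra (locSubring M) (RG M H)) l i (x l) ∧
      InCorner (⊤ : Subalgebra (locSubring M) (RG M H)) i l (y l) ∧ x l * y l = l ∧ y l * x l = i)
    (hxi : x i = i) (hyi : y i = i)
    (a : End (ResField M) (Fin n → ResField M))
    (haL : modAct σ i * a = a) (haR : a * modAct σ i = a)
    (hc : ∀ c, InCorner (⊤ : Subalgebra (locSubring M) (RG M H)) i i c →
      Commute a (modAct σ c)) :
    ∃ ψ : End (ResField M) (Fin n → ResField M),
      (∀ z : RG M H, modAct σ z * ψ = ψ * modAct σ z) ∧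
      modAct σ i * ψ * modAct σ i = a ∧ modAct σ (eBlock hM hf) * ψ = ψ := by
  classical
  set E := eBlock hM hf
  have hEl : ∀ l ∈ T, E * x l = x l ∧ y l * E = y l := fun l hl => by
    obtain ⟨hx, hy, -, -⟩ := hxy l hl
    refine ⟨?_, ?_⟩
    · rw [← hx.2.1, ← mul_assoc, eBlock_mul_comm, hT.mul_right hl]
    · rw [← hy.2.2, mul_assoc, hT.mul_right hl]
  have hsum : ∑ l ∈ T, x l * y l = E := by
    rw [Finset.sum_congr rfl fun l hl => (hxy l hl).2.2.1, hT.sum]
  refine ⟨∑ l ∈ T, modAct σ (x l) * a * modAct σ (y l), fun z => ?_, ?_, ?_⟩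
  · rw [Finset.mul_sum, Finset.sum_mul]
    have h1 : ∀ l ∈ T, modAct σ z * (modAct σ (x l) * a * modAct σ (y l)) =
        ∑ m ∈ T, modAct σ (x m) * a * modAct σ (y m * z * (x l * y l)) := by
      intro l hl
      obtain ⟨hx, hy, -, -⟩ := hxy l hl
      have e : z * x l = ∑ m ∈ T, x m * (y m * z * x l) := by
        simp only [← mul_assoc]
        rw [← Finset.sum_mul, ← Finset.sum_mul, hsum, eBlock_mul_comm, mul_assoc, (hEl l hl).1]
      rw [← mul_assoc, ← mul_assoc, ← map_mul, e, map_sum, Finset.sum_mul, Finset.sum_mul]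
      refine Finset.sum_congr rfl fun m hm => ?_
      obtain ⟨hxm, hym, -, -⟩ := hxy m hm
      have hcor : InCorner (⊤ : Subalgebra (locSubring M) (RG M H)) i i (y m * z * x l) :=
        ⟨Algebra.mem_top, by rw [← mul_assoc, ← mul_assoc, hym.2.1], by rw [mul_assoc, hx.2.2]⟩
      rw [map_mul _ (x m), mul_assoc (modAct σ (x m)), ← (hc _ hcor).eq, ← mul_assoc, mul_assoc _ _
        (modAct σ (y l)), ← map_mul]
      simp only [mul_assoc]
    rw [Finset.sum_congr rfl h1, Finset.sum_comm]
    refine Finset.sum_congr rfl fun m hm => ?_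
    rw [← Finset.mul_sum, ← map_sum, ← Finset.mul_sum, hsum, mul_assoc (y m), ← eBlock_mul_comm,
      ← mul_assoc (y m), (hEl m hm).2, map_mul, ← mul_assoc]
  · rw [Finset.mul_sum, Finset.sum_mul, Finset.sum_eq_single i]
    · rw [hxi, hyi, haL, haR, haL, haR]
    · intro l hl hne
      obtain ⟨hx, -, -, -⟩ := hxy l hl
      rw [← mul_assoc, ← mul_assoc, ← map_mul,
        show i * x l = 0 by rw [← hx.2.1, ← mul_assoc, hT.orth i hiT l hl (Ne.symm hne), zero_mul]]
      simp
    · exact fun h => absurd hiT h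
  · rw [Finset.mul_sum]
    refine Finset.sum_congr rfl fun l hl => ?_
    rw [← mul_assoc, ← mul_assoc, ← map_mul, (hEl l hl).1]

/-- **Traces from the trivial group land in the top layer.** -/
theorem proj_trace_mem (hp : p.Prime) {T : Finset (RG M H)}
    (hT : IsDecomp (⊤ : Subalgebra (locSubring M) (RG M H)) (eBlock hM hf) T)
    (x y : RG M H → RG M H)
    (hxy : ∀ l ∈ T, InCorner (⊤ : Subalgebra (locSubring M) (RG M H)) l i (x l) ∧
      InCorner (⊤ : Subalgebra (locSubring M) (RG M H)) i l (y l) ∧ x l * y l = l ∧ y l * x l = i)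
    (Φ : End (ResField M) (Fin n → ResField M)) {v : Fin n → ResField M}
    (hX : modAct σ X v = 0) :
    modAct σ i ((∑ h : H, redModel σ h * Φ * redModel σ h⁻¹) v) ∈
      LinearMap.range (modAct σ (X ^ (q - 1) * i)) := by
  classical
  choose r hr using fun (m : Fin n) (h : H) => red_surjective (M := M) ((redModel σ h⁻¹ v) m)
  let Y : Fin n → RG M H := fun m => ∑ h : H, r m h • el h
  have hsum : (∑ h : H, redModel σ h * Φ * redModel σ h⁻¹) v =
      ∑ m, modAct σ (Y m) (Φ (Pi.single m 1)) := by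
    simp only [Y, map_sum, LinearMap.sum_apply, modAct_smul, modAct_el, LinearMap.smul_apply]
    rw [Finset.sum_comm]
    refine Finset.sum_congr rfl fun h _ => ?_
    rw [End.mul_apply, End.mul_apply]
    conv_lhs => rw [pi_eq_sum_univ' (redModel σ h⁻¹ v), map_sum, map_sum]
    exact Finset.sum_congr rfl fun m _ => by rw [map_smul, map_smul, hr]
  have hXY : ∀ m, redG H M (X * Y m) = 0 := by
    intro m
    conv_lhs => rw [← sum_coeff_smul_el X]
    simp only [Y, Finset.sum_mul, Finset.mul_sum, smul_mul_assoc, mul_smul_comm, ← el_mul, map_sum,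
      redG_smul, redG_el, hr, Finset.smul_sum, smul_smul]
    rw [Finset.sum_comm]
    rw [Finset.sum_congr rfl fun g _ => (Fintype.sum_equiv (Equiv.mulLeft g⁻¹) _ _ fun b => rfl).symm,
      Finset.sum_comm]
    refine Finset.sum_eq_zero fun b _ => ?_
    simp only [Equiv.coe_mulLeft, mul_inv_cancel_left, ← Finset.sum_smul]
    have h0 : (redModel σ b⁻¹ (modAct σ X v)) m = 0 := by rw [hX, map_zero]; rfl
    rw [modAct_eq_sum, LinearMap.sum_apply, map_sum, Finset.sum_apply] at h0
    refine (smul_eq_zero_of_left ?_ _)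
    rw [← h0]
    refine Finset.sum_congr rfl fun g _ => ?_
    rw [LinearMap.smul_apply, map_smul, Pi.smul_apply, smul_eq_mul, ← End.mul_apply, ← map_mul (redModel σ),
      map_mul (red M), hr, show (g⁻¹ * b)⁻¹ = b⁻¹ * g by group, mul_comm]
  rw [hsum, map_sum]
  refine Submodule.sum_mem _ fun m _ => ?_
  rw [← End.mul_apply, ← map_mul]
  set a := i * Y m
  have ha : a = ∑ l ∈ T, i * a * x l * y l := by
    have e1 : a = i * a * eBlock hM hf := by
      rw [mul_assoc, ← eBlock_mul_comm, ← mul_assoc, D.mul_block, ← mul_assoc i i, D.prim.idem]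
    conv_lhs => rw [e1, ← hT.sum, Finset.mul_sum]
    refine Finset.sum_congr rfl fun l hl => ?_
    rw [mul_assoc (i * a) (x l), (hxy l hl).2.2.1]
  rw [ha, map_sum, LinearMap.sum_apply]
  refine Submodule.sum_mem _ fun l hl => ?_
  obtain ⟨hx, hy, -, -⟩ := hxy l hl
  have hc : InCorner (⊤ : Subalgebra (locSubring M) (RG M H)) i i (i * a * x l) :=
    ⟨Algebra.mem_top, by rw [← mul_assoc, ← mul_assoc, D.prim.idem], by rw [mul_assoc, hx.2.2]⟩
  have hcX : redG H M (i * a * x l * X) = 0 := by
    have hcomm : i * a * x l * X = X * (i * a * x l) := by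
      have h1 := D.comm (i * a * x l) X
      rwa [sand_apply, sand_apply, hc.2.1, hc.2.2, D.corner.2.1, D.corner.2.2] at h1
    rw [hcomm, show X * (i * a * x l) = i * i * (X * Y m) * x l by
      simp only [a, ← mul_assoc]
      rw [D.commute_X.symm.eq, mul_assoc i X i, D.commute_X.symm.eq, ← mul_assoc],
      map_mul, map_mul _ (i * i), hXY, mul_zero, zero_mul]
  obtain ⟨lam, hlam⟩ := D.annihilator_X hp hc hcX
  rw [map_mul _ (i * a * x l) (y l), modAct_eq_smul_of_red σ hlam, smul_mul_assoc, LinearMap.smul_apply, End.mul_apply]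
  exact Submodule.smul_mem _ _ (LinearMap.mem_range_self _ _)

end RankOneCorner

end Cfsg.Agent.Lib.CyclicTree
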