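import Cfsg.Agent.Lib.CyclicTree.Average
import Cfsg.Agent.Lib.CyclicTree.StablePieces
import Cfsg.Agent.Lib.CyclicTree.Outside
import Cfsg.Agent.Lib.Blocks.TwoCharBlock
import Cfsg.Agent.Lib.BlockHeights.SectionValues

/-!
# The multiplicities in a block of the centralizer of the subgroup of order `p` spread by at most one
-/

set_option autoImplicit false
set_option linter.unusedSectionVars false
set_option linter.style.haveILetI false

namespace Cfsg.Agent.Lib.CyclicTree

open Cfsg Cfsg.Agent.Lib.Blocks Cfsg.Agent.Lib.Characters Cfsg.Agent.Lib.BrauerStar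
open Cfsg.Agent.Lib.CyclicCorner Cfsg.Agent.Lib.BlockHeights Cfsg.Agent.Lib.BrauerPairs Module

universe u

variable {G : Type u} [Group G] [Fintype G] {M : Ideal AlgInt} [hMp : M.IsPrime] {p : ℕ}

theorem rank_smul_of_ne {n : ℕ} {d : ℂ} (hd : d ≠ 0) (A : Matrix (Fin n) (Fin n) ℂ) :
    (d • A).rank = A.rank := by
  refine le_antisymm ?_ ?_
  · calc (d • A).rank = ((d • (1 : Matrix (Fin n) (Fin n) ℂ)) * A).rank := by
          rw [smul_mul_assoc, one_mul]
      _ ≤ A.rank := Matrix.rank_mul_le_right _ _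
  · calc A.rank = ((d⁻¹ • (1 : Matrix (Fin n) (Fin n) ℂ)) * (d • A)).rank := by
          rw [smul_mul_assoc, one_mul, smul_smul, inv_mul_cancel₀ hd, one_smul]
      _ ≤ _ := Matrix.rank_mul_le_right _ _

theorem finrank_range_modAct {K : Type u} [Group K] [Fintype K] {n : ℕ}
    (σ : K →* Matrix (Fin n) (Fin n) (locSubring M)) (y : RG M K) :
    finrank (ResField M) (LinearMap.range (modAct σ y)) = ((modelLift σ y).map (red M)).rank := by
  rw [modAct_eq_matrix]
  rfl

/-- The complex rank and the multiplicity of a character seen by a separating element. -/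
theorem rank_bounds {H : Type u} [Group H] [Fintype H] {hM : IsPModular p M}
    {f : Set (IrrCharacter H)} {hf : IsPBlock M f} {i X : RG M H} {q : ℕ}
    (D : RankOneCorner hM hf i X q) (hq : 0 < q) {n : ℕ}
    (σ : H →* Matrix (Fin n) (Fin n) (locSubring M)) {χ : H → ℂ}
    (hσ : ∀ g, ((σ g).map (locSubring M).subtype).trace = χ g) (hχ : IsClassFunction H χ)
    {η : IrrCharacter H} (hη : η ∈ f) {r : ℕ} (hr : classInner χ (η : H → ℂ) = r) :
    finrank (ResField M) (LinearMap.range (modAct σ (X ^ (q - 1) * i))) ≤ r ∧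
      r ≤ finrank (ResField M) ↥(LinearMap.range (modAct σ i) ⊓ LinearMap.ker (modAct σ X)) := by
  classical
  haveI := Fintype.ofFinite (IrrCharacter H)
  haveI := Fact.mk hM.1
  let ι := (locSubring M).subtype
  obtain ⟨s, hs, hs0, hsr⟩ := D.exists_separating hM.1 hη
  let d : locSubring M := ⟨ev (η : H → ℂ) s,
    memLocalRing_ev (fun g => Glauberman.memLocalRing_char η g) s⟩
  have hd : (d : ℂ) ≠ 0 := fun h => D.redG_top_ne_zero hM.1 hq (by
    rw [cp, Polynomial.aeval_X_pow, ← hsr,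
      show s = 0 from D.eq_zero_of_ev hs fun θ hθ => by
        by_cases he : θ = η
        · rw [he]; exact h
        · exact hs0 θ hθ he, map_zero])
  have hss : s * s = d • s := by
    rw [← sub_eq_zero]
    have hds : InCorner (⊤ : Subalgebra (locSubring M) (RG M H)) i i (d • s) :=
      ⟨Algebra.mem_top, by rw [mul_smul_comm, hs.2.1], by rw [smul_mul_assoc, hs.2.2]⟩
    refine D.eq_zero_of_ev ((hs.mul hs).sub hds) fun θ hθ => ?_
    rw [ev_sub, ev_smul, D.ev_mul hθ hs hs]
    by_cases he : θ = η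
    · rw [he]; exact sub_self _
    · rw [hs0 θ hθ he]; ring
  set S := (modelLift σ s).map ι with hS
  have hS2 : S * S = (d : ℂ) • S := by
    rw [hS, ← Matrix.map_mul, ← map_mul, hss, map_smul]
    ext a b
    simp [ι]
  have hrank : S.rank = r := by
    set E0 := (d : ℂ)⁻¹ • S with hE0
    have hE : E0 * E0 = E0 := by
      rw [hE0, smul_mul_assoc, mul_smul_comm, hS2, smul_smul, smul_smul, inv_mul_cancel_right₀ hd]
    have htr : (E0.rank : ℂ) = r := by
      rw [rank_eq_trace_of_idempotent hE, hE0, Matrix.trace_smul, hS, trace_modelLift σ hσ,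
        smul_eq_mul]
      have hev : ev χ s = ∑ θ : IrrCharacter H, classInner χ (θ : H → ℂ) * ev (θ : H → ℂ) s := by
        conv_lhs => rw [eq_sum_classInner hχ]
        simp only [ev, Finset.sum_apply, Pi.smul_apply, smul_eq_mul, Finset.mul_sum]
        rw [Finset.sum_comm]
        exact Finset.sum_congr rfl fun θ _ => Finset.sum_congr rfl fun g _ => by ring
      rw [hev, Finset.sum_eq_single η]
      · rw [hr]
        show (d : ℂ)⁻¹ * ((r : ℂ) * (d : ℂ)) = _
        field_simp
      · intro θ _ hne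
        by_cases hθ : θ ∈ f
        · rw [hs0 θ hθ hne, mul_zero]
        · rw [ev_eq_zero_of_not_mem hM hf (by rw [← hs.2.2, mul_assoc, D.mul_block]) hθ, mul_zero]
      · simp
    have := Nat.cast_injective (R := ℂ) htr
    rwa [hE0, rank_smul_of_ne (inv_ne_zero hd)] at this
  constructor
  · rw [modAct_eq_of_red σ hsr.symm, finrank_range_modAct, ← hrank, hS]
    exact rank_red_le _
  -- the kernel
  let x : locSubring M := ⟨ev (η : H → ℂ) X,
    memLocalRing_ev (fun g => Glauberman.memLocalRing_char η g) X⟩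
  set Y := X - x • i + (1 - i) with hY
  have hXi : InCorner (⊤ : Subalgebra (locSubring M) (RG M H)) i i (X - x • i) :=
    D.corner.sub (inCorner_smul D.prim x)
  have h0 : (X - x • i) * s = 0 := by
    refine D.eq_zero_of_ev (hXi.mul hs) fun θ hθ => ?_
    rw [D.ev_mul hθ hXi hs]
    by_cases he : θ = η
    · rw [ev_sub, ev_smul, D.one θ hθ, he, mul_one]
      show (ev (η : H → ℂ) X - ev (η : H → ℂ) X) * _ = 0
      rw [sub_self, zero_mul]
    · rw [hs0 θ hθ he, mul_zero]
  have hYs : Y * s = 0 := by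
    rw [hY, add_mul, h0, sub_mul, one_mul, hs.2.1, sub_self, add_zero]
  set A := (modelLift σ Y).map ι with hA
  have hAS : A * S = 0 := by
    rw [hA, hS, ← Matrix.map_mul, ← map_mul, hYs, map_zero]
    ext a b
    simp
  have hsum : A.rank + r ≤ n := by
    have hle : LinearMap.range S.mulVecLin ≤ LinearMap.ker A.mulVecLin := by
      rintro _ ⟨v, rfl⟩
      rw [LinearMap.mem_ker, Matrix.mulVecLin_apply, Matrix.mulVecLin_apply, Matrix.mulVec_mulVec,
        hAS, Matrix.zero_mulVec]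
    have h1 := LinearMap.finrank_range_add_finrank_ker A.mulVecLin
    have h2 := Submodule.finrank_mono hle
    rw [Module.finrank_fin_fun] at h1
    rw [← hrank]
    show finrank ℂ (LinearMap.range A.mulVecLin) + finrank ℂ (LinearMap.range S.mulVecLin) ≤ n
    omega
  have hker : LinearMap.ker (modAct σ Y) ≤
      LinearMap.range (modAct σ i) ⊓ LinearMap.ker (modAct σ X) := by
    intro v hv
    have hx0 : red M x = 0 := red_eq_zero_iff.2 (D.memLocalIdeal_root hM.1 hη)
    rw [LinearMap.mem_ker, hY, map_add, map_sub, map_sub, map_one, modAct_smul, hx0, zero_smul,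
      sub_zero, LinearMap.add_apply, LinearMap.sub_apply, End.one_apply] at hv
    have hXv : modAct σ X v = 0 := by
      have h1 := congrArg (modAct σ i) hv
      rw [map_add, map_sub, map_zero, ← End.mul_apply, ← map_mul, D.corner.2.1, ← End.mul_apply,
        ← map_mul, D.prim.idem, sub_self, add_zero] at h1
      exact h1
    rw [hXv, zero_add, sub_eq_zero] at hv
    exact Submodule.mem_inf.2 ⟨⟨v, hv.symm⟩, hXv⟩
  have h1 := LinearMap.finrank_range_add_finrank_ker (modAct σ Y)
  rw [Module.finrank_fin_fun, finrank_range_modAct] at h1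
  have h2 := Submodule.finrank_mono hker
  have h3 : ((modelLift σ Y).map (red M)).rank ≤ A.rank := rank_red_le _
  omega

set_option maxHeartbeats 4000000 in
open scoped Classical in
/-- **The multiplicities spread by at most one.** -/
theorem resMult_spread (hM : IsPModular p M) {H N : Subgroup G} [Fintype H] (hHN : H ≤ N)
    (hNH : ∀ b ∈ N, ∀ a, a ∈ H ↔ b⁻¹ * a * b ∈ H)
    {f : Set (IrrCharacter H)} (hf : IsPBlock M f) {PH : Subgroup H}
    (hPD : IsDefectGroup p M f PH) [IsCyclic PH] (hl : blockRank p f = 1)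
    (hTI : ∀ y : G, y ∉ N → ∀ u v : H, u ∈ PH → v ∈ PH → y⁻¹ * (u : G) * y = (v : G) → u = 1)
    (t : G) (e : ℕ) (ht : t ∈ N) (hfix : cj t (ef M H f) = ef M H f) (hte : t ^ e ∈ H)
    (hdist : ∀ a < e, ∀ b < e, (t ^ a)⁻¹ * t ^ b ∈ H → a = b)
    (hkill : ∀ b ∈ N, (∀ j < e, (t ^ j)⁻¹ * b ∉ H) → ef M H f * cj b (ef M H f) = 0)
    (hep : ¬ p ∣ e) (χ : IrrCharacter G) :
    ∃ t₀ : ℕ, ∀ η ∈ f, ∀ r : ℕ, resMult H χ η = (r : ℂ) → t₀ ≤ r ∧ r ≤ t₀ + 1 := by
  haveI := Fact.mk hM.1
  haveI := resField_charP (M := M) hM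
  haveI : IsAlgClosed (ResField M) := resField_isAlgClosed
  haveI : Fintype (G ⧸ H) := Fintype.ofFinite _
  set k := ResField M
  obtain ⟨n, σ, hσ, hloc⟩ := exists_localEnd_model (M := M) hM χ.2
  set σH := σ.comp H.subtype with hσH
  set ρ := redModel σ with hρ
  obtain ⟨T, hT⟩ := exists_isDecomp (S := (⊤ : Subalgebra (locSubring M) (RG M H)))
    smul_eq_zero' (Algebra.mem_top (x := eBlock hM hf)) (eBlock_idem hM hf)
  have hne : eBlock hM hf ≠ 0 := fun h => by
    obtain ⟨η, hη⟩ := IsPBlock.nonempty hf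
    have h1 := ev_mul_eBlock hM hf hη (1 : RG M H)
    rw [h, mul_zero, ev_zero, ← el_one, ev_el] at h1
    exact IsIrrCharacter.apply_one_ne_zero η.2 h1.symm
  obtain ⟨i, hiT⟩ : T.Nonempty := Finset.nonempty_of_ne_empty fun h => hne (by
    rw [← hT.sum, h, Finset.sum_empty])
  have hi := hT.prim i hiT
  have hiB : i * eBlock hM hf = i := hT.mul_right hiT
  obtain ⟨X, D⟩ := exists_rankOneCorner hM hf hPD hl hi hiB
  set q := Nat.card PH
  have hq : 0 < q := Nat.card_pos
  have hequiv : ∀ l, l ∈ T → IsEquivIn (⊤ : Subalgebra (locSubring M) (RG M H)) l i := fun l hl' =>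
    isEquivIn_of_rank_one hM hf hPD hl (hT.prim l hl') (hT.mul_right hl') hi hiB
  choose x₀ y₀ hx₀ hy₀ h₁ h₂ using hequiv
  let x : RG M H → RG M H := fun l => if l = i then i else if hl' : l ∈ T then x₀ l hl' else 0
  let y : RG M H → RG M H := fun l => if l = i then i else if hl' : l ∈ T then y₀ l hl' else 0
  have hxy : ∀ l ∈ T, InCorner (⊤ : Subalgebra (locSubring M) (RG M H)) l i (x l) ∧
      InCorner (⊤ : Subalgebra (locSubring M) (RG M H)) i l (y l) ∧
      x l * y l = l ∧ y l * x l = i := by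
    intro l hl'
    by_cases h : l = i
    · subst h
      simp only [x, y, if_pos rfl]
      exact ⟨inCorner_self hi, inCorner_self hi, hi.idem, hi.idem⟩
    · simp only [x, y, if_neg h, dif_pos hl']
      exact ⟨hx₀ l hl', hy₀ l hl', h₁ l hl', h₂ l hl'⟩
  set pi0 := modAct σH i with hpi0
  set X0 := modAct σH X with hX0
  set top := modAct σH (X ^ (q - 1) * i) with htop
  set I := LinearMap.range top with hIdef
  set K := LinearMap.range pi0 ⊓ LinearMap.ker X0 with hKdef
  have hrest : ∀ η ∈ f, ∀ r : ℕ, resMult H χ η = (r : ℂ) →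
      finrank k I ≤ r ∧ r ≤ finrank k K := fun η hη r hr =>
    rank_bounds D hq σH (fun g => hσ (g : G)) (fun a b => irr_isClassFunction χ (a : G) (b : G)) hη hr
  suffices hKI : finrank k K ≤ finrank k I + 1 from
    ⟨finrank k I, fun η hη r hr => ⟨(hrest η hη r hr).1, (hrest η hη r hr).2.trans hKI⟩⟩
  have hππ : pi0 * pi0 = pi0 := by rw [hpi0, ← map_mul, hi.idem]
  have hXπ : X0 * pi0 = X0 := by rw [hpi0, hX0, ← map_mul, D.corner.2.2]
  have hπX : pi0 * X0 = X0 := by rw [hpi0, hX0, ← map_mul, D.corner.2.1]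
  have hfixπ : ∀ v ∈ LinearMap.range pi0, pi0 v = v := by
    rintro _ ⟨w, rfl⟩
    rw [← End.mul_apply, hππ]
  have hcor : ∀ m : ℕ, InCorner (⊤ : Subalgebra (locSubring M) (RG M H)) i i (X ^ m * i) := fun m => by
    simpa [cp] using D.cp_mem (Polynomial.X ^ m)
  have hπtop : pi0 * top = top := by rw [hpi0, htop, ← map_mul, (hcor _).2.1]
  have hIK : I ≤ K := by
    rintro _ ⟨w, rfl⟩
    refine Submodule.mem_inf.2 ⟨⟨top w, by rw [← End.mul_apply, hπtop]⟩, ?_⟩
    rw [LinearMap.mem_ker, ← End.mul_apply, hX0, htop, ← map_mul, ← mul_assoc, ← pow_succ',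
      Nat.sub_add_cancel hq,
      modAct_eq_of_red σH (show redG H M (X ^ q * i) = redG H M 0 by
        rw [D.redG_pow_card hM.1, map_zero]), map_zero, LinearMap.zero_apply]
  by_cases hKle : K ≤ I
  · exact (Submodule.finrank_mono hKle).trans (Nat.le_succ _)
  have hXW : ∀ v ∈ LinearMap.range pi0, X0 v ∈ LinearMap.range pi0 := fun v _ =>
    ⟨X0 v, by rw [← End.mul_apply, hπX]⟩
  have hXn : ∀ v ∈ LinearMap.range pi0, (X0 ^ q) v = 0 := by
    intro v hv
    rw [← hfixπ v hv, ← End.mul_apply, hX0, hpi0, ← map_pow, ← map_mul,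
      modAct_eq_of_red σH (show redG H M (X ^ q * i) = redG H M 0 by
        rw [D.redG_pow_card hM.1, map_zero]), map_zero, LinearMap.zero_apply]
  obtain ⟨w, hwW, hwX, hwI, hfun⟩ :=
    exists_commuting_rank_one (LinearMap.range pi0) X0 hXW hXn I hKle
  have hwK : w ∈ K := Submodule.mem_inf.2 ⟨hwW, hwX⟩
  -- the twist
  have htH : ∀ a, a ∈ H ↔ t⁻¹ * a * t ∈ H := hNH t ht
  set sg := nconj M t htH with hsg
  have hstab : Stabilizes (⊤ : Subalgebra (locSubring M) (RG M H)) sg :=
    ⟨fun _ _ => Algebra.mem_top, fun _ _ => Algebra.mem_top⟩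
  have hsgB : sg i * eBlock hM hf = sg i := by
    conv_lhs => rw [← nconj_eBlock htH hM hf hfix]
    rw [← map_mul, hiB]
  obtain ⟨α, β, hα, hβ, hαβ, hβα⟩ :=
    isEquivIn_of_rank_one hM hf hPD hl hi hiB (hi.map hstab) hsgB
  have hρH : ∀ h : H, redModel σH h = ρ (h : G) := fun h => rfl
  have hmove : ∀ z : RG M H, ρ t * modAct σH z = modAct σH (sg z) * ρ t := fun z => by
    rw [hsg, modAct_nconj htH σ z, ← hρ, mul_assoc _ (ρ t⁻¹), ← map_mul, inv_mul_cancel, map_one,
      mul_one]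
  have hmove' : ∀ z : RG M H, modAct σH z * ρ t⁻¹ = ρ t⁻¹ * modAct σH (sg z) := fun z => by
    rw [hsg, modAct_nconj htH σ z, ← hρ, ← mul_assoc, ← mul_assoc, ← map_mul, inv_mul_cancel, map_one,
      one_mul]
  obtain ⟨τ, hτdef⟩ : ∃ τ : End k (Fin n → k), τ = modAct σH α * ρ t := ⟨_, rfl⟩
  obtain ⟨τ', hτ'def⟩ : ∃ τ' : End k (Fin n → k), τ' = ρ t⁻¹ * modAct σH β := ⟨_, rfl⟩
  have hττ' : τ * τ' = pi0 := by
    rw [hτdef, hτ'def, show modAct σH α * ρ t * (ρ t⁻¹ * modAct σH β) =
      modAct σH α * (ρ t * ρ t⁻¹) * modAct σH β by simp only [mul_assoc], ← map_mul ρ,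
      mul_inv_cancel, map_one, mul_one, ← map_mul, hαβ]
  have hτ'τ : τ' * τ = pi0 := by
    rw [hτdef, hτ'def, show ρ t⁻¹ * modAct σH β * (modAct σH α * ρ t) =
      ρ t⁻¹ * (modAct σH β * modAct σH α) * ρ t by simp only [mul_assoc], ← map_mul, hβα, ← hmove',
      mul_assoc, ← map_mul ρ, inv_mul_cancel, map_one, mul_one]
  have hπτ : pi0 * τ = τ := by rw [hτdef, hpi0, ← mul_assoc, ← map_mul, hα.2.1]
  have hτπ : τ * pi0 = τ := by
    rw [hτdef, hpi0, mul_assoc, hmove, ← mul_assoc, ← map_mul, hα.2.2]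
  have hτ'π : τ' * pi0 = τ' := by rw [hτ'def, hpi0, mul_assoc, ← map_mul, hβ.2.2]
  have hπτ' : pi0 * τ' = τ' := by
    rw [hτ'def, hpi0, ← mul_assoc, hmove', mul_assoc, ← map_mul, hβ.2.1]
  -- `τ' X τ` and `τ X τ'`
  set c' := sg.symm (β * X * α) with hc'def
  have hc'cor : InCorner (⊤ : Subalgebra (locSubring M) (RG M H)) i i c' := by
    refine ⟨Algebra.mem_top, sg.injective ?_, sg.injective ?_⟩
    · rw [map_mul, hc'def, sg.apply_symm_apply, ← mul_assoc, ← mul_assoc, hβ.2.1]
    · rw [map_mul, hc'def, sg.apply_symm_apply, mul_assoc, hα.2.2]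
  have hc'act : τ' * X0 * τ = modAct σH c' := by
    rw [hτdef, hτ'def, hX0, show ρ t⁻¹ * modAct σH β * modAct σH X * (modAct σH α * ρ t) =
      ρ t⁻¹ * (modAct σH β * modAct σH X * modAct σH α) * ρ t by simp only [mul_assoc],
      ← map_mul, ← map_mul, show β * X * α = sg c' by rw [hc'def, sg.apply_symm_apply], ← hmove',
      mul_assoc, ← map_mul ρ, inv_mul_cancel, map_one, mul_one]
  have hc'pow : ∀ m : ℕ, 0 < m → c' ^ m = sg.symm (β * X ^ m * α) := by
    intro m hm
    induction m, hm using Nat.le_induction with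
    | base => rw [pow_one, pow_one]
    | succ m hm ih =>
      rw [pow_succ, ih, hc'def, ← map_mul]
      congr 1
      rw [show β * X ^ m * α * (β * X * α) = β * X ^ m * (α * β * X) * α by simp only [mul_assoc],
        hαβ, D.corner.2.1, pow_succ]
      simp only [mul_assoc]
  obtain ⟨d, -, hd⟩ := D.residue_of_nilpotent hM.1 hq hc'cor (by
    rw [hc'pow q hq]
    have h1 : redG H M (β * X ^ q * α) = 0 := by
      rw [show β * X ^ q * α = β * (X ^ q * i) * α by
        rw [← hβ.2.2]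
        conv_rhs => rw [← (D.commute_X.pow_right q).eq, ← mul_assoc, mul_assoc β i i, hi.idem],
        map_mul, map_mul, D.redG_pow_card hM.1, mul_zero, zero_mul]
    exact redG_eq_zero_iff.2 (brZero_bot_iff.2 fun h => by
      have hz : redG H M (sg (sg.symm (β * X ^ q * α))) = 0 := by rwa [sg.apply_symm_apply]
      have h2 := brZero_bot_iff.1 (redG_eq_zero_iff.1 hz) (conjEquiv t htH h)
      have e : coef (sg (sg.symm (β * X ^ q * α))) (conjEquiv t htH h) =
          coef (sg.symm (β * X ^ q * α)) h := by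
        rw [hsg, nconj_eq_sum, coef_sum, Finset.sum_apply, Finset.sum_eq_single h]
        · rw [coef_smul, Pi.smul_apply, el, MonoidAlgebra.of_apply, coef_single, if_pos rfl,
            OneMemClass.coe_one, smul_eq_mul, mul_one]
          rfl
        · intro b _ hb
          rw [coef_smul, Pi.smul_apply, el, MonoidAlgebra.of_apply, coef_single,
            if_neg fun h' => hb ((conjEquiv t htH).injective h'), smul_zero]
        · simp
      rwa [e] at h2))
  have hKmem : ∀ v, v ∈ K ↔ pi0 v = v ∧ X0 v = 0 := fun v =>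
    ⟨fun h => ⟨hfixπ v (Submodule.mem_inf.1 h).1, (Submodule.mem_inf.1 h).2⟩,
      fun h => Submodule.mem_inf.2 ⟨⟨v, h.1⟩, h.2⟩⟩
  have hXτ : ∀ v ∈ K, X0 (τ v) = 0 := by
    intro v hv
    obtain ⟨hv1, hv2⟩ := (hKmem v).1 hv
    have h1 : X0 * τ = τ * (τ' * X0 * τ) := by
      rw [show τ * (τ' * X0 * τ) = τ * τ' * X0 * τ by simp only [mul_assoc], hττ', hπX]
    have hdX : modAct σH c' v = 0 := by
      rw [modAct_eq_of_red σH hd, map_mul, End.mul_apply]
      have hdc : Commute X0 (modAct σH (sand i d)) := by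
        rw [hX0, commute_iff_eq, ← map_mul, ← map_mul]
        have h1 := D.comm X d
        rw [show sand i X = X by rw [sand_apply, D.corner.2.1, D.corner.2.2]] at h1
        rw [h1]
      have h2 : modAct σH (sand i d) v = pi0 (modAct σH d v) := by
        rw [sand_apply, map_mul, map_mul, End.mul_apply, End.mul_apply, ← hpi0, hv1]
      rw [show modAct σH X (modAct σH d v) = X0 (pi0 (modAct σH d v)) by
        rw [← End.mul_apply X0 pi0, hXπ], ← h2, ← End.mul_apply, hdc.eq, End.mul_apply, hv2, map_zero]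
    rw [← End.mul_apply, h1, End.mul_apply, hc'act, hdX, map_zero]
  have hτK : ∀ v ∈ K, τ v ∈ K := fun v hv =>
    (hKmem _).2 ⟨by rw [← End.mul_apply, hπτ], hXτ v hv⟩
  have hτ'K : ∀ v ∈ K, τ' v ∈ K := by
    intro v hv
    obtain ⟨hv1, hv2⟩ := (hKmem v).1 hv
    refine (hKmem _).2 ⟨by rw [← End.mul_apply, hπτ'], ?_⟩
    -- `τ'` inverts `τ` on the finite-dimensional space `K`
    let TK : K →ₗ[k] K := τ.restrict hτK
    have hinj : Function.Injective TK := by
      refine (injective_iff_map_eq_zero TK).2 fun u hu => Subtype.ext ?_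
      have h0 : τ (u : Fin n → k) = 0 := congrArg Subtype.val hu
      have h3 := congrArg τ' h0
      rw [← End.mul_apply, hτ'τ, map_zero, ((hKmem _).1 u.2).1] at h3
      simpa using h3
    obtain ⟨u, hu⟩ := (LinearMap.injective_iff_surjective.1 hinj) ⟨v, hv⟩
    have hu' : τ (u : Fin n → k) = v := congrArg Subtype.val hu
    rw [← hu', ← End.mul_apply τ' τ, hτ'τ, ((hKmem _).1 u.2).1]
    exact ((hKmem _).1 u.2).2
  have hτI : ∀ v ∈ I, τ v ∈ I := by
    rintro _ ⟨u, rfl⟩
    set c'' := α * sg (X ^ (q - 1) * i) * β with hc''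
    have hcc : InCorner (⊤ : Subalgebra (locSubring M) (RG M H)) i i c'' :=
      ⟨Algebra.mem_top, by rw [hc'', ← mul_assoc, ← mul_assoc, hα.2.1],
        by rw [hc'', mul_assoc, hβ.2.2]⟩
    have hred : redG H M (c'' * X) = 0 := by
      have e : c'' * X = α * sg (X ^ (q - 1) * i * c') * β := by
        rw [map_mul _ (X ^ (q - 1) * i), hc'def, sg.apply_symm_apply, hc'',
          show α * (sg (X ^ (q - 1) * i) * (β * X * α)) * β =
            α * sg (X ^ (q - 1) * i) * β * (X * (α * β)) by simp only [mul_assoc],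
          hαβ, D.corner.2.2]
      have h2 : redG H M (X ^ (q - 1) * i * c') = 0 := by
        rw [map_mul, hd, map_mul _ X, ← mul_assoc, ← map_mul,
          show X ^ (q - 1) * i * X = X ^ q * i by
            rw [mul_assoc, D.commute_X.eq, ← mul_assoc, ← pow_succ, Nat.sub_add_cancel hq],
          D.redG_pow_card hM.1, zero_mul]
      rw [e, map_mul, map_mul, redG_nconj_eq_zero htH h2, mul_zero, zero_mul]
    obtain ⟨lam, hlam⟩ := D.annihilator_X hM.1 hcc hred
    have hact : modAct σH c'' = τ * top * τ' := by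
      rw [hc'', hτdef, hτ'def, map_mul, map_mul, htop, show modAct σH α * ρ t *
        modAct σH (X ^ (q - 1) * i) * (ρ t⁻¹ * modAct σH β) = modAct σH α * (ρ t *
        modAct σH (X ^ (q - 1) * i) * ρ t⁻¹) * modAct σH β by simp only [mul_assoc], hρ,
        ← modAct_nconj htH σ]
    have h3 : τ (top u) = modAct σH c'' (τ u) := by
      rw [hact, End.mul_apply, End.mul_apply, ← End.mul_apply τ' τ, hτ'τ, ← End.mul_apply top pi0,
        htop, hpi0, ← map_mul, mul_assoc, hi.idem]
    rw [h3, modAct_eq_smul_of_red σH hlam, LinearMap.smul_apply]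
    exact Submodule.smul_mem _ _ ⟨τ u, rfl⟩
  have hτ'I : ∀ v ∈ I, τ' v ∈ I := by
    intro v hv
    let TI : I →ₗ[k] I := τ.restrict hτI
    have hinj : Function.Injective TI := by
      refine (injective_iff_map_eq_zero TI).2 fun u hu => Subtype.ext ?_
      have h0 : τ (u : Fin n → k) = 0 := congrArg Subtype.val hu
      have h3 := congrArg τ' h0
      rw [← End.mul_apply, hτ'τ, map_zero, ((hKmem _).1 (hIK u.2)).1] at h3
      simpa using h3
    obtain ⟨u, hu⟩ := (LinearMap.injective_iff_surjective.1 hinj) ⟨v, hv⟩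
    have hu' : τ (u : Fin n → k) = v := congrArg Subtype.val hu
    rw [← hu', ← End.mul_apply τ' τ, hτ'τ, ((hKmem _).1 (hIK u.2)).1]
    exact u.2
  -- powers
  let A : ℕ → End k (Fin n → k) := fun j => τ ^ j * pi0
  let A' : ℕ → End k (Fin n → k) := fun j => pi0 * τ' ^ j
  have hAA : ∀ j, A j * A' j = pi0 := by
    intro j
    induction j with
    | zero => simp only [A, A', pow_zero, one_mul, mul_one, hππ]
    | succ j ih =>
      simp only [A, A'] at ih ⊢
      rw [pow_succ, pow_succ', mul_assoc (τ ^ j), hτπ, ← mul_assoc pi0, hπτ', mul_assoc,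
        ← mul_assoc τ τ', hττ', ← mul_assoc]
      rw [← mul_assoc, mul_assoc (τ ^ j) pi0 pi0, hππ] at ih
      exact ih
  have hAform : ∀ j, ∃ a : RG M H, A j = modAct σH a * ρ (t ^ j) := by
    intro j
    induction j with
    | zero => exact ⟨i, by simp [A, hpi0]⟩
    | succ j ih =>
      obtain ⟨a, ha⟩ := ih
      refine ⟨α * sg a, ?_⟩
      show τ ^ (j + 1) * pi0 = _
      rw [pow_succ', mul_assoc, show τ ^ j * pi0 = modAct σH a * ρ (t ^ j) from ha, hτdef, mul_assoc,
        ← mul_assoc (ρ t), hmove, map_mul, pow_succ', map_mul]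
      simp only [mul_assoc]
  have hA'form : ∀ j, ∃ a : RG M H, A' j = ρ (t ^ j)⁻¹ * modAct σH a := by
    intro j
    induction j with
    | zero => exact ⟨i, by simp [A', hpi0]⟩
    | succ j ih =>
      obtain ⟨a, ha⟩ := ih
      refine ⟨sg a * β, ?_⟩
      show pi0 * τ' ^ (j + 1) = _
      rw [pow_succ, ← mul_assoc, show pi0 * τ' ^ j = ρ (t ^ j)⁻¹ * modAct σH a from ha, hτ'def,
        mul_assoc, ← mul_assoc (modAct σH a), hmove', map_mul, pow_succ', mul_inv_rev, map_mul]
      simp only [mul_assoc]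
  have hτpow : ∀ j, ∀ v ∈ K, (τ ^ j) v ∈ K := fun j => by
    induction j with
    | zero => intro v hv; simpa using hv
    | succ j ih => intro v hv; rw [pow_succ', End.mul_apply]; exact hτK _ (ih v hv)
  have hτ'pow : ∀ j, ∀ v ∈ K, (τ' ^ j) v ∈ K := fun j => by
    induction j with
    | zero => intro v hv; simpa using hv
    | succ j ih => intro v hv; rw [pow_succ', End.mul_apply]; exact hτ'K _ (ih v hv)
  have hA'K : ∀ j, ∀ v ∈ K, A' j v = (τ' ^ j) v := fun j v hv => by
    rw [End.mul_apply, ((hKmem _).1 (hτ'pow j v hv)).1]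
  have hAK : ∀ j, ∀ v ∈ K, A j v = (τ ^ j) v := fun j v hv => by
    rw [End.mul_apply, ((hKmem _).1 hv).1]
  have hAI : ∀ j, ∀ v ∈ I, A j v ∈ I := fun j => by
    induction j with
    | zero => intro v hv; simpa [A, ((hKmem _).1 (hIK hv)).1] using hv
    | succ j ih =>
      intro v hv
      show (τ ^ (j + 1) * pi0) v ∈ I
      rw [pow_succ', mul_assoc, End.mul_apply]
      exact hτI _ (ih v hv)
  -- the scalar of `τ ^ e`
  obtain ⟨c, hc0, hcK⟩ : ∃ c : k, c ≠ 0 ∧ ∀ v ∈ K, (τ ^ e) v = c • v := by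
    obtain ⟨a, ha⟩ := hAform e
    have hAe : A e = modAct σH (sand i (a * el ⟨t ^ e, hte⟩)) := by
      rw [sand_apply, map_mul, map_mul, map_mul, modAct_el, hρH, ← ha, ← hpi0]
      show τ ^ e * pi0 = pi0 * (τ ^ e * pi0) * pi0
      have hπpow : pi0 * (τ ^ e * pi0) = τ ^ e * pi0 := by
        rcases Nat.eq_zero_or_pos e with he0 | he0
        · rw [he0, pow_zero, one_mul, hππ]
        · obtain ⟨e', rfl⟩ := Nat.exists_eq_add_of_le' he0
          rw [pow_succ', ← mul_assoc, ← mul_assoc, hπτ]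
      rw [hπpow, mul_assoc, hππ]
    obtain ⟨c, hc⟩ := D.scalar_on_kernel σH (inCorner_sand hi (a * el ⟨t ^ e, hte⟩))
    have hcK : ∀ v ∈ K, (τ ^ e) v = c • v := fun v hv => by
      rw [← hAK e v hv, hAe]
      exact hc v ((hKmem v).1 hv).1 ((hKmem v).1 hv).2
    refine ⟨c, fun h0 => hwI ?_, hcK⟩
    have h1 : (τ' ^ e * τ ^ e) w = w := by
      have hcomm : ∀ j, ∀ v ∈ K, (τ' ^ j * τ ^ j) v = v := fun j => by
        induction j with
        | zero => intro v _; simp
        | succ j ih =>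
          intro v hv
          rw [pow_succ, pow_succ', show τ' ^ j * τ' * (τ * τ ^ j) = τ' ^ j * (τ' * τ) * τ ^ j by
            simp only [mul_assoc], hτ'τ, End.mul_apply, End.mul_apply,
            ((hKmem _).1 (hτpow j v hv)).1]
          exact ih v hv
      exact hcomm e w hwK
    rw [End.mul_apply, hcK w hwK, h0, zero_smul, map_zero] at h1
    rw [← h1]
    exact zero_mem _
  -- the quotient
  set J := I.comap K.subtype with hJ
  let TQ : End k (K ⧸ J) := Submodule.mapQ J J (τ.restrict hτK) fun v hv => hτI (v : Fin n → k) hv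
  let TQ' : End k (K ⧸ J) := Submodule.mapQ J J (τ'.restrict hτ'K) fun v hv => hτ'I (v : Fin n → k) hv
  have hTQ : ∀ j, ∀ v : K, (TQ ^ j) (Submodule.Quotient.mk v) =
      Submodule.Quotient.mk ⟨(τ ^ j) (v : Fin n → k), hτpow j v v.2⟩ := fun j => by
    induction j with
    | zero => intro v; rfl
    | succ j ih =>
      intro v
      rw [pow_succ', End.mul_apply, ih]
      refine congrArg Submodule.Quotient.mk (Subtype.ext ?_)
      show τ ((τ ^ j) (v : Fin n → k)) = (τ ^ (j + 1)) (v : Fin n → k)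
      rw [pow_succ', End.mul_apply]
  have hTQ' : ∀ j, ∀ v : K, (TQ' ^ j) (Submodule.Quotient.mk v) =
      Submodule.Quotient.mk ⟨(τ' ^ j) (v : Fin n → k), hτ'pow j v v.2⟩ := fun j => by
    induction j with
    | zero => intro v; rfl
    | succ j ih =>
      intro v
      rw [pow_succ', End.mul_apply, ih]
      refine congrArg Submodule.Quotient.mk (Subtype.ext ?_)
      show τ' ((τ' ^ j) (v : Fin n → k)) = (τ' ^ (j + 1)) (v : Fin n → k)
      rw [pow_succ', End.mul_apply]
  have hTQe : TQ ^ e = c • 1 := by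
    refine LinearMap.ext fun q' => Submodule.Quotient.induction_on _ q' fun v => ?_
    rw [hTQ, LinearMap.smul_apply, End.one_apply, ← Submodule.Quotient.mk_smul]
    exact congrArg Submodule.Quotient.mk (Subtype.ext (hcK v v.2))
  have hTQ'TQ : TQ' * TQ = 1 := by
    refine LinearMap.ext fun q' => Submodule.Quotient.induction_on _ q' fun v => ?_
    show Submodule.Quotient.mk _ = Submodule.Quotient.mk v
    refine congrArg Submodule.Quotient.mk (Subtype.ext ?_)
    show τ' (τ (v : Fin n → k)) = _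
    rw [← End.mul_apply, hτ'τ, ((hKmem _).1 v.2).1]
  have hTQrel : ∀ j ≤ e, TQ ^ (e - j) = c • TQ' ^ j := fun j hj => by
    induction j with
    | zero => rw [Nat.sub_zero, hTQe, pow_zero]
    | succ j ih =>
      have h1 := ih (Nat.le_of_succ_le hj)
      rw [show e - j = e - (j + 1) + 1 by omega, pow_succ'] at h1
      calc TQ ^ (e - (j + 1)) = TQ' * (TQ * TQ ^ (e - (j + 1))) := by
            rw [← mul_assoc, hTQ'TQ, one_mul]
        _ = _ := by rw [h1, mul_smul_comm, ← pow_succ']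
  have hek : (e : k) ≠ 0 := by rwa [Ne, CharP.cast_eq_zero_iff k p]
  have hwQ : (Submodule.Quotient.mk (⟨w, hwK⟩ : K) : K ⧸ J) ≠ 0 := fun h =>
    hwI ((Submodule.Quotient.mk_eq_zero J).1 h)
  suffices hQ : finrank k (K ⧸ J) ≤ 1 by
    have h1 : finrank k (K ⧸ J) + finrank k J = finrank k K := Submodule.finrank_quotient_add_finrank J
    have h2 : finrank k J = finrank k I := (Submodule.comapSubtypeEquivOfLe hIK).finrank_eq
    omega
  refine finrank_le_one_of_avg hc0 hTQe hek _ hwQ fun lQ => ?_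
  obtain ⟨l, hl'⟩ := LinearMap.exists_extend (lQ.comp J.mkQ)
  have hlK : ∀ v : K, l (v : Fin n → k) = lQ (Submodule.Quotient.mk v) := fun v =>
    LinearMap.congr_fun hl' v
  have hlI : ∀ v ∈ I, l v = 0 := fun v hv => by
    rw [show v = ((⟨v, hIK hv⟩ : K) : Fin n → k) from rfl, hlK,
      (Submodule.Quotient.mk_eq_zero J).2 hv, map_zero]
  obtain ⟨a, haW, haX, hal⟩ := hfun l hlI
  set a0 := a * pi0 with ha0
  have hπa : pi0 * a0 = a0 := LinearMap.ext fun v => by
    rw [ha0, End.mul_apply, End.mul_apply]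
    exact hfixπ _ (haW _ ⟨v, rfl⟩)
  have haπ : a0 * pi0 = a0 := by rw [ha0, mul_assoc, hππ]
  have haX0 : ∀ m : ℕ, Commute a0 (modAct σH (X ^ m * i)) := by
    intro m
    induction m with
    | zero => rw [pow_zero, one_mul]; exact haπ.trans hπa.symm
    | succ m ih =>
      have h1 : Commute a0 X0 := by
        refine LinearMap.ext fun v => ?_
        rw [End.mul_apply, End.mul_apply]
        calc a0 (X0 v) = a (X0 v) := by rw [ha0, End.mul_apply, ← End.mul_apply pi0 X0, hπX]
          _ = a (X0 (pi0 v)) := by rw [← End.mul_apply X0 pi0, hXπ]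
          _ = X0 (a (pi0 v)) := haX _ ⟨v, rfl⟩
          _ = X0 (a0 v) := rfl
      rw [show X ^ (m + 1) * i = X * (X ^ m * i) by rw [pow_succ', mul_assoc], map_mul]
      exact h1.mul_right ih
  obtain ⟨ψ, hψc, hψπ, hψE⟩ := D.exists_block_commuting σH hT hiT x y hxy (if_pos rfl) (if_pos rfl)
    a0 hπa haπ (fun c hc => by
      obtain ⟨m₀, -, hspan⟩ := D.span
      have := hspan c hc
      clear hc
      induction this using Submodule.span_induction with
      | mem z hz => obtain ⟨m, rfl⟩ := hz; exact haX0 m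
      | zero => rw [map_zero]; exact Commute.zero_right _
      | add u v _ _ hu hv => rw [map_add]; exact hu.add_right hv
      | smul r u _ hu => rw [modAct_smul]; exact hu.smul_right _)
  have hψH : ∀ h : H, Commute (ρ (h : G)) ψ := fun h => by
    rw [← hρH, ← modAct_el σH]; exact hψc _
  set E := modAct σH (eBlock hM hf) with hE
  have hEef : modAct σ (ef M H f) = E := modAct_ef σ hM hf
  set Ψ := ∑ b : G ⧸ H, cjEnd σ ψ b.out with hΨ
  have hΨG : ∀ g, Commute (ρ g) Ψ := by
    intro g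
    have h1 : ρ g * Ψ * ρ g⁻¹ = Ψ := by
      rw [hΨ, Finset.mul_sum, Finset.sum_mul,
        Finset.sum_congr rfl fun (b : G ⧸ H) _ => (cjEnd_mul (σ := σ) ψ g b.out).symm]
      refine Fintype.sum_equiv (MulAction.toPerm g) _ _ fun b => ?_
      obtain ⟨h', hh'⟩ := QuotientGroup.mk_out_eq_mul H (g * b.out)
      rw [MulAction.toPerm_apply, show g • b = ((g * b.out : G) : G ⧸ H) by
        conv_lhs => rw [← b.out_eq']
        rfl, hh', cjEnd_mul_of_commute (hψH h')]
    calc ρ g * Ψ = ρ g * Ψ * (ρ g⁻¹ * ρ g) := by rw [← map_mul, inv_mul_cancel, map_one, mul_one]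
      _ = Ψ * ρ g := by rw [← mul_assoc, h1]
  haveI : Nontrivial (Fin n → k) := nontrivial_of_ne w 0 fun h => hwI (h ▸ zero_mem _)
  obtain ⟨μ, hμ⟩ := Module.End.exists_eigenvalue Ψ
  have hnil : IsNilpotent (Ψ - μ • 1) := by
    refine (hloc (Ψ - μ • 1) fun g =>
      ((hΨG g).symm).sub_left ((Commute.one_left _).smul_left μ)).resolve_left fun hu => ?_
    obtain ⟨v, hv⟩ := hμ.exists_hasEigenvector
    refine hv.2 (((End.isUnit_iff _).1 hu).1 ?_)
    rw [LinearMap.sub_apply, LinearMap.smul_apply, End.one_apply, hv.apply_eq_smul, sub_self,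
      map_zero]
  refine ⟨μ, ?_⟩
  have hΨK : ∀ v ∈ K, Ψ v ∈ K := fun v hv => by
    obtain ⟨h1, h2⟩ := (hKmem v).1 hv
    have hc : ∀ z : RG M H, Commute (modAct σH z) Ψ := fun z => by
      rw [modAct_eq_sum]
      exact Commute.sum_left _ _ _ fun g _ => ((hΨG (g : G)).smul_left _)
    refine (hKmem _).2 ⟨?_, ?_⟩
    · rw [← End.mul_apply, (hc i).eq, End.mul_apply, h1]
    · rw [← End.mul_apply, (hc X).eq, End.mul_apply, h2, map_zero]
  have hΨI : ∀ v ∈ I, Ψ v ∈ I := by
    rintro _ ⟨u, rfl⟩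
    have hc : Commute top Ψ := by
      rw [htop, modAct_eq_sum]
      exact Commute.sum_left _ _ _ fun g _ => ((hΨG (g : G)).smul_left _)
    exact ⟨Ψ u, by rw [← End.mul_apply, hc.eq, End.mul_apply]⟩
  let ΨQ : End k (K ⧸ J) := Submodule.mapQ J J (Ψ.restrict hΨK) fun v hv => hΨI (v : Fin n → k) hv
  have hNK : ∀ v ∈ K, (Ψ - μ • 1) v ∈ K := fun v hv => by
    rw [LinearMap.sub_apply, LinearMap.smul_apply, End.one_apply]
    exact K.sub_mem (hΨK v hv) (K.smul_mem _ hv)
  have hnilQ : IsNilpotent (ΨQ - μ • 1) := by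
    obtain ⟨m, hm⟩ := hnil
    refine ⟨m, LinearMap.ext fun q' => Submodule.Quotient.induction_on _ q' fun v => ?_⟩
    have key : ∀ j : ℕ, ∀ v : K,
        ∃ hj : ((Ψ - μ • (1 : End k (Fin n → k))) ^ j : End k (Fin n → k)) (v : Fin n → k) ∈ K,
        ((ΨQ - μ • (1 : End k (K ⧸ J))) ^ j : End k (K ⧸ J)) (Submodule.Quotient.mk v) =
          Submodule.Quotient.mk ⟨_, hj⟩ := by
      intro j
      induction j with
      | zero => intro v; exact ⟨v.2, rfl⟩
      | succ j ih =>
        intro v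
        obtain ⟨hj, e1⟩ := ih v
        refine ⟨by rw [pow_succ', End.mul_apply]; exact hNK _ hj, ?_⟩
        rw [pow_succ', End.mul_apply, e1]
        rw [LinearMap.sub_apply, LinearMap.smul_apply, End.one_apply,
          show ∀ u : K, ΨQ (Submodule.Quotient.mk u) = Submodule.Quotient.mk (Ψ.restrict hΨK u) from
            fun u => rfl]
        rw [← Submodule.Quotient.mk_smul, ← Submodule.Quotient.mk_sub]
        refine congrArg Submodule.Quotient.mk (Subtype.ext ?_)
        show Ψ _ - μ • _ = ((Ψ - μ • 1) ^ (j + 1)) (v : Fin n → k)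
        rw [pow_succ', End.mul_apply]
        rfl
    obtain ⟨hj, e1⟩ := key m v
    rw [e1, LinearMap.zero_apply, Submodule.Quotient.mk_eq_zero]
    show ((Ψ - μ • 1) ^ m) (v : Fin n → k) ∈ I
    rw [hm]
    exact zero_mem _
  convert hnilQ using 2
  -- the average is `Ψ`
  refine LinearMap.ext fun q' => Submodule.Quotient.induction_on _ q' fun v => ?_
  obtain ⟨hv1, hv2⟩ := (hKmem _).1 v.2
  -- terms
  have hEπ : pi0 * E = pi0 := by rw [hpi0, hE, ← map_mul, hiB]
  have hin : ∀ j, pi0 * cjEnd σ ψ (t ^ j) * pi0 = A j * a0 * A' j := by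
    intro j
    obtain ⟨aj, haj⟩ := hAform j
    obtain ⟨bj, hbj⟩ := hA'form j
    have hcomm : Commute (modAct σH bj) (cjEnd σ ψ (t ^ j)) := by
      rw [modAct_eq_sum]
      refine Commute.sum_left _ _ _ fun g _ => Commute.smul_left ?_ _
      show ρ (g : G) * cjEnd σ ψ (t ^ j) = cjEnd σ ψ (t ^ j) * ρ (g : G)
      have hgH : ((t ^ j)⁻¹ * (g : G) * t ^ j) ∈ H := (hNH _ (pow_mem ht j) _).1 g.2
      have h1 : cjEnd σ ψ ((g : G) * t ^ j) = cjEnd σ ψ (t ^ j) := by
        rw [show (g : G) * t ^ j = t ^ j * ((⟨_, hgH⟩ : H) : G) by simp [mul_assoc]]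
        exact cjEnd_mul_of_commute (hψH _) _
      calc ρ (g : G) * cjEnd σ ψ (t ^ j)
          = ρ (g : G) * cjEnd σ ψ (t ^ j) * (ρ (g : G)⁻¹ * ρ (g : G)) := by
            rw [← map_mul, inv_mul_cancel, map_one, mul_one]
        _ = _ := by rw [← mul_assoc, ← cjEnd_mul, h1]
    have hbaseab : modAct σH aj * modAct σH bj = pi0 := by
      rw [← hAA j, haj, hbj, show modAct σH aj * ρ (t ^ j) * (ρ (t ^ j)⁻¹ * modAct σH bj) =
        modAct σH aj * (ρ (t ^ j) * ρ (t ^ j)⁻¹) * modAct σH bj by simp only [mul_assoc],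
        ← map_mul ρ, mul_inv_cancel, map_one, mul_one]
    have hA'π : A' j * pi0 = A' j := by
      show pi0 * τ' ^ j * pi0 = pi0 * τ' ^ j
      rcases Nat.eq_zero_or_pos j with rfl | hj
      · rw [pow_zero, mul_one, hππ]
      · obtain ⟨j, rfl⟩ := Nat.exists_eq_add_of_le' hj
        rw [mul_assoc, pow_succ, mul_assoc (τ' ^ j), hτ'π]
    have hAπ : A j * pi0 = A j := by show τ ^ j * pi0 * pi0 = τ ^ j * pi0; rw [mul_assoc, hππ]
    calc pi0 * cjEnd σ ψ (t ^ j) * pi0
        = modAct σH aj * (cjEnd σ ψ (t ^ j) * modAct σH bj) * pi0 := by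
          rw [← hbaseab, mul_assoc (modAct σH aj) (modAct σH bj), hcomm.eq]
      _ = A j * ψ * A' j * pi0 := by rw [haj, hbj, cjEnd]; simp only [mul_assoc]; rfl
      _ = A j * (pi0 * ψ * pi0) * A' j := by
          rw [mul_assoc _ (A' j) pi0, hA'π]
          have hπA' : pi0 * A' j = A' j := by
            show pi0 * (pi0 * τ' ^ j) = _
            rw [← mul_assoc, hππ]
          conv_lhs => rw [← hAπ, ← hπA']
          simp only [mul_assoc]
      _ = _ := by rw [hψπ]
  obtain ⟨Φ, hΦ⟩ := exists_outside_trace hM hHN hf hPD hTI σ ψ hψH hψE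
  have hzero : ∀ b ∈ N, (∀ j < e, (t ^ j)⁻¹ * b ∉ H) → pi0 * cjEnd σ ψ b = 0 := by
    intro b hb hbad
    have h1 : cjEnd σ ψ b = modAct σ (cj b (ef M H f)) * cjEnd σ ψ b := by
      rw [cj_apply, map_mul, map_mul, modAct_el, modAct_el, hEef, cjEnd,
        show redModel σ b * E * redModel σ b⁻¹ * (redModel σ b * ψ * redModel σ b⁻¹) =
          redModel σ b * E * (redModel σ b⁻¹ * redModel σ b) * ψ * redModel σ b⁻¹ by
          simp only [mul_assoc], ← map_mul, inv_mul_cancel, map_one, mul_one,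
        mul_assoc (redModel σ b) E, hψE]
    rw [h1, ← hEπ, ← hEef, mul_assoc pi0, ← mul_assoc (modAct σ (ef M H f)), ← map_mul,
      hkill b hb hbad, map_zero, zero_mul, mul_zero]
  let cs : Finset (G ⧸ H) := (Finset.range e).image fun j : ℕ => ((t ^ j : G) : G ⧸ H)
  have hcsN : ∀ b ∈ cs, b.out ∈ N := by
    intro b hb
    obtain ⟨j, -, rfl⟩ := Finset.mem_image.1 hb
    obtain ⟨h', hh'⟩ := QuotientGroup.mk_out_eq_mul H (t ^ j)
    rw [hh']; exact N.mul_mem (pow_mem ht j) (hHN h'.2)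
  have hsplit : pi0 * Ψ * pi0 = ∑ j ∈ Finset.range e, A j * a0 * A' j +
      pi0 * (∑ b ∈ Finset.univ.filter (fun b : G ⧸ H => b.out ∉ N), cjEnd σ ψ b.out) * pi0 := by
    rw [hΨ, ← Finset.sum_filter_add_sum_filter_not Finset.univ (fun b : G ⧸ H => b.out ∈ N),
      mul_add, add_mul]
    congr 1
    rw [Finset.mul_sum, Finset.sum_mul,
      ← Finset.sum_subset (s₁ := cs) (fun b hb => Finset.mem_filter.2 ⟨Finset.mem_univ _, hcsN b hb⟩)]
    · rw [Finset.sum_image]
      · refine Finset.sum_congr rfl fun j _ => ?_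
        obtain ⟨h', hh'⟩ := QuotientGroup.mk_out_eq_mul H (t ^ j)
        rw [hh', cjEnd_mul_of_commute (hψH h'), hin]
      · intro a ha b hb h
        exact hdist a (Finset.mem_range.1 ha) b (Finset.mem_range.1 hb) (QuotientGroup.eq.1 h)
    · intro b hb hbn
      rw [hzero b.out (Finset.mem_filter.1 hb).2 fun j hj hh => hbn (Finset.mem_image.2
        ⟨j, Finset.mem_range.2 hj, ?_⟩), zero_mul]
      conv_rhs => rw [← b.out_eq']
      exact QuotientGroup.eq.2 hh
  have hΨv : Ψ (v : Fin n → k) = (pi0 * Ψ * pi0) (v : Fin n → k) := by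
    rw [End.mul_apply, End.mul_apply, hv1, ((hKmem _).1 (hΨK _ v.2)).1]
  have hIrest : (pi0 * (∑ b ∈ Finset.univ.filter (fun b : G ⧸ H => b.out ∉ N), cjEnd σ ψ b.out) *
      pi0) (v : Fin n → k) ∈ I := by
    rw [← hEπ, mul_assoc pi0 E, hΦ, End.mul_apply, End.mul_apply, hEπ, hv1]
    exact D.proj_trace_mem σH hM.1 hT x y hxy Φ hv2
  show avg TQ c e (lQ.smulRight _) (Submodule.Quotient.mk v) = Submodule.Quotient.mk _
  have hterm : ∀ j ∈ Finset.range e, (c⁻¹ • (TQ ^ j * (lQ.smulRight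
      (Submodule.Quotient.mk (⟨w, hwK⟩ : K)) : End k (K ⧸ J)) * TQ ^ (e - j) : End k (K ⧸ J)) :
      End k (K ⧸ J)) (Submodule.Quotient.mk v) =
      lQ (Submodule.Quotient.mk ⟨(τ' ^ j) (v : Fin n → k), hτ'pow j v v.2⟩) •
        Submodule.Quotient.mk (⟨(τ ^ j) w, hτpow j w hwK⟩ : K) := by
    intro j hj
    rw [LinearMap.smul_apply, End.mul_apply, End.mul_apply, hTQrel j (Finset.mem_range.1 hj).le,
      LinearMap.smul_apply, map_smul, map_smul, LinearMap.smulRight_apply, hTQ', map_smul, hTQ,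
      smul_smul, inv_mul_cancel₀ hc0, one_smul]
  rw [avg, LinearMap.sum_apply, Finset.sum_congr rfl hterm, ← sub_eq_zero]
  simp only [← Submodule.Quotient.mk_smul]
  simp only [← Submodule.mkQ_apply]
  rw [← map_sum, ← map_sub, Submodule.mkQ_apply, Submodule.Quotient.mk_eq_zero]
  show K.subtype (_ - _) ∈ I
  rw [map_sub, map_sum]
  show (∑ j ∈ Finset.range e, _) - Ψ (v : Fin n → k) ∈ I
  rw [hΨv, hsplit, LinearMap.add_apply, sub_add_eq_sub_sub, LinearMap.sum_apply,
    ← Finset.sum_sub_distrib]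
  refine I.sub_mem (Submodule.sum_mem _ fun j _ => ?_) hIrest
  have hu := hτ'pow j v v.2
  obtain ⟨hu1, hu2⟩ := (hKmem _).1 hu
  show lQ _ • (τ ^ j) w - A j (a0 (A' j (v : Fin n → k))) ∈ I
  rw [hA'K j v v.2, ha0, End.mul_apply a pi0, hu1, Submodule.mkQ_apply, ← hlK ⟨_, hu⟩,
    ← hAK j w hwK, ← map_smul, ← map_sub]
  refine hAI j _ ?_
  have h := hal _ (Submodule.mem_inf.1 hu).1 hu2
  have h' := I.neg_mem h
  rwa [neg_sub] at h'

end Cfsg.Agent.Lib.CyclicTree
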