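import Cfsg.Agent.Lib.CyclicTree.LocalFacts
import Cfsg.Agent.Lib.CyclicTree.Stable
import Cfsg.Agent.Lib.Characters.Induced

/-!
# The lattice of differences induced from the centralizer of the subgroup of order `p`
-/

set_option autoImplicit false
set_option linter.unusedSectionVars false
set_option linter.style.haveILetI false

namespace Cfsg.Agent.Lib.CyclicTree

open Cfsg Cfsg.Agent.Lib.Blocks Cfsg.Agent.Lib.Characters Cfsg.Agent.Lib.BlockHeights
open Cfsg.Agent.Lib.BrauerPairs Cfsg.Agent.Lib.BrauerStar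
open scoped ComplexConjugate

universe u

variable {G : Type u} [Group G] [Fintype G] {M : Ideal AlgInt} [hMp : M.IsPrime] {p : ℕ}
variable {hM : IsPModular p M} {B : Set (IrrCharacter G)} {z : G} {H N : Subgroup G} [Fintype H]
  {f : Set (IrrCharacter H)} {PH : Subgroup H} {t : G} {e : ℕ}

/-- The multiplicity of `η` in the restriction of `χ`. -/
noncomputable def mult (χ : IrrCharacter G) (η : IrrCharacter H) : ℕ :=
  Classical.choose (exists_resMult_nat (C := H) χ η)

theorem resMult_eq_mult (χ : IrrCharacter G) (η : IrrCharacter H) :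
    resMult H χ η = (mult χ η : ℂ) :=
  Classical.choose_spec (exists_resMult_nat (C := H) χ η)

/-- The difference of two members. -/
def theta (η₀ η : IrrCharacter H) : H → ℂ := fun h => (η₀ : H → ℂ) h - (η : H → ℂ) h

/-- The coordinates of the induced difference. -/
noncomputable def coordW (η₀ η : IrrCharacter H) (χ : IrrCharacter G) : ℤ :=
  (mult χ η₀ : ℤ) - (mult χ η : ℤ)

theorem classInner_theta (η₀ η : IrrCharacter H) (F : H → ℂ) :
    classInner F (theta η₀ η) = classInner F (η₀ : H → ℂ) - classInner F (η : H → ℂ) := by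
  simp only [classInner, theta, map_sub, mul_sub, Finset.sum_sub_distrib]

theorem classInner_res_theta (η₀ η : IrrCharacter H) (χ : IrrCharacter G) :
    classInner (resFun H (χ : G → ℂ)) (theta η₀ η) = (coordW η₀ η χ : ℂ) := by
  rw [classInner_theta, coordW, Int.cast_sub, Int.cast_natCast, Int.cast_natCast, ← resMult_eq_mult,
    ← resMult_eq_mult]
  rfl

theorem classInner_indFun_theta (η₀ η : IrrCharacter H) (χ : IrrCharacter G) :
    classInner (indFun H (theta η₀ η)) (χ : G → ℂ) = (coordW η₀ η χ : ℂ) := by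
  rw [classInner_indFun H _ (irr_isClassFunction χ), ← classInner_conj_symm]
  show conj (classInner (resFun H (χ : G → ℂ)) (theta η₀ η)) = _
  rw [classInner_res_theta, map_intCast]

namespace LocalData

variable (L : LocalData hM B z H N f PH t e)
include L

theorem theta_regular {η₀ η : IrrCharacter H} (h0 : η₀ ∈ f) (hη : η ∈ f) {h : H}
    (hh : IsPRegular p h) : theta η₀ η h = 0 := by
  rw [theta, L.regular_eq h0 hη hh, sub_self]

theorem theta_support {η₀ η : IrrCharacter H} (h0 : η₀ ∈ f) (hη : η ∈ f) {h : H}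
    (hne : theta η₀ η h ≠ 0) : Sect p z (h : G) := by
  have hsing : ¬ IsPRegular p (h : G) := fun hr => hne (L.theta_regular h0 hη (by
    unfold IsPRegular at hr ⊢; rwa [Subgroup.orderOf_coe] at hr))
  by_cases h1 : (η₀ : H → ℂ) h = 0
  · refine L.sect_of_ne_zero hη hsing fun h2 => hne ?_
    rw [theta, h1, h2, sub_zero]
  · exact L.sect_of_ne_zero h0 hsing h1

/-- An element of `z`'s section has its nontrivial conjugating elements in the normalizer. -/
theorem mem_N_of_sect {g x : G} (hg : Sect p z g) (hx : Sect p z (x⁻¹ * g * x)) : x ∈ N := by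
  obtain ⟨u, hu, hzu⟩ := hg
  obtain ⟨v, hv, hzv⟩ := hx
  have hconj : IsPPart p (x⁻¹ * g * x) (x⁻¹ * u * x) := by
    have := IsPPart.conjugate hu x⁻¹
    rwa [inv_inv] at this
  rw [isPPart_unique hM.1 hv hconj] at hzv
  obtain ⟨k, hk⟩ := hu.choose_spec.2.2.1
  obtain ⟨i, hi⟩ := Subgroup.mem_zpowers_iff.1 hzv
  have e1 : x * z * x⁻¹ = u ^ i := by
    rw [← hi, show x⁻¹ * u * x = x⁻¹ * u * x⁻¹⁻¹ by group, conj_zpow]
    group
  refine (L.mem_N x).2 ?_
  rw [e1]
  refine mem_zpowers_of_prime_order hM.1 (S := Subgroup.zpowers u) hzu L.zo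
    ⟨i, rfl⟩ ?_
  rw [← e1, conj_pow, ← L.zo, pow_orderOf_eq_one, mul_one, mul_inv_cancel]

/-- The induced difference on the section. -/
theorem indFun_theta_sect {η₀ η : IrrCharacter H} (h0 : η₀ ∈ f) (hη : η ∈ f) {g : G}
    (hg : Sect p z g) [DecidablePred (· ∈ N)] :
    indFun H (theta η₀ η) g = (Nat.card H : ℂ)⁻¹ *
      ∑ x ∈ Finset.univ.filter (· ∈ N), extendByZero H (theta η₀ η) (x⁻¹ * g * x) := by
  rw [indFun_apply]
  congr 1
  refine (Finset.sum_subset (Finset.subset_univ _) fun x _ hx => ?_).symm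
  by_cases hm : x⁻¹ * g * x ∈ H
  · rw [extendByZero_of_mem _ _ hm]
    by_contra hne
    exact hx (Finset.mem_filter.2 ⟨Finset.mem_univ _, L.mem_N_of_sect hg (L.theta_support h0 hη hne)⟩)
  · rw [extendByZero_of_not_mem _ _ hm]

open scoped Classical in
theorem classInner_theta_ind {η₀ η η₀' η' : IrrCharacter H} (h0 : η₀ ∈ f) (hη : η ∈ f)
    (h0' : η₀' ∈ f) (hη' : η' ∈ f) :
    classInner (theta η₀ η) (resFun H (indFun H (theta η₀' η'))) = (Nat.card H : ℂ)⁻¹ *
      ∑ x ∈ (Finset.univ.filter (· ∈ N)).attach,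
        (classInner (theta η₀ η) (L.nact (Finset.mem_filter.1 x.2).2 η₀' : H → ℂ) -
          classInner (theta η₀ η) (L.nact (Finset.mem_filter.1 x.2).2 η' : H → ℂ)) := by
  have hval : ∀ h : H, theta η₀ η h * conj (indFun H (theta η₀' η') (h : G)) =
      theta η₀ η h * conj ((Nat.card H : ℂ)⁻¹ * ∑ x ∈ (Finset.univ.filter (· ∈ N)).attach,
        theta (L.nact (Finset.mem_filter.1 x.2).2 η₀') (L.nact (Finset.mem_filter.1 x.2).2 η') h) := by
    intro h
    by_cases hne : theta η₀ η h = 0
    · rw [hne, zero_mul, zero_mul]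
    rw [L.indFun_theta_sect h0' hη' (L.theta_support h0 hη hne), ← Finset.sum_attach]
    congr 3
    refine Finset.sum_congr rfl fun x _ => ?_
    have hxN : (x : G) ∈ N := (Finset.mem_filter.1 x.2).2
    rw [extendByZero_of_mem _ _ ((L.conj_mem hxN _).1 h.2)]
    simp only [theta]
    rw [L.nact_apply hxN η₀' h ⟨(x : G)⁻¹ * h * x, (L.conj_mem hxN _).1 h.2⟩ rfl,
      L.nact_apply hxN η' h ⟨(x : G)⁻¹ * h * x, (L.conj_mem hxN _).1 h.2⟩ rfl]
  simp only [← classInner_theta]
  simp only [classInner]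
  rw [Finset.sum_congr rfl fun h _ => show theta η₀ η h * conj (resFun H (indFun H (theta η₀' η')) h) = _
    from hval h]
  simp only [map_mul, map_inv₀, map_natCast, map_sum, Finset.mul_sum]
  rw [Finset.sum_comm]
  exact Finset.sum_congr rfl fun x _ => Finset.sum_congr rfl fun h _ => by ring

set_option maxHeartbeats 1000000 in
open scoped Classical in
/-- **The Gram matrix.** -/
theorem gram [Fintype (IrrCharacter G)] {η₀ η η' : IrrCharacter H} (h0 : η₀ ∈ f)
    (hfix : ∀ j, L.nact (pow_mem L.ht j) η₀ = η₀) (hη : η ∈ f) (hη' : η' ∈ f)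
    (hne : η ≠ η₀) (hne' : η' ≠ η₀) :
    ∑ χ : IrrCharacter G, coordW η₀ η χ * coordW η₀ η' χ = (e : ℤ) +
      ((Finset.range e).filter fun j => L.nact (pow_mem L.ht j) η' = η).card := by
  apply Int.cast_injective (α := ℂ)
  have hmain : ((∑ χ : IrrCharacter G, coordW η₀ η χ * coordW η₀ η' χ : ℤ) : ℂ) =
      classInner (theta η₀ η) (resFun H (indFun H (theta η₀ η'))) := by
    show _ = classInner (theta η₀ η) (fun h : H => indFun H (theta η₀ η') h)
    rw [← classInner_indFun H (theta η₀ η) (isClassFunction_indFun H _),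
      eq_sum_classInner (isClassFunction_indFun H (theta η₀ η)), classInner_sum_left, Int.cast_sum]
    refine Finset.sum_congr rfl fun χ _ => ?_
    rw [classInner_smul_left, classInner_indFun_theta, ← classInner_conj_symm,
      classInner_indFun_theta, map_intCast, Int.cast_mul]
  rw [hmain, L.classInner_theta_ind h0 hη h0 hη']
  let T' : Finset G := (Finset.range e ×ˢ (Finset.univ : Finset H)).image fun a => t ^ a.1 * (a.2 : G)
  let F : G → ℂ := fun x => if hx : x ∈ N then
    (classInner (theta η₀ η) (L.nact hx η₀ : H → ℂ) -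
          classInner (theta η₀ η) (L.nact hx η' : H → ℂ)) else 0
  rw [Finset.sum_congr rfl (g := fun x => F x.1) fun x _ => by
      simp only [F, dif_pos (Finset.mem_filter.1 x.2).2],
    Finset.sum_attach (f := F)]
  have hout : ∀ (x : G) (hx : x ∈ N), x ∉ T' → ∀ ξ ∈ f,
      classInner (theta η₀ η) (L.nact hx ξ : H → ℂ) = 0 := by
    intro x hx hxT ξ hξ
    have hnot : L.nact hx ξ ∉ f := fun hin => L.hkill x hx (fun j hj hjH => hxT
      (Finset.mem_image.2 ⟨(j, ⟨_, hjH⟩), Finset.mem_product.2 ⟨Finset.mem_range.2 hj, Finset.mem_univ _⟩,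
        by simp⟩)) ((L.nact_mem_iff hx hξ).1 hin)
    rw [show theta η₀ η = (η₀ : H → ℂ) - (η : H → ℂ) from rfl, classInner_sub_left,
      IsIrrCharacter.classInner_ne η₀.2 (L.nact hx ξ).2 (fun e' => hnot (Subtype.ext e' ▸ h0)),
      IsIrrCharacter.classInner_ne η.2 (L.nact hx ξ).2 (fun e' => hnot (Subtype.ext e' ▸ hη)), sub_zero]
  rw [← Finset.sum_subset (s₁ := T') (fun x hx => ?_) fun x hxN hxT => ?_]
  rotate_left
  · obtain ⟨a, -, rfl⟩ := Finset.mem_image.1 hx
    exact Finset.mem_filter.2 ⟨Finset.mem_univ _, N.mul_mem (pow_mem L.ht _) (L.H_le a.2.2)⟩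
  · have hx := (Finset.mem_filter.1 hxN).2
    simp only [F, dif_pos hx, hout x hx hxT η₀ h0, hout x hx hxT η' hη', sub_zero]
  rw [Finset.sum_image fun a ha b hb hab => ?_]
  rotate_left
  · simp only [Finset.coe_product, Set.mem_prod, Finset.mem_coe, Finset.mem_range] at ha hb
    have hab' : t ^ a.1 * (a.2 : G) = t ^ b.1 * (b.2 : G) := hab
    have h1 : a.1 = b.1 := L.hdist _ ha.1 _ hb.1 (by
      rw [show (t ^ a.1)⁻¹ * t ^ b.1 = (a.2 : G) * (b.2 : G)⁻¹ by
        rw [inv_mul_eq_iff_eq_mul, ← mul_assoc, hab', mul_inv_cancel_right]]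
      exact H.mul_mem a.2.2 (H.inv_mem b.2.2))
    refine Prod.ext h1 (Subtype.ext ?_)
    rw [h1] at hab'
    exact mul_left_cancel hab'
  rw [Finset.sum_product]
  have hterm : ∀ j ∈ Finset.range e, ∑ h : H, F (t ^ j * (h : G)) = (Nat.card H : ℂ) *
      (1 + if L.nact (pow_mem L.ht j) η' = η then 1 else 0) := by
    intro j _
    rw [Finset.sum_congr rfl (g := fun _ => (1 + if L.nact (pow_mem L.ht j) η' = η then 1 else 0 : ℂ))
      fun h _ => ?_, Finset.sum_const, Finset.card_univ, ← Nat.card_eq_fintype_card, nsmul_eq_mul]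
    have hxN : t ^ j * (h : G) ∈ N := N.mul_mem (pow_mem L.ht _) (L.H_le h.2)
    have hsame : ∀ ξ, L.nact hxN ξ = L.nact (pow_mem L.ht j) ξ := fun ξ => by
      rw [L.nact_comp (pow_mem L.ht j) (L.H_le h.2), L.nact_of_mem h.2]
    simp only [F, dif_pos hxN, hsame, hfix j]
    rw [show theta η₀ η = (η₀ : H → ℂ) - (η : H → ℂ) from rfl, classInner_sub_left, classInner_sub_left,
      IsIrrCharacter.classInner_self η₀.2,
      IsIrrCharacter.classInner_ne η.2 η₀.2 (fun e' => hne (Subtype.ext e')),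
      IsIrrCharacter.classInner_ne η₀.2 (L.nact (pow_mem L.ht j) η').2 (fun e' => hne' ?_)]
    · split_ifs with hj
      · rw [hj, IsIrrCharacter.classInner_self η.2]; ring
      · rw [IsIrrCharacter.classInner_ne η.2 (L.nact (pow_mem L.ht j) η').2
          (fun e' => hj (Subtype.ext e'.symm))]
        ring
    · exact transIrr_injective _ ((Subtype.ext e' : η₀ = L.nact (pow_mem L.ht j) η').symm.trans
        (hfix j).symm)
  rw [Finset.sum_congr rfl hterm, ← Finset.mul_sum, inv_mul_cancel_left₀ natCard_ne_zero_complex,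
    Finset.sum_add_distrib, Finset.sum_const, Finset.card_range, Finset.card_filter]
  push_cast
  simp

theorem coord_eq_zero_of_not_mem {η₀ η : IrrCharacter H} (h0 : η₀ ∈ f) (hη : η ∈ f)
    {χ : IrrCharacter G} (hχ : χ ∉ B) : coordW η₀ η χ = 0 := by
  classical
  haveI := Fintype.ofFinite (IrrCharacter H)
  apply Int.cast_injective (α := ℂ)
  rw [← classInner_res_theta, Int.cast_zero]
  have hcl : IsClassFunction H (resFun H (χ : G → ℂ)) := fun a b =>
    irr_isClassFunction χ (a : G) (b : G)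
  have h1 : classInner (blockPart f (resFun H (χ : G → ℂ))) (theta η₀ η) =
      classInner (resFun H (χ : G → ℂ)) (theta η₀ η) := by
    rw [classInner_theta, classInner_theta, BlockHeights.blockPart_eq_sum, classInner_sum_left,
      classInner_sum_left, Finset.sum_eq_single η₀, Finset.sum_eq_single η]
    · rw [classInner_smul_left, classInner_smul_left, if_pos h0, if_pos hη,
        IsIrrCharacter.classInner_self η.2, IsIrrCharacter.classInner_self η₀.2, mul_one, mul_one]
    · intro ξ _ hξ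
      rw [classInner_smul_left, IsIrrCharacter.classInner_ne ξ.2 η.2 (fun e' => hξ (Subtype.ext e')),
        mul_zero]
    · simp
    · intro ξ _ hξ
      rw [classInner_smul_left, IsIrrCharacter.classInner_ne ξ.2 η₀.2 (fun e' => hξ (Subtype.ext e')),
        mul_zero]
    · simp
  rw [← h1, classInner]
  refine mul_eq_zero_of_right _ (Finset.sum_eq_zero fun h _ => ?_)
  by_cases hne : theta η₀ η h = 0
  · rw [hne, map_zero, mul_zero]
  obtain ⟨u, hu, hzu⟩ := L.theta_support h0 hη hne
  rw [← sum_blockCoeff_mul_eq_blockPart _ hcl h]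
  simp only [resFun, Subgroup.coe_mul]
  rw [sum_blockCoeff_mul_eq_zero hM L.ind hu (L.centralizer_le hu hzu) hχ, zero_mul]

theorem coord_regular [Fintype (IrrCharacter G)] {η₀ η : IrrCharacter H} (h0 : η₀ ∈ f) (hη : η ∈ f)
    {g : G} (hg : IsPRegular p g) :
    ∑ χ : IrrCharacter G, (coordW η₀ η χ : ℂ) * (χ : G → ℂ) g = 0 := by
  classical
  have h1 : indFun H (theta η₀ η) g = 0 := by
    rw [indFun_apply]
    refine mul_eq_zero_of_right _ (Finset.sum_eq_zero fun x _ => ?_)
    by_cases hm : x⁻¹ * g * x ∈ H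
    · rw [extendByZero_of_mem _ _ hm]
      refine L.theta_regular h0 hη ?_
      have ho : orderOf (⟨_, hm⟩ : H) = orderOf g := by
        rw [← Subgroup.orderOf_coe]
        have := orderOf_injective (MulAut.conj x⁻¹).toMonoidHom (MulAut.conj x⁻¹).injective g
        simpa using this
      show ¬ p ∣ orderOf (⟨_, hm⟩ : H)
      rw [ho]
      exact hg
    · rw [extendByZero_of_not_mem _ _ hm]
  rw [eq_sum_classInner (isClassFunction_indFun H (theta η₀ η)), Finset.sum_apply] at h1
  rw [← h1]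
  exact Finset.sum_congr rfl fun χ _ => by
    rw [Pi.smul_apply, classInner_indFun_theta, smul_eq_mul]

set_option maxHeartbeats 1000000 in
/-- **Orthogonal combinations vanish at singular elements.** -/
theorem vanish_singular [Fintype (IrrCharacter G)] {η₀ : IrrCharacter H} (h0 : η₀ ∈ f)
    (x : IrrCharacter G → ℤ) (hxB : ∀ χ, χ ∉ B → x χ = 0)
    (hort : ∀ η ∈ f, ∑ χ : IrrCharacter G, x χ * coordW η₀ η χ = 0) {g : G}
    (hg : ¬ IsPRegular p g) : ∑ χ : IrrCharacter G, (x χ : ℂ) * (χ : G → ℂ) g = 0 := by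
  classical
  haveI : Fintype (IrrCharacter H) := Fintype.ofFinite _
  haveI : Fact p.Prime := Fact.mk hM.1
  have hB : IsPBlock M B := L.ind.2.1
  obtain ⟨u, hu⟩ := exists_isPPart hM.1 g
  have hu1 : u ≠ 1 := by
    rintro rfl
    obtain ⟨y, hy, -, -, hyp⟩ := hu
    rw [one_mul] at hy
    exact hg (hy ▸ hyp)
  by_cases hno : ∀ D : Subgroup G, IsDefectGroup p M B D → u ∉ D
  · refine Finset.sum_eq_zero fun χ _ => ?_
    by_cases hχ : χ ∈ B
    · rw [char_eq_zero_of_forall_notMem hM hB hu hno hχ, mul_zero]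
    · rw [hxB χ hχ, Int.cast_zero, zero_mul]
  push Not at hno
  obtain ⟨D, hD, huD⟩ := hno
  obtain ⟨a, ha⟩ := IsDefectGroup.exists_map_conj_eq hM hB hD L.defectB
  set X : G → ℂ := fun g => ∑ χ : IrrCharacter G, (x χ : ℂ) * (χ : G → ℂ) g with hX
  have hXc : IsClassFunction G X := fun a b =>
    Finset.sum_congr rfl fun χ _ => by rw [irr_isClassFunction χ a b]
  show X g = 0
  rw [← hXc g a]
  set h := a * g * a⁻¹ with hh
  have hu' : IsPPart p h (a * u * a⁻¹) := IsPPart.conjugate hu a
  have hzu : z ∈ Subgroup.zpowers (a * u * a⁻¹) :=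
    L.z_below (ha ▸ ⟨u, huD, rfl⟩) (by simpa using hu1)
  have hhH : h ∈ H := L.mem_of_sect ⟨_, hu', hzu⟩
  set θ : H → ℂ := resFun H X with hθ
  have hθc : IsClassFunction H θ := fun a b => hXc (a : G) (b : G)
  show θ ⟨h, hhH⟩ = 0
  rw [← sum_blockPart (M := M) hθc ⟨h, hhH⟩]
  refine Finset.sum_eq_zero fun b hb => ?_
  obtain ⟨η, -, rfl⟩ := Finset.mem_image.1 hb
  have hblk := isPBlock_blockOf (M := M) η
  obtain ⟨B', hB'⟩ := L.exists_ind _ hblk
  have hconst : ∀ η ∈ f, classInner θ (η : H → ℂ) = classInner θ (η₀ : H → ℂ) := by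
    intro η hη
    have h1 : classInner θ (theta η₀ η) = 0 := by
      rw [show θ = ∑ χ : IrrCharacter G, (x χ : ℂ) • resFun H (χ : G → ℂ) from funext fun y => by
        simp [hθ, hX, resFun], classInner_sum_left]
      simp only [classInner_smul_left, classInner_res_theta]
      exact_mod_cast hort η hη
    rw [classInner_theta, sub_eq_zero] at h1
    exact h1.symm
  have hfpart : ∀ y : H, ¬ IsPRegular p y → blockPart f θ y = 0 := by
    intro y hy
    rw [BlockHeights.blockPart_eq_sum, Finset.sum_apply,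
      Finset.sum_congr rfl (g := fun η : IrrCharacter H =>
        classInner θ (η₀ : H → ℂ) * if η ∈ f then (η : H → ℂ) y else 0) fun η _ => ?_,
      ← Finset.mul_sum, L.sum_singular hy, mul_zero]
    rw [Pi.smul_apply, smul_eq_mul]
    split_ifs with hη
    · rw [hconst η hη]
    · rw [zero_mul, mul_zero]
  by_cases hBB : B' = B
  · subst hBB
    obtain ⟨n, hn, hcoef⟩ := L.conj_ind _ hB'
    rw [← sum_blockCoeff_mul_eq_blockPart _ hθc]
    have hre : ∀ k : H, blockCoeff (blockOf M (η : H → ℂ)) k =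
        blockCoeff f ⟨n⁻¹ * (k : G) * n, (L.conj_mem hn _).1 k.2⟩ := fun k => by
      rw [← subgroupBlockCoeff_of_mem (blockOf M (η : H → ℂ)) k.2, hcoef, gconj,
        subgroupBlockCoeff_of_mem f ((L.conj_mem hn _).1 k.2)]
    simp only [hre]
    set y : H := ⟨n⁻¹ * h * n, (L.conj_mem hn _).1 hhH⟩ with hy
    have hsum : ∑ k : H, blockCoeff f k * θ (k * y) =
        ∑ k : H, blockCoeff f ⟨n⁻¹ * (k : G) * n, (L.conj_mem hn _).1 k.2⟩ * θ (k * ⟨h, hhH⟩) := by
      refine (Fintype.sum_equiv ((conjEquiv n (L.conj_mem hn)).toEquiv) _ _ fun k => ?_)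
      show _ = blockCoeff f ⟨n⁻¹ * ((conjEquiv n (L.conj_mem hn) k : H) : G) * n, _⟩ *
        θ (conjEquiv n (L.conj_mem hn) k * ⟨h, hhH⟩)
      congr 1
      · exact congrArg _ (Subtype.ext (by simp [conjEquiv_coe, mul_assoc]))
      · show X ((k : G) * (n⁻¹ * h * n)) = X (n * (k : G) * n⁻¹ * h)
        rw [← hXc ((k : G) * (n⁻¹ * h * n)) n]
        congr 1
        group
    rw [← hsum, sum_blockCoeff_mul_eq_blockPart _ hθc]
    refine hfpart y fun hr => hg ?_
    have ho : orderOf y = orderOf g := by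
      rw [← Subgroup.orderOf_coe]
      have := orderOf_injective (MulAut.conj (n⁻¹ * a)).toMonoidHom (MulAut.conj (n⁻¹ * a)).injective g
      rw [← this]
      congr 1
      simp [hy, hh, mul_assoc]
    have hr' : ¬ p ∣ orderOf y := hr
    rw [ho] at hr'
    exact hr'
  · rw [← sum_blockCoeff_mul_eq_blockPart _ hθc]
    simp only [hθ, hX, resFun, Finset.mul_sum, Subgroup.coe_mul, mul_left_comm (blockCoeff _ _)]
    rw [Finset.sum_comm]
    refine Finset.sum_eq_zero fun χ _ => ?_
    by_cases hχ : χ ∈ B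
    · rw [← Finset.mul_sum, sum_blockCoeff_mul_eq_zero hM hB' (h := ⟨h, hhH⟩) hu' (L.centralizer_le hu' hzu)
        (fun hχ' => hBB (IsPBlock.eq_of_mem hB'.2.1 hB hχ' hχ)), mul_zero]
    · simp only [hxB χ hχ, Int.cast_zero, zero_mul, mul_zero, Finset.sum_const_zero]

end LocalData

/-- An integral combination vanishing at singular elements has degree divisible by the `p`-part of
the group order. -/
theorem dvd_degree_of_vanish (hp : p.Prime) [Fintype (IrrCharacter G)] (x : IrrCharacter G → ℤ)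
    (h : ∀ g : G, ¬ IsPRegular p g → ∑ χ : IrrCharacter G, (x χ : ℂ) * (χ : G → ℂ) g = 0) :
    ((p ^ (Nat.card G).factorization p : ℕ) : ℤ) ∣
      ∑ χ : IrrCharacter G, x χ * (charDegree (χ : G → ℂ) : ℤ) := by
  classical
  haveI := Fact.mk hp
  obtain ⟨S⟩ : Nonempty (Sylow p G) := inferInstance
  haveI : Fintype (S : Subgroup G) := Fintype.ofFinite _
  choose n hn using fun χ : IrrCharacter G => IsCharacter.exists_classInner_nat
    (IsCharacter.comp (irr_isCharacter χ) (S : Subgroup G).subtype)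
    (irr_isCharacter (trivIrr (S : Subgroup G)))
  have key : ∑ s : (S : Subgroup G), ∑ χ : IrrCharacter G, (x χ : ℂ) * (χ : G → ℂ) (s : G) =
      ∑ χ : IrrCharacter G, (x χ : ℂ) * (χ : G → ℂ) 1 := by
    rw [Finset.sum_eq_single (1 : (S : Subgroup G))]
    · simp
    · intro s _ hs
      refine h _ fun hr => hs ?_
      obtain ⟨k, hk⟩ := IsPGroup.iff_orderOf.1 S.isPGroup' s
      have hr' : ¬ p ∣ orderOf (s : G) := hr
      rw [Subgroup.orderOf_coe, hk] at hr'
      rcases Nat.eq_zero_or_pos k with rfl | hk0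
      · exact orderOf_eq_one_iff.1 (by rw [hk, pow_zero])
      · exact absurd (dvd_pow_self p hk0.ne') hr'
    · simp
  have h2 : ∀ χ : IrrCharacter G, ∑ s : (S : Subgroup G), (χ : G → ℂ) (s : G) =
      (Nat.card (S : Subgroup G) : ℂ) * n χ := fun χ => by
    rw [← hn χ, classInner, mul_inv_cancel_left₀ natCard_ne_zero_complex]
    exact Finset.sum_congr rfl fun s _ => by simp
  refine ⟨∑ χ : IrrCharacter G, x χ * (n χ : ℤ), ?_⟩
  apply Int.cast_injective (α := ℂ)
  rw [Finset.sum_comm] at key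
  simp only [← Finset.mul_sum, h2, irr_apply_one] at key
  rw [Sylow.card_eq_multiplicity] at key
  push_cast
  rw [← key, Finset.mul_sum]
  exact Finset.sum_congr rfl fun χ _ => by push_cast; ring

end Cfsg.Agent.Lib.CyclicTree
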