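import Cfsg.Agent.Lib.Blocks.CyclicLattice
import Cfsg.Agent.Lib.BlockHeights.AbelianInertial
import Cfsg.Agent.Lib.BrauerStar.Pieces

/-!
# The block of the centralizer of the subgroup of order `p` of a cyclic defect group
-/

set_option autoImplicit false
set_option linter.unusedSectionVars false
set_option linter.style.haveILetI false

namespace Cfsg.Agent.Lib.CyclicTree

open Cfsg Cfsg.Agent.Lib.Blocks Cfsg.Agent.Lib.Characters Cfsg.Agent.Lib.BlockHeights
open Cfsg.Agent.Lib.BrauerPairs Cfsg.Agent.Lib.BrauerStar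

universe u

variable {G : Type u} [Group G] [Fintype G] {M : Ideal AlgInt} [hMp : M.IsPrime] {p : ℕ}

/-- The data at the subgroup of order `p`. -/
structure LocalData (hM : IsPModular p M) (B : Set (IrrCharacter G)) (z : G) (H N : Subgroup G)
    [Fintype H] (f : Set (IrrCharacter H)) (PH : Subgroup H) (t : G) (e : ℕ) : Prop where
  zo : orderOf z = p
  mem_H : ∀ g, g ∈ H ↔ Commute z g
  mem_N : ∀ g, g ∈ N ↔ g * z * g⁻¹ ∈ Subgroup.zpowers z
  ind : IsInducedBlock M H f B
  defectB : IsDefectGroup p M B (PH.map H.subtype)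
  defectf : IsDefectGroup p M f PH
  cyc : IsCyclic PH
  zPH : ∃ w ∈ PH, (w : G) = z
  rank : blockRank p f = 1
  one_lt : 1 < Nat.card PH
  ht : t ∈ N
  hfix : cj t (ef M H f) = ef M H f
  hte : t ^ e ∈ H
  hdist : ∀ a < e, ∀ b < e, (t ^ a)⁻¹ * t ^ b ∈ H → a = b
  hkill : ∀ b ∈ N, (∀ j < e, (t ^ j)⁻¹ * b ∉ H) →
    gconj b (subgroupBlockCoeff H f) ≠ subgroupBlockCoeff H f
  exists_ind : ∀ b, IsPBlock M b → ∃ B', IsInducedBlock M H b B'
  conj_ind : ∀ b, IsInducedBlock M H b B →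
    ∃ n ∈ N, subgroupBlockCoeff H b = gconj n (subgroupBlockCoeff H f)
  e_dvd : e ∣ p - 1
  count : ((Nat.card B : ℤ) - (blockRank p B : ℤ)) * (e : ℤ) = (Nat.card PH : ℤ) - 1

set_option maxHeartbeats 1600000 in
/-- **The data exist.** -/
theorem exists_localData (hM : IsPModular p M) {B : Set (IrrCharacter G)} {P : Subgroup G}
    {c : Set (IrrCharacter (Subgroup.centralizer (P : Set G)))}
    (hmax : IsMaximalBrauerPair p M B P c) [IsCyclic P] (hq : 1 < Nat.card P) :
    ∃ (z : G) (H N : Subgroup G) (_ : Fintype H) (f : Set (IrrCharacter H)) (PH : Subgroup H)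
      (t : G), LocalData hM B z H N f PH t
        ((Subgroup.centralizer (P : Set G)).relIndex (pairStab P c)) ∧
        Nat.card PH = Nat.card P := by
  classical
  haveI := Fact.mk hM.1
  have hB : IsPBlock M B := hmax.1.2.1
  have hPd : IsDefectGroup p M B P := isDefectGroup_of_isMaximal hM hmax
  have hab := comm_of_isCyclic P
  obtain ⟨k, hk⟩ := IsPGroup.iff_card.1 hmax.1.1.1
  have hk0 : k ≠ 0 := fun h => by rw [hk, h, pow_zero] at hq; exact lt_irrefl _ hq
  obtain ⟨⟨z, hzP⟩, hzo'⟩ := exists_prime_orderOf_dvd_card' p (G := P) (hk ▸ dvd_pow_self p hk0)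
  have hzo : orderOf z = p := by rwa [Subgroup.orderOf_mk] at hzo'
  have hz1 : z ≠ 1 := fun h => hM.1.one_lt.ne (by rw [← hzo, h, orderOf_one])
  have hzk : ∃ k : ℕ, orderOf z = p ^ k := ⟨1, by rw [hzo, pow_one]⟩
  have hQP : Subgroup.zpowers z ≤ P := Subgroup.zpowers_le.2 hzP
  set H := Subgroup.centralizer (Subgroup.zpowers z : Set G) with hH
  haveI : Fintype H := Fintype.ofFinite _
  set N := Subgroup.normalizer (Subgroup.zpowers z : Set G) with hN
  have hPH : P ≤ H := le_normalizer_of_comm hab hQP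
  obtain ⟨f, hf⟩ := exists_inducedIn (H := H) hM hmax.1.1.1 hPH hab (Subgroup.centralizer_le hQP)
    hmax.1.1.2
  obtain ⟨hle, c', hmax'⟩ := inducedIn_local hM hmax hab hQP hf
  haveI : IsCyclic (P.subgroupOf H) :=
    isCyclic_of_surjective (Subgroup.subgroupOfEquivOfLe hPH).symm.toMonoidHom
      (Subgroup.subgroupOfEquivOfLe hPH).symm.surjective
  have hlocal : ∀ v ∈ P, v ≠ 1 → ∀ f : Set (IrrCharacter (Subgroup.centralizer (Subgroup.zpowers v : Set G))),
      SubpairLE p M (Subgroup.zpowers v) f P c → blockRank p f = 1 := by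
    intro v hv hv1 f hle
    haveI := Fintype.ofFinite (Subgroup.centralizer (Subgroup.zpowers v : Set G))
    have hQP : Subgroup.zpowers v ≤ P := Subgroup.zpowers_le.2 hv
    obtain ⟨f₀, hf₀⟩ := exists_inducedIn hM hmax.1.1.1 (le_normalizer_of_comm hab hQP) hab
      (Subgroup.centralizer_le hQP) hmax.1.1.2
    obtain ⟨hle₀, c', hmax'⟩ := inducedIn_local hM hmax hab hQP hf₀
    obtain rfl : f = f₀ := subpairLE_unique hM hmax.1.1 hle hle₀
    have hfix : ∀ g ∈ Subgroup.centralizer (Subgroup.zpowers v : Set G), g ∈ pairStab P c →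
        g ∈ Subgroup.centralizer (P : Set G) := fun g hgQ hg =>
      mem_centralizer_of_fix hM hmax hg hv hv1
        (by rw [← Subgroup.mem_centralizer_iff.1 hgQ v (Subgroup.mem_zpowers v), mul_inv_cancel_right])
    have hnil := (isNilpotent_inducedIn_iff hM hmax hab hQP hf₀).2 hfix
    haveI : IsCyclic (P.subgroupOf (Subgroup.centralizer (Subgroup.zpowers v : Set G))) :=
      isCyclic_of_surjective (Subgroup.subgroupOfEquivOfLe
        (le_normalizer_of_comm hab hQP)).symm.toMonoidHom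
        (Subgroup.subgroupOfEquivOfLe (le_normalizer_of_comm hab hQP)).symm.surjective
    refine blockRank_eq_one_of_cyclic hM hmax' fun g hg => ?_
    exact (isNilpotentBlock_iff_of_abelian hM hmax' (comm_of_isCyclic _)).1 hnil g
      (mem_pairStab_iff.1 hg).1 (mem_pairStab_iff.1 hg).2
  have hcount := (free_section_count hM hmax hab (free_of_isCyclic hM hmax)).2 hlocal
  rw [mul_assoc] at hcount
  replace hcount := mul_left_cancel₀ (show (Nat.card G : ℤ) ≠ 0 by exact_mod_cast Nat.card_pos.ne') hcount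
  have hindf : IsInducedBlock M H f B := isInducedBlock_of_isBrauerPairOf_zpowers hM
    ((isBrauerPairOf_iff_of_subpairLE hM hmax.1.1 hle hmax.1.2.1).1 hmax.1)
  have key : ∀ Q' : Subgroup G, Q' = Subgroup.zpowers z →
      ∀ bb : Set (IrrCharacter (Subgroup.centralizer (Q' : Set G))), SubpairLE p M Q' bb P c →
        subgroupBlockCoeff _ bb = subgroupBlockCoeff H f := by
    rintro Q' rfl bb hbb
    rw [subpairLE_unique hM hmax.1.1 hbb hle]
  have hmemN : ∀ g, g ∈ N ↔ g * z * g⁻¹ ∈ Subgroup.zpowers z := by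
    intro g
    refine ⟨fun hg => (Subgroup.mem_normalizer_iff.1 hg z).1 (Subgroup.mem_zpowers z), fun hg => ?_⟩
    refine mem_normalizer_of_map_eq (Subgroup.eq_of_le_of_card_ge ?_ (card_map_conj _ g).ge)
    rintro _ ⟨w, hw, rfl⟩
    obtain ⟨i, rfl⟩ := Subgroup.mem_zpowers_iff.1 hw
    show g * z ^ i * g⁻¹ ∈ Subgroup.zpowers z
    rw [← conj_zpow]
    exact zpow_mem hg i
  -- the inertial group
  set S := pairStab P c with hS
  have hSN : S ≤ N := fun s hs => normalizer_le_of_cyclic hQP hs.1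
  have hSfix : ∀ s ∈ S, gconj s (subgroupBlockCoeff H f) = subgroupBlockCoeff H f := by
    intro s hs
    have h2 : Relation.ReflTransGen (NormalSubpairRel p M)
        (conjPair s ⟨Subgroup.zpowers z, f⟩) (conjPair s ⟨P, c⟩) := subpairLE_conj hle s
    rw [show conjPair s (⟨P, c⟩ : BrauerPairIdx G) = ⟨P, c⟩ from
      pair_ext (normalizer_map_eq hs.1) (by rw [pairCoeff_conjPair]; exact (mem_pairStab.1 hs).2)] at h2
    have h3 := key _ (normalizer_map_eq (hSN hs)) _ h2
    rwa [subgroupBlockCoeff_conjBlock] at h3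
  have hfusion : ∀ g ∈ N, gconj g (subgroupBlockCoeff H f) = subgroupBlockCoeff H f →
      ∃ s ∈ S, s⁻¹ * g ∈ H := by
    intro g hg hgf
    have hgz : g * z * g⁻¹ ∈ Subgroup.zpowers z := (hmemN g).1 hg
    obtain ⟨δ, hδ⟩ := exists_conj_zpowers f g (g * z * g⁻¹) rfl
    have hfixp : conjPair g (⟨Subgroup.zpowers z, f⟩ : BrauerPairIdx G) = ⟨Subgroup.zpowers z, f⟩ :=
      pair_ext (normalizer_map_eq hg) (by rw [pairCoeff_conjPair]; exact hgf)
    have hr : Relation.ReflTransGen (NormalSubpairRel p M)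
        (⟨Subgroup.zpowers (g * z * g⁻¹), δ⟩ : BrauerPairIdx G) ⟨P, c⟩ := by
      rw [hδ, hfixp]
      exact hle
    obtain ⟨s, hs, hsz⟩ := conj_fusion_of_comm hM hmax hab hzP (hQP hgz) hle hr rfl hδ.symm
    refine ⟨s, hs, mem_centralizer_zpowers_iff.2 ?_⟩
    show z * (s⁻¹ * g) = s⁻¹ * g * z
    calc z * (s⁻¹ * g) = s⁻¹ * (s * z * s⁻¹) * g := by group
      _ = s⁻¹ * (g * z * g⁻¹) * g := by rw [hsz]
      _ = _ := by group
  -- the cyclic image
  let φ : S →* MulAut (Subgroup.zpowers z) :=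
    (Subgroup.normalizerMonoidHom (Subgroup.zpowers z)).comp (Subgroup.inclusion hSN)
  have hφ : ∀ s : S, φ s = 1 ↔ (s : G) ∈ H := by
    intro s
    show Subgroup.normalizerMonoidHom _ (Subgroup.inclusion hSN s) = 1 ↔ _
    rw [← MonoidHom.mem_ker, Subgroup.normalizerMonoidHom_ker, Subgroup.mem_subgroupOf]
    rfl
  have hker : φ.ker = (Subgroup.centralizer (P : Set G)).subgroupOf S := by
    ext s
    rw [MonoidHom.mem_ker, hφ, Subgroup.mem_subgroupOf]
    refine ⟨fun h => mem_centralizer_of_fix hM hmax s.2 hzP hz1 ?_,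
      fun h => Subgroup.centralizer_le hQP h⟩
    rw [← (mem_centralizer_zpowers_iff.1 h).eq, mul_inv_cancel_right]
  haveI : Fact (Nat.card (Subgroup.zpowers z)).Prime := ⟨by rw [Nat.card_zpowers, hzo]; exact hM.1⟩
  haveI : IsCyclic (MulAut (Subgroup.zpowers z)) := isCyclic_of_surjective
    (IsCyclic.mulAutMulEquiv (Subgroup.zpowers z)).symm.toMonoidHom
    (IsCyclic.mulAutMulEquiv (Subgroup.zpowers z)).symm.surjective
  set e := (Subgroup.centralizer (P : Set G)).relIndex S with he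
  have hecard : e = Nat.card φ.range := by rw [← Subgroup.index_ker, hker]; rfl
  have hedvd : e ∣ p - 1 := by
    rw [hecard]
    refine (Subgroup.card_subgroup_dvd_card _).trans (dvd_of_eq ?_)
    rw [IsCyclic.card_mulAut, Nat.card_zpowers, hzo, Nat.totient_prime hM.1]
  obtain ⟨⟨γ, hγ⟩, hgen⟩ := IsCyclic.exists_generator (α := φ.range)
  obtain ⟨t, rfl⟩ := hγ
  have hord : orderOf (φ t) = e := by
    rw [hecard, ← orderOf_eq_card_of_forall_mem_zpowers hgen, ← Subgroup.orderOf_coe]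
  have hepos : 0 < e := hord ▸ orderOf_pos _
  have hpow : ∀ s : S, ∃ j < e, φ s = φ t ^ j := by
    intro s
    obtain ⟨n, hn⟩ := mem_powers_iff_mem_zpowers.2 (hgen ⟨φ s, ⟨s, rfl⟩⟩)
    refine ⟨n % e, Nat.mod_lt _ hepos, ?_⟩
    rw [← hord, pow_mod_orderOf]
    exact (congrArg Subtype.val hn).symm
  refine ⟨z, H, N, inferInstance, f, P.subgroupOf H, (t : G), ⟨hzo,
    fun g => mem_centralizer_zpowers_iff, hmemN, hindf, ?_, isDefectGroup_of_isMaximal hM hmax',
    inferInstance, ⟨⟨z, hPH hzP⟩, hzP, rfl⟩, hlocal z hzP hz1 f hle, ?_, hSN t.2, ?_, ?_, ?_, ?_,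
    ?_, ?_, hedvd, ?_⟩, card_subgroupOf hPH⟩
  · rwa [Subgroup.map_subgroupOf_eq_of_le hPH]
  · rw [card_subgroupOf hPH]; exact hq
  · exact BrauerStar.cj_ef hM hindf.1 (hSfix t t.2)
  · refine (hφ (t ^ e)).1 ?_
    rw [map_pow, ← hord, pow_orderOf_eq_one]
  · intro a ha b hb hab'
    have h1 : φ ((t ^ a)⁻¹ * t ^ b) = 1 := (hφ _).2 (by simpa using hab')
    rw [map_mul, map_inv, map_pow, map_pow, inv_mul_eq_one] at h1
    exact pow_injOn_Iio_orderOf (hord.symm ▸ ha) (hord.symm ▸ hb) h1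
  · intro b hb hbad hcon
    obtain ⟨s, hs, hsb⟩ := hfusion b hb hcon
    obtain ⟨j, hj, hsj⟩ := hpow ⟨s, hs⟩
    refine hbad j hj ?_
    have h1 : φ ((t ^ j)⁻¹ * ⟨s, hs⟩) = 1 := by rw [map_mul, map_inv, map_pow, hsj, inv_mul_cancel]
    have h2 := (hφ _).1 h1
    have := H.mul_mem h2 hsb
    simpa [mul_assoc] using this
  · intro b hb
    obtain ⟨B', hB'⟩ := (existsUnique_isBrauerPairOf hM (e := b)
      ⟨isPGroup_zpowers_of_orderOf hzk, hb⟩).exists
    exact ⟨B', isInducedBlock_of_isBrauerPairOf_zpowers hM hB'⟩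
  · intro b hb
    obtain ⟨x, hx⟩ := exists_conj_subpairLE hM hmax ((isInducedBlock_zpowers_iff hM hzk b).1 hb)
    have hQ : (Subgroup.zpowers z).map (MulAut.conj x).toMonoidHom = Subgroup.zpowers z := by
      refine Subgroup.eq_of_le_of_card_ge ?_ (card_map_conj _ _).ge
      rintro _ ⟨w, hw, rfl⟩
      have hw' := subpairLE_le hx ⟨w, hw, rfl⟩
      refine mem_zpowers_of_prime_order hM.1 hzP hzo hw' ?_
      obtain ⟨i, rfl⟩ := Subgroup.mem_zpowers_iff.1 hw
      rw [← map_pow, ← zpow_natCast, ← zpow_mul, mul_comm, zpow_mul, zpow_natCast, ← hzo,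
        pow_orderOf_eq_one, one_zpow, map_one]
    have hcoef := key _ hQ _ hx
    rw [subgroupBlockCoeff_conjBlock] at hcoef
    refine ⟨x⁻¹, N.inv_mem (mem_normalizer_of_map_eq hQ), ?_⟩
    rw [← hcoef, ← gconj_mul, inv_mul_cancel, gconj_one]
  · rw [card_subgroupOf hPH]; exact hcount

end Cfsg.Agent.Lib.CyclicTree
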