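import Cfsg.Agent.Lib.CyclicTree.Local
import Cfsg.Agent.Lib.CyclicCorner.Degrees

/-!
# The characters of the block of the centralizer of the subgroup of order `p`
-/

set_option autoImplicit false
set_option linter.unusedSectionVars false
set_option linter.style.haveILetI false

namespace Cfsg.Agent.Lib.CyclicTree

open Cfsg Cfsg.Agent.Lib.Blocks Cfsg.Agent.Lib.Characters Cfsg.Agent.Lib.BlockHeights
open Cfsg.Agent.Lib.BrauerPairs Cfsg.Agent.Lib.BrauerStar
open scoped ComplexConjugate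

universe u

variable {G : Type u} [Group G] [Fintype G] {M : Ideal AlgInt} [hMp : M.IsPrime] {p : ℕ}

/-- The section of `z`. -/
def Sect (p : ℕ) (z g : G) : Prop := ∃ u, IsPPart p g u ∧ z ∈ Subgroup.zpowers u

variable {hM : IsPModular p M} {B : Set (IrrCharacter G)} {z : G} {H N : Subgroup G} [Fintype H]
  {f : Set (IrrCharacter H)} {PH : Subgroup H} {t : G} {e : ℕ}

namespace LocalData

variable (L : LocalData hM B z H N f PH t e)
include L

theorem H_le : H ≤ N := fun g hg => (L.mem_N g).2 (by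
  rw [← ((L.mem_H g).1 hg).eq, mul_inv_cancel_right]; exact Subgroup.mem_zpowers z)

theorem conj_mem {n : G} (hn : n ∈ N) (a : G) : a ∈ H ↔ n⁻¹ * a * n ∈ H := by
  obtain ⟨i, hi⟩ := Subgroup.mem_zpowers_iff.1 ((L.mem_N n).1 hn)
  obtain ⟨j, hj⟩ := Subgroup.mem_zpowers_iff.1 ((L.mem_N n⁻¹).1 (N.inv_mem hn))
  rw [inv_inv] at hj
  rw [L.mem_H, L.mem_H]
  constructor
  · intro h
    have h1 := h.zpow_left i
    rw [hi] at h1
    have h2 := h1.map (MulAut.conj n⁻¹).toMonoidHom
    simpa [mul_assoc] using h2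
  · intro h
    have h1 := h.zpow_left j
    rw [hj] at h1
    have h2 := h1.map (MulAut.conj n).toMonoidHom
    simpa [mul_assoc] using h2

theorem ppart_mem {g u : G} (hu : IsPPart p g u) (hg : g ∈ H) : u ∈ H := by
  obtain ⟨y, hy, hc, ⟨k, hk⟩, hyp⟩ := hu
  have hp := hM.1
  have hcop : Nat.Coprime (orderOf y) (p ^ k) :=
    Nat.Coprime.pow_right _ ((hp.coprime_iff_not_dvd.2 hyp).symm)
  obtain ⟨r, hr⟩ := exists_pow_eq_self_of_coprime (x := u) (n := orderOf y) (by rwa [hk])
  rw [← hr]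
  refine H.pow_mem ?_ _
  have : g ^ orderOf y = u ^ orderOf y := by rw [← hy, hc.mul_pow, pow_orderOf_eq_one, mul_one]
  rw [← this]
  exact H.pow_mem hg _

theorem mem_of_sect {g : G} (hg : Sect p z g) : g ∈ H := by
  obtain ⟨u, ⟨y, hy, hc, -, -⟩, hzu⟩ := hg
  obtain ⟨i, rfl⟩ := Subgroup.mem_zpowers_iff.1 hzu
  refine (L.mem_H _).2 (Commute.zpow_left ?_ i)
  rw [← hy]; exact (Commute.refl u).mul_right hc

theorem centralizer_le {g u : G} (_hu : IsPPart p g u) (hzu : z ∈ Subgroup.zpowers u) :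
    Subgroup.centralizer ({u} : Set G) ≤ H := fun a ha => by
  obtain ⟨i, rfl⟩ := Subgroup.mem_zpowers_iff.1 hzu
  exact (L.mem_H _).2 (Commute.zpow_left (Subgroup.mem_centralizer_singleton_iff.1 ha).symm i)

theorem z_mem : z ∈ H := (L.mem_H z).2 (Commute.refl z)

/-- A nontrivial element of the defect group has `z` among its powers. -/
theorem z_below {u : G} (hu : u ∈ PH.map H.subtype) (hu1 : u ≠ 1) : z ∈ Subgroup.zpowers u := by
  haveI := Fact.mk hM.1
  haveI := L.cyc
  haveI : IsCyclic (PH.map H.subtype) := isCyclic_of_surjective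
    (H.subtype.subgroupMap PH) (MonoidHom.subgroupMap_surjective _ _)
  obtain ⟨w, hw, hwz⟩ := L.zPH
  have hzP : z ∈ PH.map H.subtype := ⟨w, hw, hwz⟩
  obtain ⟨k, hk⟩ := IsPGroup.iff_orderOf.1 (IsDefectGroup.isPGroup L.defectB (p := p)) ⟨u, hu⟩
  rw [Subgroup.orderOf_mk] at hk
  have hk0 : k ≠ 0 := fun h => hu1 (orderOf_eq_one_iff.1 (by rw [hk, h, pow_zero]))
  have hdvd : p ∣ orderOf u := hk ▸ dvd_pow_self p hk0
  have ho : orderOf (u ^ (orderOf u / p)) = p := orderOf_pow_orderOf_div (orderOf_pos u).ne' hdvd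
  exact Subgroup.zpowers_le.2 (pow_mem (Subgroup.mem_zpowers u) _)
    (mem_zpowers_of_prime_order hM.1 (pow_mem hu _) ho hzP (by rw [← L.zo, pow_orderOf_eq_one]))

theorem mem_zpowers_of_mem {w : G} (hw : w ∈ PH.map H.subtype) (hwp : w ^ p = 1) :
    w ∈ Subgroup.zpowers z := by
  haveI := L.cyc
  haveI : IsCyclic (PH.map H.subtype) := isCyclic_of_surjective
    (H.subtype.subgroupMap PH) (MonoidHom.subgroupMap_surjective _ _)
  obtain ⟨v, hv, hvz⟩ := L.zPH
  exact mem_zpowers_of_prime_order hM.1 (show z ∈ PH.map H.subtype from ⟨v, hv, hvz⟩) L.zo hw hwp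

theorem ti {y : G} (hy : y ∉ N) {u v : H} (hu : u ∈ PH) (hv : v ∈ PH)
    (h : y⁻¹ * (u : G) * y = (v : G)) : u = 1 := by
  by_contra hne
  obtain ⟨i, hi⟩ := Subgroup.mem_zpowers_iff.1
    (L.z_below ⟨u, hu, rfl⟩ fun h' => hne (Subtype.ext h'))
  have h1 : y⁻¹ * z * y ∈ PH.map H.subtype := by
    have : y⁻¹ * z * y⁻¹⁻¹ = (v : G) ^ i := by
      rw [← hi, ← conj_zpow, inv_inv, Subgroup.coe_subtype, h]
    rw [inv_inv] at this
    rw [this]
    exact zpow_mem (show (v : G) ∈ PH.map H.subtype from ⟨v, hv, rfl⟩) i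
  have h2 : (y⁻¹ * z * y) ^ p = 1 := by
    have := conj_pow (i := p) (a := y⁻¹) (b := z)
    rw [inv_inv] at this
    rw [this, ← L.zo, pow_orderOf_eq_one, mul_one, inv_mul_cancel]
  refine hy (inv_mem_iff.1 ((L.mem_N _).2 ?_))
  rw [inv_inv]
  exact L.mem_zpowers_of_mem h1 h2

/-- A character of `f` that does not vanish at a singular element sees `z` in its `p`-part. -/
theorem sect_of_ne_zero {η : IrrCharacter H} (hη : η ∈ f) {h : H} (hsing : ¬ IsPRegular p (h : G))
    (hne : (η : H → ℂ) h ≠ 0) : Sect p z (h : G) := by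
  classical
  obtain ⟨u, hu⟩ := exists_isPPart hM.1 h
  obtain ⟨D, hD, huD⟩ : ∃ D : Subgroup H, IsDefectGroup p M f D ∧ u ∈ D := by
    by_contra hno
    push Not at hno
    exact hne (char_eq_zero_of_forall_notMem hM L.ind.1 hu hno hη)
  obtain ⟨a, ha⟩ := IsDefectGroup.exists_map_conj_eq hM L.ind.1 hD L.defectf
  have hu1 : u ≠ 1 := by
    rintro rfl
    obtain ⟨y, hy, -, -, hyp⟩ := hu
    rw [one_mul] at hy
    refine hsing ?_
    show ¬ p ∣ orderOf (h : G)
    rw [Subgroup.orderOf_coe, ← hy]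
    exact hyp
  have huP : a * u * a⁻¹ ∈ PH := ha ▸ ⟨u, huD, rfl⟩
  obtain ⟨i, hi⟩ := Subgroup.mem_zpowers_iff.1 (L.z_below ⟨_, huP, rfl⟩ (by
    intro h'
    refine hu1 ?_
    have : a * u * a⁻¹ = 1 := Subtype.ext h'
    simpa using this))
  obtain ⟨y, hy, hc, hk, hyp⟩ := hu
  obtain ⟨k, hk⟩ := hk
  refine ⟨(u : G), ⟨(y : G), congrArg Subtype.val hy, congrArg Subtype.val hc.eq,
    ⟨k, by rw [Subgroup.orderOf_coe, hk]⟩, by rwa [Subgroup.orderOf_coe]⟩,
    Subgroup.mem_zpowers_iff.2 ⟨i, ?_⟩⟩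
  have hza := ((L.mem_H (a : G)).1 a.2).eq
  simp only [Subgroup.coe_subtype, Subgroup.coe_mul, InvMemClass.coe_inv, conj_zpow] at hi
  calc (u : G) ^ i = (a : G)⁻¹ * ((a : G) * (u : G) ^ i * (a : G)⁻¹) * (a : G) := by group
    _ = (a : G)⁻¹ * (z * (a : G)) := by rw [hi, mul_assoc]
    _ = z := by rw [hza, inv_mul_cancel_left]

theorem card_f : Nat.card f = Nat.card PH := by
  haveI := L.cyc
  exact CyclicCorner.card_eq_of_rank_one hM L.ind.1 L.defectf L.rank

/-- All the members of `f` agree on the regular elements. -/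
theorem regular_eq {η θ : IrrCharacter H} (hη : η ∈ f) (hθ : θ ∈ f) {h : H}
    (hh : IsPRegular p h) : (η : H → ℂ) h = (θ : H → ℂ) h := by
  classical
  obtain ⟨φ, d, -, hd, hsq⟩ := rank_one_data hM L.ind.1 L.defectf L.rank
  have hd0 : ∀ η ∈ f, 1 ≤ d η := fun η hη => Nat.one_le_iff_ne_zero.2 fun h0 => by
    have := hd η hη 1 (BlockHeights.isPRegular_one hM.1)
    rw [h0, Nat.cast_zero, zero_mul] at this
    exact IsIrrCharacter.apply_one_ne_zero η.2 this
  rw [finsum_mem_eq_finite_toFinset_sum _ (Set.toFinite f), ← L.card_f,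
    Nat.card_eq_card_finite_toFinset (Set.toFinite f), Finset.card_eq_sum_ones] at hsq
  have hone : ∀ η ∈ f, d η = 1 := fun η hη => by
    have h1 := (Finset.sum_eq_sum_iff_of_le (fun ψ hψ =>
      Nat.one_le_pow 2 _ (hd0 ψ ((Set.Finite.mem_toFinset _).1 hψ)))).1 hsq.symm η
      ((Set.Finite.mem_toFinset _).2 hη)
    nlinarith [hd0 η hη]
  rw [hd η hη h hh, hd θ hθ h hh, hone η hη, hone θ hθ]

/-- The sum of the members of `f` vanishes at singular elements. -/
theorem sum_singular {h : H} (hh : ¬ IsPRegular p h) [Fintype (IrrCharacter H)]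
    [DecidablePred (· ∈ f)] :
    ∑ η : IrrCharacter H, (if η ∈ f then (η : H → ℂ) h else 0) = 0 := by
  classical
  obtain ⟨η₀, hη₀⟩ := IsPBlock.nonempty L.ind.1
  have h1 := finsum_regular_singular_eq_zero hM L.ind.1 (g := (1 : H)) (h := h)
    (BlockHeights.isPRegular_one hM.1) (not_not.1 hh)
  rw [finsum_mem_eq_finite_toFinset_sum _ (Set.toFinite f),
    Finset.sum_congr rfl fun η hη => by
      rw [L.regular_eq ((Set.Finite.mem_toFinset _).1 hη) hη₀ (BlockHeights.isPRegular_one hM.1)],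
    ← Finset.mul_sum, ← map_sum, mul_eq_zero, map_eq_zero] at h1
  have h2 := h1.resolve_left (IsIrrCharacter.apply_one_ne_zero η₀.2)
  rw [← Finset.sum_filter, show Finset.univ.filter (· ∈ f) = (Set.toFinite f).toFinset by ext η; simp]
  exact h2

/-- Conjugation by an element of the normalizer. -/
noncomputable def nact {n : G} (hn : n ∈ N) (η : IrrCharacter H) : IrrCharacter H :=
  transIrr (conjEquiv n (L.conj_mem hn)) η

theorem nact_apply {n : G} (hn : n ∈ N) (η : IrrCharacter H) (h : H) (h' : H)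
    (hh' : (h' : G) = n⁻¹ * h * n) :
    (L.nact hn η : H → ℂ) h = (η : H → ℂ) h' :=
  congrArg (η : H → ℂ) (Subtype.ext hh'.symm)

theorem nact_mem_iff {n : G} (hn : n ∈ N) {η : IrrCharacter H} (hη : η ∈ f) :
    L.nact hn η ∈ f ↔ gconj n (subgroupBlockCoeff H f) = subgroupBlockCoeff H f := by
  have hblk := isPBlock_transBlock (conjEquiv n (L.conj_mem hn)) L.ind.1
  constructor
  · intro h
    have he : transBlock (conjEquiv n (L.conj_mem hn)) f = f :=
      IsPBlock.eq_of_mem hblk L.ind.1 ⟨η, hη, rfl⟩ h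
    rw [← subgroupBlockCoeff_transBlock n (L.conj_mem hn) f, he]
  · intro h
    have he : transBlock (conjEquiv n (L.conj_mem hn)) f = f := subgroupBlockCoeff_injective
      ((subgroupBlockCoeff_transBlock n (L.conj_mem hn) f).trans h)
    exact he.subset ⟨η, hη, rfl⟩

theorem gconj_pow (j : ℕ) :
    gconj (t ^ j) (subgroupBlockCoeff H f) = subgroupBlockCoeff H f := by
  have ht1 : gconj t (subgroupBlockCoeff H f) = subgroupBlockCoeff H f :=
    gconj_eq_self_iff.2 fun x => by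
      have h1 := cj_eq_self_iff.1 L.hfix x
      rwa [coef_ef hM L.ind.1] at h1
  induction j with
  | zero => rw [pow_zero, gconj_one]
  | succ j ih => rw [pow_succ, gconj_mul, ht1, ih]

theorem pow_notMem {j : ℕ} (hj0 : j ≠ 0) (hje : j < e) : t ^ j ∉ H := fun h =>
  hj0 (L.hdist 0 (by omega) j hje (by simpa using h)).symm

/-- **An element moving `z` and fixing the block fixes exactly one member.** -/
theorem existsUnique_fixed {n : G} (hn : n ∈ N) (hnH : n ∉ H)
    (hfix : gconj n (subgroupBlockCoeff H f) = subgroupBlockCoeff H f) :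
    ∃ η₀ ∈ f, L.nact hn η₀ = η₀ ∧ ∀ η ∈ f, L.nact hn η = η → η = η₀ := by
  classical
  haveI : Fintype (IrrCharacter H) := Fintype.ofFinite _
  haveI : Fintype {χ // χ ∈ f} := Fintype.ofFinite _
  set fs := (Set.toFinite f).toFinset with hfs
  have hmem : ∀ η, η ∈ fs ↔ η ∈ f := fun η => (Set.Finite.mem_toFinset _)
  obtain ⟨η₁, hη₁⟩ := IsPBlock.nonempty L.ind.1
  have key : ∑ η ∈ fs, classInner (L.nact hn η : H → ℂ) (η : H → ℂ) = 1 := by
    have hrk : ∑ η ∈ fs, classInner (pRegularPart p (η : H → ℂ)) (η : H → ℂ) = 1 := by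
      have h1 := blockRank_eq_sum_regInner hM L.ind.1
      rw [L.rank, Nat.cast_one] at h1
      rw [h1, Finset.sum_subtype (p := (· ∈ f)) fs hmem]
      rfl
    rw [← hrk]
    simp only [classInner, ← Finset.mul_sum]
    congr 1
    rw [Finset.sum_comm, Finset.sum_comm (s := fs)]
    refine Finset.sum_congr rfl fun h _ => ?_
    set h' : H := ⟨n⁻¹ * (h : G) * n, (L.conj_mem hn _).1 h.2⟩
    by_cases hreg : IsPRegular p h
    · refine Finset.sum_congr rfl fun η hη => ?_
      simp only [pRegularPart_eq, regInd_of_regular hreg, one_mul]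
      rw [L.regular_eq ((L.nact_mem_iff hn ((hmem η).1 hη)).2 hfix) ((hmem η).1 hη) hreg]
    · rw [Finset.sum_eq_zero (f := fun η : IrrCharacter H =>
        pRegularPart p (η : H → ℂ) h * conj ((η : H → ℂ) h))
        (fun η _ => by simp [pRegularPart_eq, regInd, hreg])]
      rw [Finset.sum_congr rfl fun η _ => by rw [L.nact_apply hn η h h' rfl]]
      by_contra hne
      obtain ⟨η, hη, hne'⟩ := Finset.exists_ne_zero_of_sum_ne_zero hne
      have hsing : ¬ IsPRegular p (h : G) := by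
        unfold IsPRegular at hreg ⊢; rwa [Subgroup.orderOf_coe]
      obtain ⟨u, hu, hzu⟩ := L.sect_of_ne_zero ((hmem η).1 hη) hsing fun h0 =>
        hne' (by rw [h0, map_zero, mul_zero])
      obtain ⟨uH, huH⟩ := exists_isPPart hM.1 h
      obtain ⟨u', hu'⟩ := exists_isPPart hM.1 h'
      have hval : (u : G) = (uH : G) := by
        refine isPPart_unique hM.1 hu ?_
        obtain ⟨y, hy, hc, ⟨k, hk⟩, hyp⟩ := huH
        exact ⟨(y : G), congrArg Subtype.val hy, congrArg Subtype.val hc.eq,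
          ⟨k, by rw [Subgroup.orderOf_coe, hk]⟩, by rwa [Subgroup.orderOf_coe]⟩
      have hval' : (u' : G) = n⁻¹ * u * n⁻¹⁻¹ := by
        refine isPPart_unique hM.1 (g := (h' : G)) ?_ ?_
        · obtain ⟨y, hy, hc, ⟨k, hk⟩, hyp⟩ := hu'
          exact ⟨(y : G), congrArg Subtype.val hy, congrArg Subtype.val hc.eq,
            ⟨k, by rw [Subgroup.orderOf_coe, hk]⟩, by rwa [Subgroup.orderOf_coe]⟩
        · have := IsPPart.conjugate hu n⁻¹
          rwa [inv_inv] at this ⊢
      refine hne ?_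
      have hz0 := finsum_mul_conj_eq_zero hM L.ind.1 hu' huH (Or.inl fun hconj => hnH ?_)
      · rw [finsum_mem_eq_finite_toFinset_sum _ (Set.toFinite f)] at hz0
        exact hz0
      obtain ⟨a, ha⟩ := isConj_iff.1 hconj
      have ha' := congrArg Subtype.val ha
      simp only [Subgroup.coe_mul, InvMemClass.coe_inv, hval', ← hval, inv_inv] at ha'
      obtain ⟨i, hi⟩ := Subgroup.mem_zpowers_iff.1 hzu
      have hza : Commute z (a : G) := (L.mem_H _).1 a.2
      refine (L.mem_H n).2 ?_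
      have h2 : ((a : G) * n⁻¹) * u * ((a : G) * n⁻¹)⁻¹ = u := by
        rw [mul_inv_rev, inv_inv]; simpa [mul_assoc] using ha'
      have h3 : ((a : G) * n⁻¹) * z * ((a : G) * n⁻¹)⁻¹ = z := by
        conv_lhs => rw [← hi, ← conj_zpow, h2, hi]
      have h4 : n⁻¹ * z * n = z := by
        calc n⁻¹ * z * n = (a : G)⁻¹ * (((a : G) * n⁻¹) * z * ((a : G) * n⁻¹)⁻¹) * a := by group
          _ = (a : G)⁻¹ * (z * a) := by rw [h3, mul_assoc]
          _ = z := by rw [hza.eq, inv_mul_cancel_left]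
      show z * n = n * z
      conv_rhs => rw [← h4]
      group
  have hsum : ∑ η ∈ fs, classInner (L.nact hn η : H → ℂ) (η : H → ℂ) =
      ((fs.filter fun η => L.nact hn η = η).card : ℂ) := by
    rw [Finset.card_filter, Nat.cast_sum]
    refine Finset.sum_congr rfl fun η _ => ?_
    by_cases h : L.nact hn η = η
    · rw [if_pos h, h, IsIrrCharacter.classInner_self η.2, Nat.cast_one]
    · rw [if_neg h, Nat.cast_zero, IsIrrCharacter.classInner_ne (L.nact hn η).2 η.2
        fun e' => h (Subtype.ext e')]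
  have hc : (fs.filter fun η => L.nact hn η = η).card = 1 := by
    exact_mod_cast hsum.symm.trans key
  obtain ⟨η₀, hη₀⟩ := Finset.card_eq_one.1 hc
  have h0 : η₀ ∈ fs.filter fun η => L.nact hn η = η := hη₀ ▸ Finset.mem_singleton_self _
  rw [Finset.mem_filter, hmem] at h0
  refine ⟨η₀, h0.1, h0.2, fun η hη he => ?_⟩
  exact Finset.mem_singleton.1 (hη₀ ▸ Finset.mem_filter.2 ⟨(hmem η).2 hη, he⟩)

theorem nact_comp {a b : G} (ha : a ∈ N) (hb : b ∈ N) (hab : a * b ∈ N) (η : IrrCharacter H) :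
    L.nact hab η = L.nact ha (L.nact hb η) := by
  refine Subtype.ext (funext fun h => ?_)
  let h1 : H := ⟨a⁻¹ * (h : G) * a, (L.conj_mem ha _).1 h.2⟩
  let h2 : H := ⟨b⁻¹ * (h1 : G) * b, (L.conj_mem hb _).1 h1.2⟩
  rw [L.nact_apply ha _ h h1 rfl, L.nact_apply hb η h1 h2 rfl,
    L.nact_apply hab η h h2 (by simp [h1, h2, mul_assoc])]

theorem nact_of_mem {a : G} (ha : a ∈ H) (haN : a ∈ N) (η : IrrCharacter H) :
    L.nact haN η = η := by
  refine Subtype.ext (funext fun h => ?_)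
  rw [L.nact_apply haN η h ((⟨a, ha⟩ : H)⁻¹ * h * ⟨a, ha⟩) (by simp)]
  conv_rhs => rw [← irr_isClassFunction η h (⟨a, ha⟩ : H)⁻¹, inv_inv]

theorem nact_congr {a b : G} (h : a = b) (ha : a ∈ N) (hb : b ∈ N) (η : IrrCharacter H) :
    L.nact ha η = L.nact hb η := by
  subst h; rfl

/-- **The member fixed by the inertial group.** -/
theorem exists_center : ∃ η₀ ∈ f, (∀ j, L.nact (pow_mem L.ht j) η₀ = η₀) ∧
    ∀ j, j ≠ 0 → j < e → ∀ η ∈ f, L.nact (pow_mem L.ht j) η = η → η = η₀ := by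
  by_cases he : ∀ j, j ≠ 0 → j < e → False
  · obtain ⟨η, hη⟩ := IsPBlock.nonempty L.ind.1
    have htH : t ∈ H := by
      rcases Nat.lt_or_ge 1 e with h | h
      · exact absurd (he 1 one_ne_zero h) not_false
      · have he1 : e ≠ 0 := fun h0 => by
          have := L.e_dvd
          rw [h0, zero_dvd_iff] at this
          have := hM.1.two_le
          omega
        have := L.hte
        rwa [show e = 1 by omega, pow_one] at this
    exact ⟨η, hη, fun j => L.nact_of_mem (H.pow_mem htH j) _ η, fun j hj hje => (he j hj hje).elim⟩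
  push Not at he
  obtain ⟨j₁, hj₁, hj₁e, -⟩ := he
  have he2 : 1 < e := by omega
  obtain ⟨η₀, hη₀, hfix0, hu⟩ := L.existsUnique_fixed L.ht
    (by simpa using L.pow_notMem one_ne_zero he2) (by simpa using L.gconj_pow 1)
  have hall : ∀ j, L.nact (pow_mem L.ht j) η₀ = η₀ := by
    intro j
    induction j with
    | zero => exact L.nact_of_mem (by simp [H.one_mem]) _ η₀
    | succ j ih =>
      rw [L.nact_congr (pow_succ t j) (pow_mem L.ht _) (mul_mem (pow_mem L.ht j) L.ht),
        L.nact_comp (pow_mem L.ht j) L.ht, hfix0, ih]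
  refine ⟨η₀, hη₀, hall, fun j hj hje η hη hfix => ?_⟩
  obtain ⟨η', -, -, hu'⟩ := L.existsUnique_fixed (pow_mem L.ht j) (L.pow_notMem hj hje) (L.gconj_pow j)
  rw [hu' η hη hfix, hu' η₀ hη₀ (hall j)]

end LocalData

end Cfsg.Agent.Lib.CyclicTree
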