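import Cfsg.Agent.Lib.CyclicTree.CoExclude

/-!
# Blocks with cyclic defect group: rank, heights and degrees
-/

set_option autoImplicit false
set_option linter.unusedSectionVars false
set_option linter.style.haveILetI false

namespace Cfsg.Agent.Lib.CyclicTree

open Cfsg Cfsg.Agent.Lib.Blocks Cfsg.Agent.Lib.Characters Cfsg.Agent.Lib.BlockHeights
open Cfsg.Agent.Lib.BrauerPairs

universe u

variable {G : Type u} [Group G] [Fintype G] {M : Ideal AlgInt} [hMp : M.IsPrime] {p : ℕ}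

/-- The shape of a block whose defect group is cyclic of order `p ^ a`. -/
structure CyclicShape (p : ℕ) (B : Set (IrrCharacter G)) (a e : ℕ) : Prop where
  rank : blockRank p B = e
  dvd : e ∣ p - 1
  height : ∀ χ ∈ B, blockHeight p B (χ : G → ℂ) = 0
  split : ∃ X Y : Set (IrrCharacter G), B = X ∪ Y ∧ Disjoint X Y ∧ Nat.card X = e ∧
    Nat.card Y = (p ^ a - 1) / e ∧
    (∀ ψ ∈ Y, ∀ ψ' ∈ Y, ∀ g : G, ¬ p ∣ orderOf g → (ψ : G → ℂ) g = (ψ' : G → ℂ) g) ∧
    ∃ (δ : IrrCharacter G → ℤ) (δ₀ : ℤ), (∀ χ ∈ X, δ χ = 1 ∨ δ χ = -1) ∧ (δ₀ = 1 ∨ δ₀ = -1) ∧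
      (∀ ψ ∈ Y, ∀ g : G, ¬ p ∣ orderOf g → (δ₀ : ℂ) * (ψ : G → ℂ) g +
        ∑ᶠ χ ∈ X, (δ χ : ℂ) * (χ : G → ℂ) g = 0) ∧
      (∀ χ ∈ X, ∀ χ' ∈ X, δ χ * (charDegree (χ : G → ℂ) : ℤ) ≡
        δ χ' * (charDegree (χ' : G → ℂ) : ℤ) [ZMOD (p : ℤ) ^ a]) ∧
      (∀ ψ ∈ Y, ∀ χ ∈ X, (charDegree (ψ : G → ℂ) : ℤ) ≡
        -((e : ℤ) * δ₀ * δ χ * (charDegree (χ : G → ℂ) : ℤ)) [ZMOD (p : ℤ) ^ a])

variable {hM : IsPModular p M} {B : Set (IrrCharacter G)} {z : G} {H N : Subgroup G} [Fintype H]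
  {f : Set (IrrCharacter H)} {PH : Subgroup H} {t : G} {e : ℕ}

set_option maxHeartbeats 1000000 in
open scoped Classical in
theorem LocalData.cyclicShape (L : LocalData hM B z H N f PH t e) {a : ℕ}
    (ha : Nat.card PH = p ^ a) : CyclicShape p B a e := by
  haveI := Fact.mk hM.1
  haveI : Fintype (IrrCharacter G) := Fintype.ofFinite _
  have hB : IsPBlock M B := L.ind.2.1
  obtain ⟨η₀, m, ηs, y, d, S⟩ := L.exists_tree
  obtain ⟨hcard, hsun⟩ := S.sunflower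
  have hrank : blockRank p B = e := by
    have := S.rank_eq
    omega
  set Y : Set (IrrCharacter G) := Set.range y with hY
  set X : Set (IrrCharacter G) := B \ Y with hX
  have hYB : Y ⊆ B := by rintro _ ⟨i, rfl⟩; exact S.y_mem i
  have hBXY : B = X ∪ Y := (Set.diff_union_of_subset hYB).symm
  have hdisj : Disjoint X Y := Set.disjoint_sdiff_left
  have hYcard : Nat.card Y = m := by
    rw [hY, Nat.card_range_of_injective S.inj, Nat.card_fin]
  have hXcard : Nat.card X = e := by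
    have h1 : Nat.card B = Nat.card X + Nat.card Y := by
      rw [Nat.card_coe_set_eq, Nat.card_coe_set_eq, Nat.card_coe_set_eq, ← Set.ncard_union_eq hdisj,
        ← hBXY]
    omega
  have hme : m * e + 1 = p ^ a := ha ▸ S.card_eq
  have hwX : ∀ χ ∈ X, ∀ j, coordW η₀ (ηs j) χ = d χ := fun χ hχ j =>
    S.other j χ hχ.1 fun i h => hχ.2 ⟨i, h.symm⟩
  -- the relation on the regular elements
  have hrel : ∀ (j : Fin m) (g : G), ¬ p ∣ orderOf g →
      (d (y j) : ℂ) * (y j : G → ℂ) g + ∑ᶠ χ ∈ X, (d χ : ℂ) * (χ : G → ℂ) g = 0 := by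
    intro j g hg
    rw [finsum_mem_eq_finite_toFinset_sum _ (Set.toFinite X),
      ← L.coord_regular S.mem₀ (S.mem j).1 (g := g) hg,
      ← Finset.sum_subset (Finset.subset_univ (insert (y j) (Set.toFinite X).toFinset)) fun χ _ hχ => ?_]
    · rw [Finset.sum_insert (by simp [hX, hY]), hsun j j, if_pos rfl]
      congr 1
      exact Finset.sum_congr rfl fun χ hχ => by rw [hwX χ ((Set.Finite.mem_toFinset _).1 hχ) j]
    · rw [Finset.mem_insert, Set.Finite.mem_toFinset, not_or] at hχ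
      by_cases hχB : χ ∈ B
      · obtain ⟨i, rfl⟩ : χ ∈ Y := by
          by_contra h
          exact hχ.2 ⟨hχB, h⟩
        rw [hsun j i, if_neg fun h => hχ.1 (by rw [h]), Int.cast_zero, zero_mul]
      · rw [L.coord_eq_zero_of_not_mem S.mem₀ (S.mem j).1 hχB, Int.cast_zero, zero_mul]
  let j₀ : Fin m := ⟨0, S.pos⟩
  set δ₀ := d (y j₀) with hδ₀
  have h1reg : ¬ p ∣ orderOf (1 : G) := by rw [orderOf_one]; exact hM.1.not_dvd_one
  have hsame : ∀ j, d (y j) = δ₀ := by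
    intro j
    have h := (hrel j 1 h1reg).trans (hrel j₀ 1 h1reg).symm
    rw [add_left_inj, irr_apply_one, irr_apply_one] at h
    have h' : d (y j) * (charDegree (y j : G → ℂ) : ℤ) = δ₀ * (charDegree (y j₀ : G → ℂ) : ℤ) := by
      exact_mod_cast h
    have hpos := charDegree_irr_pos (y j)
    have hpos₀ := charDegree_irr_pos (y j₀)
    rcases S.sign _ (S.y_mem j) with h1 | h1 <;> rcases S.sign _ (S.y_mem j₀) with h2 | h2 <;>
      simp only [← hδ₀] at h2 <;> rw [h1, h2] at h' ⊢ <;> omega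
  have hd₀ : δ₀ = 1 ∨ δ₀ = -1 := S.sign _ (S.y_mem j₀)
  have hd₀' : (δ₀ : ℂ) ≠ 0 := by rcases hd₀ with h | h <;> simp [h]
  have hagree : ∀ j k, ∀ g : G, ¬ p ∣ orderOf g → (y j : G → ℂ) g = (y k : G → ℂ) g := by
    intro j k g hg
    have h := (hrel j g hg).trans (hrel k g hg).symm
    rw [add_left_inj, hsame j, hsame k] at h
    exact mul_left_cancel₀ hd₀' h
  -- congruences
  set ν := (Nat.card G).factorization p with hν
  have hcong : ∀ x : IrrCharacter G → ℤ, (∀ χ, χ ∉ B → x χ = 0) →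
      (∀ j, ∑ χ, x χ * coordW η₀ (ηs j) χ = 0) →
      ((p ^ ν : ℕ) : ℤ) ∣ ∑ χ, x χ * (charDegree (χ : G → ℂ) : ℤ) := fun x hxB hx =>
    dvd_degree_of_vanish hM.1 x fun g hg => L.vanish_singular S.mem₀ x hxB (fun η hη => by
      by_cases h : η = η₀
      · subst h; simp [coordW_self]
      obtain ⟨i, hi⟩ := S.cover η hη h
      rw [hi]
      exact hx i) hg
  set D : IrrCharacter G → ℤ := fun χ => d χ * (charDegree (χ : G → ℂ) : ℤ) with hD
  set Ψ : ℤ := (charDegree (y j₀ : G → ℂ) : ℤ) with hΨ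
  have hψdeg : ∀ j, (charDegree (y j : G → ℂ) : ℤ) = Ψ := fun j => by
    have h := hagree j j₀ 1 h1reg
    rw [irr_apply_one, irr_apply_one] at h
    rw [hΨ]
    exact_mod_cast h
  have hXX : ∀ χ ∈ X, ∀ χ' ∈ X, ((p ^ ν : ℕ) : ℤ) ∣ D χ - D χ' := by
    intro χ hχ χ' hχ'
    have h := hcong (fun ξ => (if ξ = χ then d χ else 0) - if ξ = χ' then d χ' else 0)
      (fun ξ hξ => by rw [if_neg fun (h : ξ = χ) => hξ (h ▸ hχ.1), if_neg fun (h : ξ = χ') => hξ (h ▸ hχ'.1), sub_zero])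
      (fun j => by
        simp only [sub_mul, ite_mul, zero_mul, Finset.sum_sub_distrib, Finset.sum_ite_eq', Finset.mem_univ,
          if_true, hwX χ hχ j, hwX χ' hχ' j]
        rcases S.sign χ hχ.1 with h1 | h1 <;> rcases S.sign χ' hχ'.1 with h2 | h2 <;> simp [h1, h2])
    simpa [sub_mul, ite_mul, Finset.sum_sub_distrib, hD] using h
  have hXY : ∀ χ ∈ X, ((p ^ ν : ℕ) : ℤ) ∣ (m : ℤ) * δ₀ * Ψ - D χ := by
    intro χ hχ
    have h := hcong (fun ξ => (∑ i : Fin m, if ξ = y i then δ₀ else 0) - if ξ = χ then d χ else 0)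
      (fun ξ hξ => by
        rw [if_neg fun (h : ξ = χ) => hξ (h ▸ hχ.1), sub_zero]
        exact Finset.sum_eq_zero fun i _ => if_neg fun (h : ξ = y i) => hξ (h ▸ S.y_mem i))
      (fun j => by
        simp only [sub_mul, Finset.sum_mul, ite_mul, zero_mul, Finset.sum_sub_distrib]
        rw [Finset.sum_comm]
        simp only [Finset.sum_ite_eq', Finset.mem_univ, if_true, hwX χ hχ j, hsun j, hsame, mul_ite, mul_zero]
        rcases S.sign χ hχ.1 with h1 | h1 <;> rcases hd₀ with h2 | h2 <;> simp [h1, h2])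
    simp only [sub_mul, Finset.sum_mul, ite_mul, zero_mul, Finset.sum_sub_distrib] at h
    rw [Finset.sum_comm] at h
    simp only [Finset.sum_ite_eq', Finset.mem_univ, if_true, hψdeg, Finset.sum_const, Finset.card_univ,
      Fintype.card_fin, nsmul_eq_mul, ← mul_assoc] at h
    exact h
  have hpm : ¬ p ∣ m := fun h => by
    have h1 : p ∣ p ^ a := dvd_pow_self p fun h0 => by
      have := L.one_lt
      rw [ha, h0, pow_zero] at this
      omega
    rw [← hme] at h1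
    exact hM.1.not_dvd_one ((Nat.dvd_add_right (h.mul_right e)).1 h1)
  -- heights
  have hXne : ∃ χ₁, χ₁ ∈ X := by
    by_contra hno
    push Not at hno
    rw [Set.eq_empty_iff_forall_notMem.2 hno, Nat.card_coe_set_eq, Set.ncard_empty] at hXcard
    exact L.e_pos.ne hXcard
  obtain ⟨χ₁, hχ₁⟩ := hXne
  have hmemdiv : ∀ χ ∈ B, ∀ k ≤ ν, (p ^ k ∣ charDegree (χ : G → ℂ) ↔ p ^ k ∣ charDegree (y j₀ : G → ℂ)) := by
    intro χ hχ k hk
    have hdvd : ((p ^ k : ℕ) : ℤ) ∣ ((p ^ ν : ℕ) : ℤ) := Int.natCast_dvd_natCast.2 (Nat.pow_dvd_pow p hk)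
    rw [hBXY] at hχ
    rcases hχ with hχ | ⟨i, rfl⟩
    · have h := hdvd.trans (hXY χ hχ)
      have hiff := dvd_sub_comm.1 h
      rw [← Int.natCast_dvd_natCast, ← Int.natCast_dvd_natCast (m := p ^ k) (n := charDegree (y j₀ : G → ℂ))]
      have e1 : ((p ^ k : ℕ) : ℤ) ∣ (charDegree (χ : G → ℂ) : ℤ) ↔ ((p ^ k : ℕ) : ℤ) ∣ D χ := by
        rcases S.sign χ hχ.1 with h1 | h1 <;> simp [hD, h1]
      have e2 : ((p ^ k : ℕ) : ℤ) ∣ Ψ ↔ ((p ^ k : ℕ) : ℤ) ∣ (m : ℤ) * δ₀ * Ψ := by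
        refine ⟨fun h' => h'.mul_left _, fun h' => ?_⟩
        have h2 : ((p ^ k : ℕ) : ℤ) ∣ (m : ℤ) * Ψ := by
          rcases hd₀ with h0 | h0 <;> simpa [h0] using h'
        rw [hΨ, ← Nat.cast_mul, Int.natCast_dvd_natCast] at h2
        rw [hΨ, Int.natCast_dvd_natCast]
        exact (Nat.Coprime.pow_left k ((hM.1.coprime_iff_not_dvd).2 hpm)).dvd_of_dvd_mul_left h2
      rw [e1, ← hΨ, e2]
      exact (dvd_iff_dvd_of_dvd_sub hiff)
    · rw [show charDegree (y i : G → ℂ) = charDegree (y j₀ : G → ℂ) by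
        have := hψdeg i; rw [hΨ] at this; exact_mod_cast this]
  have hdefect : blockDefect p B = a := by
    have h1 := IsDefectGroup.card_eq hM hB L.defectB
    rw [Subgroup.card_map_of_injective Subtype.val_injective, ha] at h1
    exact (Nat.pow_right_injective hM.1.two_le h1).symm
  have hmin : minExp p B < ν := by
    have := blockDefect_add_minExp (p := p) hB
    have h1 := L.one_lt
    have : a ≠ 0 := fun h => by rw [ha, h, pow_zero] at h1; omega
    omega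
  have hnu : ∀ χ ∈ B, nu p (χ : G → ℂ) = minExp p B := by
    intro χ hχ
    obtain ⟨χ', hχ', hmin'⟩ := exists_nu_eq_minExp (p := p) (IsPBlock.nonempty hB)
    refine le_antisymm (not_lt.1 fun h => ?_) (minExp_le hχ)
    have h2 : p ^ (minExp p B + 1) ∣ charDegree (χ : G → ℂ) :=
      (hM.1.pow_dvd_iff_le_factorization (charDegree_irr_pos χ).ne').2 h
    rw [hmemdiv χ hχ _ hmin, ← hmemdiv χ' hχ' _ hmin,
      hM.1.pow_dvd_iff_le_factorization (charDegree_irr_pos χ').ne'] at h2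
    simp only [nu] at hmin'
    omega
  have haν : a ≤ ν := by
    have := blockDefect_add_minExp (p := p) hB
    omega
  have hpa : ((p : ℤ) ^ a) ∣ ((p ^ ν : ℕ) : ℤ) := by
    rw [← Nat.cast_pow]
    exact Int.natCast_dvd_natCast.2 (Nat.pow_dvd_pow p haν)
  refine ⟨hrank, L.e_dvd, fun χ hχ => ?_, X, Y, hBXY, hdisj, hXcard, ?_, ?_, d, δ₀,
    fun χ hχ => S.sign χ hχ.1, hd₀, ?_, fun χ hχ χ' hχ' => ?_, ?_⟩
  · have h1 := minExp_add_blockHeight (p := p) hχ
    rw [hnu χ hχ] at h1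
    omega
  · rw [hYcard, ← hme, Nat.add_sub_cancel, Nat.mul_div_cancel _ L.e_pos]
  · rintro _ ⟨i, rfl⟩ _ ⟨k, rfl⟩ g hg
    exact hagree i k g hg
  · rintro _ ⟨i, rfl⟩ g hg
    rw [← hsame i]
    exact hrel i g hg
  · exact Int.modEq_iff_dvd.2 (hpa.trans (hXX χ' hχ' χ hχ))
  · rintro _ ⟨i, rfl⟩ χ hχ
    rw [hψdeg i, Int.modEq_iff_dvd]
    have h1 := hpa.trans (hXY χ hχ)
    have hme' : (m : ℤ) * (e : ℤ) + 1 = (p : ℤ) ^ a := by exact_mod_cast hme
    have h2 : -((e : ℤ) * δ₀ * d χ * (charDegree (χ : G → ℂ) : ℤ)) - Ψ =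
        (e : ℤ) * δ₀ * ((m : ℤ) * δ₀ * Ψ - D χ) - (p : ℤ) ^ a * Ψ := by
      rw [← hme', hD]
      rcases hd₀ with h | h <;> rw [h] <;> ring
    rw [h2]
    exact dvd_sub (h1.mul_left _) (dvd_mul_right _ _)

end Cfsg.Agent.Lib.CyclicTree
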