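import Cfsg.Agent.Lib.CyclicTree.Corner
import Cfsg.Agent.Lib.CyclicTree.Generator
import Cfsg.Agent.Lib.Glauberman.PGroup
import Mathlib.Algebra.Polynomial.Div

/-!
# The corner of a block of rank one with cyclic defect group

The corner is `R[X] / ∏ (X - x_χ)`, the roots being distinct and of residue zero.
-/

set_option autoImplicit false
set_option linter.unusedSectionVars false
set_option linter.style.haveILetI false

namespace Cfsg.Agent.Lib.CyclicTree

open Cfsg Cfsg.Agent.Lib.Blocks Cfsg.Agent.Lib.Characters Cfsg.Agent.Lib.BrauerStar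
open Cfsg.Agent.Lib.CyclicCorner

universe u

variable {G : Type u} [Group G] [Fintype G] {M : Ideal AlgInt} [hMp : M.IsPrime] {p : ℕ}

/-- The corner of a block of rank one with its generator. -/
structure RankOneCorner (hM : IsPModular p M) {B : Set (IrrCharacter G)} (hB : IsPBlock M B)
    (i X : RG M G) (q : ℕ) : Prop where
  prim : IsPrimIn (⊤ : Subalgebra (locSubring M) (RG M G)) i
  mul_block : i * eBlock hM hB = i
  comm : ∀ x y, sand i x * sand i y = sand i y * sand i x
  one : ∀ χ ∈ B, ev (χ : G → ℂ) i = 1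
  card : Nat.card B = q
  corner : InCorner (⊤ : Subalgebra (locSubring M) (RG M G)) i i X
  span : ∃ n : ℕ, BrZero ⊥ (X ^ n * i) ∧
    ∀ a, InCorner (⊤ : Subalgebra (locSubring M) (RG M G)) i i a →
      a ∈ Submodule.span (locSubring M) (Set.range fun m : Fin n => X ^ (m : ℕ) * i)

theorem exists_rankOneCorner (hM : IsPModular p M) {B : Set (IrrCharacter G)} (hB : IsPBlock M B)
    {P : Subgroup G} (hPD : IsDefectGroup p M B P) [IsCyclic P] (hl : blockRank p B = 1)
    {i : RG M G} (hi : IsPrimIn (⊤ : Subalgebra (locSubring M) (RG M G)) i)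
    (hiB : i * eBlock hM hB = i) : ∃ X, RankOneCorner hM hB i X (Nat.card P) := by
  obtain ⟨X, hX, hn⟩ := exists_generator hM hB hPD hi hiB
  exact ⟨X, hi, hiB, commute_corner hM hB hPD hi hiB,
    fun χ hχ => ev_prim_eq_one hM hB hPD hl hi hiB hχ, card_eq_of_rank_one hM hB hPD hl, hX, hn⟩

/-- A polynomial in the generator. -/
noncomputable def cp (i X : RG M G) (P : Polynomial (locSubring M)) : RG M G :=
  Polynomial.aeval X P * i

variable {hM : IsPModular p M} {B : Set (IrrCharacter G)} {hB : IsPBlock M B} {i X : RG M G} {q : ℕ}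

namespace RankOneCorner

variable (D : RankOneCorner hM hB i X q)
include D

theorem commute_X : Commute i X := D.corner.2.1.trans D.corner.2.2.symm

theorem cp_mem (P : Polynomial (locSubring M)) :
    InCorner (⊤ : Subalgebra (locSubring M) (RG M G)) i i (cp i X P) := by
  have h : Commute i (Polynomial.aeval X P) := commute_aeval D.commute_X P
  refine ⟨Algebra.mem_top, ?_, ?_⟩
  · rw [cp, ← mul_assoc, h.eq, mul_assoc, D.prim.idem]
  · rw [cp, mul_assoc, D.prim.idem]

theorem ev_sand_cj (χ : IrrCharacter G) (g : G) {u v : RG M G} (hu : u * i = u) (hu' : i * u = u)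
    (hv : i * v = v) (hv' : v * i = v) :
    ev (χ : G → ℂ) (u * cj g v) =
      ev (χ : G → ℂ) (u * (sand i (el g) * v * sand i (el g⁻¹))) := by
  have hcl := irr_isClassFunction χ
  have e : u * (sand i (el g) * v * sand i (el g⁻¹)) =
      u * i * el g * (i * v * i) * el g⁻¹ * i := by
    simp only [sand_apply, mul_assoc]
  rw [e, hu, hv, hv', ev_mul_comm hcl (u * el g * v * el g⁻¹) i, cj_apply]
  simp only [← mul_assoc]
  rw [hu']

theorem ev_mul {χ : IrrCharacter G} (hχ : χ ∈ B) {a b : RG M G}
    (ha : InCorner (⊤ : Subalgebra (locSubring M) (RG M G)) i i a)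
    (hb : InCorner (⊤ : Subalgebra (locSubring M) (RG M G)) i i b) :
    ev (χ : G → ℂ) (a * b) = ev (χ : G → ℂ) a * ev (χ : G → ℂ) b := by
  have key : ∀ g : G, ev (χ : G → ℂ) (a * cj g b) = ev (χ : G → ℂ) (a * b * cj g i) := fun g => by
    have hab := ha.mul hb
    rw [D.ev_sand_cj χ g ha.2.2 ha.2.1 hb.2.1 hb.2.2,
      D.ev_sand_cj χ g hab.2.2 hab.2.1 D.prim.idem D.prim.idem]
    congr 1
    have hsb : sand i b = b := by rw [sand_apply, hb.2.1, hb.2.2]
    have hc : sand i (el g) * b = b * sand i (el g) := by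
      calc sand i (el g) * b = sand i (el g) * sand i b := by rw [hsb]
        _ = sand i b * sand i (el g) := D.comm _ _
        _ = b * sand i (el g) := by rw [hsb]
    have hgi : sand i (el g) * i = sand i (el g) := (inCorner_sand D.prim (el g)).2.2
    rw [hc, hgi]
    simp only [mul_assoc]
  have h := sum_ev_mul_cj χ a b
  rw [Finset.sum_congr rfl fun g _ => key g, sum_ev_mul_cj, D.one χ hχ, mul_one] at h
  exact mul_left_cancel₀ (div_ne_zero natCard_ne_zero_complex
    (IsIrrCharacter.apply_one_ne_zero χ.2)) h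

theorem ev_cp {χ : IrrCharacter G} (hχ : χ ∈ B) (P : Polynomial (locSubring M)) :
    ev (χ : G → ℂ) (cp i X P) = (P.map (locSubring M).subtype).eval (ev (χ : G → ℂ) X) := by
  induction P using Polynomial.induction_on' with
  | add P Q hP hQ =>
    rw [cp, map_add, add_mul, ev_add, Polynomial.map_add, Polynomial.eval_add, ← hP, ← hQ]
    rfl
  | monomial m r =>
    rw [cp, Polynomial.aeval_monomial, Polynomial.map_monomial, Polynomial.eval_monomial,
      mul_assoc, ← Algebra.smul_def, ev_smul]
    congr 1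
    induction m with
    | zero => rw [pow_zero, pow_zero, one_mul, D.one χ hχ]
    | succ m ih =>
      have hc : InCorner (⊤ : Subalgebra (locSubring M) (RG M G)) i i (X ^ m * i) := by
        have := D.cp_mem (Polynomial.X ^ m)
        simpa [cp] using this
      rw [pow_succ', pow_succ', mul_assoc, D.ev_mul hχ D.corner hc, ih]

theorem memLocalIdeal_root (hp : p.Prime) {χ : IrrCharacter G} (hχ : χ ∈ B) :
    MemLocalIdeal M (ev (χ : G → ℂ) X) := by
  haveI := Fact.mk hp
  obtain ⟨n, hn, -⟩ := D.span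
  have hR : ∀ g, MemLocalRing M ((χ : G → ℂ) g) := fun g => Glauberman.memLocalRing_char χ g
  have h1 : ev (χ : G → ℂ) (X ^ n * i) = ev (χ : G → ℂ) X ^ n := by
    have := D.ev_cp hχ (Polynomial.X ^ n)
    simpa [cp] using this
  have h2 := memLocalIdeal_ev hR hn
  rw [h1] at h2
  rcases Nat.eq_zero_or_pos n with rfl | hn0
  · rw [pow_zero] at h2; exact absurd h2 not_memLocalIdeal_one
  · exact (memLocalIdeal_pow_iff (memLocalRing_ev hR X) hn0.ne').1 h2

/-- **The values separate the corner.** -/
theorem eq_zero_of_ev {a : RG M G} (ha : InCorner (⊤ : Subalgebra (locSubring M) (RG M G)) i i a)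
    (h : ∀ χ ∈ B, ev (χ : G → ℂ) a = 0) : a = 0 := by
  classical
  haveI := Fintype.ofFinite (IrrCharacter G)
  have hz : ∀ χ : IrrCharacter G, ∀ g : G, ev (χ : G → ℂ) (el g * a) = 0 := by
    intro χ g
    have hcl := irr_isClassFunction χ
    by_cases hχ : χ ∈ B
    · have e : ev (χ : G → ℂ) (el g * a) = ev (χ : G → ℂ) (sand i (el g) * a) := by
        conv_lhs => rw [← ha.2.2, ← mul_assoc, ev_mul_comm hcl]
        rw [sand_apply]
        simp only [mul_assoc, ha.2.1]
      rw [e, D.ev_mul hχ (inCorner_sand D.prim _) ha, h χ hχ, mul_zero]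
    · have e : el g * a = el g * a * eBlock hM hB := by
        conv_lhs => rw [← ha.2.2, ← D.mul_block]
        rw [← mul_assoc, ← mul_assoc, mul_assoc (el g) a i, ha.2.2]
      rw [e, ev_mul_eq]
      refine Finset.sum_eq_zero fun x _ => mul_eq_zero_of_right _ ?_
      simp only [coef_eBlock]
      have hs := sum_mul_char_mul χ.2 (isClassFunction_blockCoeff B) x
      rw [omega_blockCoeff, if_neg hχ, zero_mul] at hs
      rw [← hs]
      exact Finset.sum_congr rfl fun y _ => by rw [classFunction_mul_comm hcl]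
  refine coef_injective (funext fun g => ?_)
  have h1 : ∑ χ : IrrCharacter G, (χ : G → ℂ) 1 * ev (χ : G → ℂ) (el g⁻¹ * a) = 0 :=
    Finset.sum_eq_zero fun χ _ => by rw [hz, mul_zero]
  simp only [ev_el_mul, Finset.mul_sum] at h1
  rw [Finset.sum_comm, Finset.sum_eq_single g] at h1
  · rw [Finset.sum_congr rfl fun (χ : IrrCharacter G) _ => show (χ : G → ℂ) 1 * (coef a g * (χ : G → ℂ) (g⁻¹ * g)) =
      coef a g * ((χ : G → ℂ) 1 * (χ : G → ℂ) 1) by rw [inv_mul_cancel]; ring,
      ← Finset.mul_sum, sum_degree_mul, if_pos rfl] at h1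
    rw [coef_zero]
    exact (mul_eq_zero.1 h1).resolve_right natCard_ne_zero_complex
  · intro x _ hx
    rw [Finset.sum_congr rfl fun (χ : IrrCharacter G) _ => show (χ : G → ℂ) 1 * (coef a x * (χ : G → ℂ) (g⁻¹ * x)) =
      coef a x * ((χ : G → ℂ) 1 * (χ : G → ℂ) (g⁻¹ * x)) by ring,
      ← Finset.mul_sum, sum_degree_mul, if_neg (fun h' => hx (inv_mul_eq_one.1 h').symm), mul_zero]
  · simp

/-- **The roots are distinct.** -/
theorem root_injective {χ θ : IrrCharacter G} (hχ : χ ∈ B) (hθ : θ ∈ B)
    (h : ev (χ : G → ℂ) X = ev (θ : G → ℂ) X) : χ = θ := by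
  obtain ⟨n, -, hs⟩ := D.span
  have hsame : ∀ a, InCorner (⊤ : Subalgebra (locSubring M) (RG M G)) i i a →
      ev (χ : G → ℂ) a = ev (θ : G → ℂ) a := by
    intro a ha
    have := hs a ha
    clear ha
    induction this using Submodule.span_induction with
    | mem z hz =>
      obtain ⟨m, rfl⟩ := hz
      have e1 := D.ev_cp hχ (Polynomial.X ^ (m : ℕ))
      have e2 := D.ev_cp hθ (Polynomial.X ^ (m : ℕ))
      simp only [cp, map_pow, Polynomial.aeval_X] at e1 e2
      rw [e1, e2, h]
    | zero => simp [ev_zero]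
    | add a b _ _ iha ihb => rw [ev_add, ev_add, iha, ihb]
    | smul r a _ iha => rw [ev_smul, ev_smul, iha]
  by_contra hne
  have hg : ∀ g, ev (χ : G → ℂ) (el g * i) = ev (θ : G → ℂ) (el g * i) := fun g => by
    have h1 := hsame _ (inCorner_sand D.prim (el g))
    have h2 : ∀ η : IrrCharacter G, ev (η : G → ℂ) (sand i (el g)) = ev (η : G → ℂ) (el g * i) := by
      intro η
      rw [sand_apply, mul_assoc, ev_mul_comm (irr_isClassFunction η), mul_assoc, D.prim.idem]
    rwa [h2, h2] at h1
  have h1 := sum_ev_ev χ i i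
  rw [D.prim.idem, D.one χ hχ, mul_one] at h1
  refine div_ne_zero (natCard_ne_zero_complex (G := G)) (IsIrrCharacter.apply_one_ne_zero χ.2) ?_
  rw [← h1]
  rw [Finset.sum_congr rfl (g := fun h' : G => ev (χ : G → ℂ) (el h'⁻¹ * i) *
    ev (θ : G → ℂ) (el h' * i)) fun h' _ => by rw [hg h']]
  simp only [ev_el_mul, Finset.sum_mul_sum]
  rw [Finset.sum_comm]
  refine Finset.sum_eq_zero fun x _ => ?_
  rw [Finset.sum_comm]
  refine Finset.sum_eq_zero fun y _ => ?_
  have h2 := IsIrrCharacter.sum_mul_convolution θ.2 χ.2 (x * y)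
  rw [if_neg fun e => hne (Subtype.ext e.symm)] at h2
  rw [Finset.sum_congr rfl (g := fun h' => coef i x * coef i y *
      ((χ : G → ℂ) (h'⁻¹ * x) * (θ : G → ℂ) (h' * y))) fun h' _ => by ring, ← Finset.mul_sum]
  refine mul_eq_zero_of_right _ ?_
  rw [← h2]
  refine Fintype.sum_equiv (Equiv.mulRight y) _ _ fun h' => ?_
  rw [Equiv.coe_mulRight, mul_comm,
    show (h' * y)⁻¹ * (x * y) = y⁻¹ * (h'⁻¹ * x) * y⁻¹⁻¹ by group, irr_isClassFunction χ]

omit D in
/-- The monic polynomial with the roots at the characters of a finite set. -/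
theorem exists_rootPoly (hp : p.Prime) (D : RankOneCorner hM hB i X q)
    (s : Finset (IrrCharacter G)) (hs : ∀ χ ∈ s, χ ∈ B) :
    ∃ Q : Polynomial (locSubring M), Q.Monic ∧ Q.natDegree = s.card ∧
      Q.map (red M) = Polynomial.X ^ s.card ∧
      ∀ z : ℂ, (Q.map (locSubring M).subtype).eval z = ∏ χ ∈ s, (z - ev (χ : G → ℂ) X) := by
  classical
  haveI := Fact.mk hp
  let r : IrrCharacter G → locSubring M := fun χ =>
    ⟨ev (χ : G → ℂ) X, memLocalRing_ev (fun g => Glauberman.memLocalRing_char χ g) X⟩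
  refine ⟨∏ χ ∈ s, (Polynomial.X - Polynomial.C (r χ)),
    Polynomial.monic_prod_of_monic _ _ fun χ _ => Polynomial.monic_X_sub_C _, ?_, ?_, fun z => ?_⟩
  · rw [Polynomial.natDegree_prod_of_monic _ _ fun χ _ => Polynomial.monic_X_sub_C _]
    simp
  · rw [Polynomial.map_prod, Finset.prod_congr rfl fun χ hχ => show
      (Polynomial.X - Polynomial.C (r χ)).map (red M) = Polynomial.X by
        rw [Polynomial.map_sub, Polynomial.map_X, Polynomial.map_C,
          red_eq_zero_iff.2 (D.memLocalIdeal_root hp (hs χ hχ)), map_zero, sub_zero],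
      Finset.prod_const]
  · simp [Polynomial.map_prod, Polynomial.eval_prod, r]

theorem cp_eq_of_eval {P Q : Polynomial (locSubring M)}
    (h : ∀ χ ∈ B, (P.map (locSubring M).subtype).eval (ev (χ : G → ℂ) X) =
      (Q.map (locSubring M).subtype).eval (ev (χ : G → ℂ) X)) : cp i X P = cp i X Q := by
  rw [← sub_eq_zero, cp, cp, ← sub_mul, ← map_sub]
  refine D.eq_zero_of_ev (D.cp_mem _) fun χ hχ => ?_
  have := D.ev_cp hχ (P - Q)
  rw [cp] at this
  rw [this, Polynomial.map_sub, Polynomial.eval_sub, h χ hχ, sub_self]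

/-- **Polynomials of degree below `q` are determined.** -/
theorem cp_injective {P Q : Polynomial (locSubring M)} (hP : P.degree < (q : WithBot ℕ))
    (hQ : Q.degree < (q : WithBot ℕ)) (h : cp i X P = cp i X Q) : P = Q := by
  classical
  haveI := Fintype.ofFinite B
  refine sub_eq_zero.1 (Polynomial.map_injective (locSubring M).subtype Subtype.val_injective ?_)
  rw [Polynomial.map_zero]
  refine Polynomial.eq_zero_of_degree_lt_of_eval_finset_eq_zero
    (Finset.univ.image fun χ : B => ev ((χ : IrrCharacter G) : G → ℂ) X) ?_ ?_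
  · rw [Finset.card_image_of_injective _ fun a b hab =>
      Subtype.ext (D.root_injective a.2 b.2 hab), Finset.card_univ, ← Nat.card_eq_fintype_card, D.card]
    exact lt_of_le_of_lt Polynomial.degree_map_le ((Polynomial.degree_sub_le _ _).trans_lt (max_lt hP hQ))
  · intro z hz
    obtain ⟨χ, -, rfl⟩ := Finset.mem_image.1 hz
    rw [Polynomial.map_sub, Polynomial.eval_sub, ← D.ev_cp χ.2, ← D.ev_cp χ.2, h, sub_self]

theorem exists_poly (hp : p.Prime) {a : RG M G}
    (ha : InCorner (⊤ : Subalgebra (locSubring M) (RG M G)) i i a) :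
    ∃ P : Polynomial (locSubring M), P.degree < (q : WithBot ℕ) ∧ a = cp i X P := by
  classical
  obtain ⟨n, -, hs⟩ := D.span
  obtain ⟨Q, hQm, hQd, -, hQe⟩ := exists_rootPoly hp D (Set.toFinite B).toFinset
    fun χ hχ => (Set.Finite.mem_toFinset _).1 hχ
  have hcard : (Set.toFinite B).toFinset.card = q := by
    rw [← Nat.card_eq_card_finite_toFinset, D.card]
  suffices h : ∃ P : Polynomial (locSubring M), a = cp i X P by
    obtain ⟨P, rfl⟩ := h
    refine ⟨P %ₘ Q, ?_, D.cp_eq_of_eval fun χ hχ => ?_⟩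
    · have := Polynomial.degree_modByMonic_lt P hQm
      rwa [Polynomial.degree_eq_natDegree hQm.ne_zero, hQd, hcard] at this
    · have e := congrArg (fun R => (R.map (locSubring M).subtype).eval (ev (χ : G → ℂ) X))
        (Polynomial.modByMonic_add_div P Q)
      simp only [Polynomial.map_add, Polynomial.map_mul, Polynomial.eval_add, Polynomial.eval_mul,
        hQe] at e
      rw [Finset.prod_eq_zero ((Set.Finite.mem_toFinset _).2 hχ) (sub_self _), zero_mul,
        add_zero] at e
      exact e.symm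
  have := hs a ha
  clear ha
  induction this using Submodule.span_induction with
  | mem z hz => obtain ⟨m, rfl⟩ := hz; exact ⟨Polynomial.X ^ (m : ℕ), by simp [cp]⟩
  | zero => exact ⟨0, by simp [cp]⟩
  | add a b _ _ ha hb =>
    obtain ⟨P, rfl⟩ := ha; obtain ⟨P', rfl⟩ := hb
    exact ⟨P + P', by simp [cp, add_mul]⟩
  | smul r a _ ha =>
    obtain ⟨P, rfl⟩ := ha
    exact ⟨r • P, by simp [cp]⟩

omit D in
theorem redG_cp (P : Polynomial (locSubring M)) :
    redG G M (cp i X P) = Polynomial.aeval (redG G M X) (P.map (red M)) * redG G M i := by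
  rw [cp, map_mul]
  congr 1
  induction P using Polynomial.induction_on' with
  | add P Q hP hQ => simp only [map_add, Polynomial.map_add, hP, hQ]
  | monomial m r =>
    rw [Polynomial.aeval_monomial, Polynomial.map_monomial, Polynomial.aeval_monomial, map_mul,
      map_pow, Algebra.algebraMap_eq_smul_one r, redG_smul, map_one, smul_mul_assoc, one_mul,
      ← Algebra.smul_def]

/-- **The residue of the corner is `k[T]/(T^q)`.** -/
theorem coeff_small (hp : p.Prime) {P : Polynomial (locSubring M)}
    (hP : P.degree < (q : WithBot ℕ)) (h : redG G M (cp i X P) = 0) : P.map (red M) = 0 := by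
  classical
  choose Pg hPd hPe using fun g : G => D.exists_poly hp (inCorner_sand D.prim (el g : RG M G))
  set z := cp i X P
  have hz : z = ∑ g : G, z.coeff g • cp i X (Pg g) := by
    conv_lhs => rw [show z = sand i z by rw [sand_apply, (D.cp_mem P).2.1, (D.cp_mem P).2.2],
      ← sum_coeff_smul_el z, map_sum]
    exact Finset.sum_congr rfl fun g _ => by rw [map_smul, hPe]
  have hPs : P = ∑ g : G, z.coeff g • Pg g := by
    refine D.cp_injective hP ?_ ?_
    · exact (Polynomial.degree_sum_le _ _).trans_lt ((Finset.sup_lt_iff (WithBot.bot_lt_coe q)).2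
        fun g _ => (Polynomial.degree_smul_le _ _).trans_lt (hPd g))
    · refine hz.trans ?_
      simp only [cp]
      rw [map_sum, Finset.sum_mul]
      exact Finset.sum_congr rfl fun g _ => by rw [map_smul, smul_mul_assoc]
  rw [hPs, Polynomial.map_sum]
  refine Finset.sum_eq_zero fun g _ => ?_
  have hs : red M (z.coeff g) = 0 := red_eq_zero_iff.2 (brZero_bot_iff.1 (redG_eq_zero_iff.1 h) g)
  rw [Polynomial.map_smul, hs, zero_smul]

/-- The top power survives. -/
theorem redG_top_ne_zero (hp : p.Prime) (hq : 0 < q) : redG G M (cp i X (Polynomial.X ^ (q - 1))) ≠ 0 :=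
  fun h => by
    have := D.coeff_small hp (P := Polynomial.X ^ (q - 1))
      (by rw [Polynomial.degree_X_pow]; exact_mod_cast (by omega : q - 1 < q)) h
    rw [Polynomial.map_pow, Polynomial.map_X] at this
    exact Polynomial.X_ne_zero (pow_eq_zero_iff'.1 this).1

theorem redG_pow_card (hp : p.Prime) : redG G M (X ^ q * i) = 0 := by
  classical
  obtain ⟨Q, hQm, hQd, hQr, hQe⟩ := exists_rootPoly hp D (Set.toFinite B).toFinset
    fun χ hχ => (Set.Finite.mem_toFinset _).1 hχ
  have hcard : (Set.toFinite B).toFinset.card = q := by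
    rw [← Nat.card_eq_card_finite_toFinset, D.card]
  have h0 : cp i X Q = 0 := by
    refine D.eq_zero_of_ev (D.cp_mem Q) fun χ hχ => ?_
    rw [D.ev_cp hχ, hQe, Finset.prod_eq_zero ((Set.Finite.mem_toFinset _).2 hχ) (sub_self _)]
  have := redG_cp (i := i) (X := X) Q
  rw [h0, map_zero, hQr, hcard, Polynomial.aeval_X_pow] at this
  rw [map_mul, map_pow]
  exact this.symm

/-- **The annihilator of the generator.** -/
theorem annihilator_X (hp : p.Prime) {a : RG M G}
    (ha : InCorner (⊤ : Subalgebra (locSubring M) (RG M G)) i i a) (h : redG G M (a * X) = 0) :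
    ∃ c : ResField M, redG G M a = c • redG G M (X ^ (q - 1) * i) := by
  classical
  obtain ⟨P, hPd, rfl⟩ := D.exists_poly hp ha
  obtain ⟨Q, hQm, hQd, hQr, hQe⟩ := exists_rootPoly hp D (Set.toFinite B).toFinset
    fun χ hχ => (Set.Finite.mem_toFinset _).1 hχ
  have hcard : (Set.toFinite B).toFinset.card = q := by
    rw [← Nat.card_eq_card_finite_toFinset, D.card]
  have hred : redG G M (cp i X ((P * Polynomial.X) %ₘ Q)) = 0 := by
    rw [D.cp_eq_of_eval (Q := P * Polynomial.X) fun χ hχ => ?_]
    · rw [← h, cp, cp, map_mul (Polynomial.aeval X), Polynomial.aeval_X]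
      congr 1
      rw [mul_assoc, mul_assoc, D.commute_X.eq]
    · have e := congrArg (fun R => (R.map (locSubring M).subtype).eval (ev (χ : G → ℂ) X))
        (Polynomial.modByMonic_add_div (P * Polynomial.X) Q)
      simp only [Polynomial.map_add, Polynomial.map_mul, Polynomial.eval_add, Polynomial.eval_mul,
        hQe] at e
      rw [Finset.prod_eq_zero ((Set.Finite.mem_toFinset _).2 hχ) (sub_self _), zero_mul,
        add_zero] at e
      simpa [Polynomial.eval_mul] using e
  have hsm := D.coeff_small hp (by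
    have := Polynomial.degree_modByMonic_lt (P * Polynomial.X) hQm
    rwa [Polynomial.degree_eq_natDegree hQm.ne_zero, hQd, hcard] at this) hred
  rw [Polynomial.map_modByMonic _ hQm, hQr, hcard,
    Polynomial.modByMonic_eq_zero_iff_dvd (Polynomial.monic_X_pow q), Polynomial.map_mul,
    Polynomial.map_X] at hsm
  refine ⟨(P.map (red M)).coeff (q - 1), ?_⟩
  have hP' : P.map (red M) = Polynomial.monomial (q - 1) ((P.map (red M)).coeff (q - 1)) := by
    refine Polynomial.ext fun m => ?_
    rw [Polynomial.coeff_monomial]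
    split_ifs with hm
    · rw [hm]
    · rcases lt_or_ge m q with hlt | hge
      · have := (Polynomial.X_pow_dvd_iff.1 hsm) (m + 1) (by omega)
        rwa [Polynomial.coeff_mul_X] at this
      · exact Polynomial.coeff_eq_zero_of_degree_lt
          ((Polynomial.degree_map_le.trans_lt hPd).trans_le (WithBot.coe_le_coe.2 hge))
  rw [redG_cp, hP', Polynomial.aeval_monomial, map_mul, map_pow, ← Algebra.smul_def, smul_mul_assoc,
    Polynomial.coeff_monomial, if_pos rfl]

/-- **Elements separating a character.** -/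
theorem exists_separating (hp : p.Prime) {χ : IrrCharacter G} (hχ : χ ∈ B) :
    ∃ s : RG M G, InCorner (⊤ : Subalgebra (locSubring M) (RG M G)) i i s ∧
      (∀ θ ∈ B, θ ≠ χ → ev (θ : G → ℂ) s = 0) ∧
      redG G M s = redG G M (X ^ (q - 1) * i) := by
  classical
  obtain ⟨Q, -, -, hQr, hQe⟩ := exists_rootPoly hp D ((Set.toFinite B).toFinset.erase χ)
    fun θ hθ => (Set.Finite.mem_toFinset _).1 (Finset.mem_of_mem_erase hθ)
  have hcard : ((Set.toFinite B).toFinset.erase χ).card = q - 1 := by
    rw [Finset.card_erase_of_mem ((Set.Finite.mem_toFinset _).2 hχ),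
      ← Nat.card_eq_card_finite_toFinset, D.card]
  refine ⟨cp i X Q, D.cp_mem Q, fun θ hθ hne => ?_, ?_⟩
  · rw [D.ev_cp hθ, hQe, Finset.prod_eq_zero (Finset.mem_erase.2 ⟨hne, (Set.Finite.mem_toFinset _).2 hθ⟩)
      (sub_self _)]
  · rw [redG_cp, hQr, hcard, Polynomial.aeval_X_pow, map_mul, map_pow]

end RankOneCorner

end Cfsg.Agent.Lib.CyclicTree
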