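import Cfsg.Agent.Lib.CyclicCorner.Monogenic

/-!
# The corner is spanned by the powers of an element of residue zero
-/

set_option autoImplicit false
set_option linter.unusedSectionVars false

namespace Cfsg.Agent.Lib.CyclicTree

open Module MonoidAlgebra Cfsg.Agent.Lib.CyclicCorner

variable {k : Type*} [Field k] {G : Type*} [Group G] [Fintype G] {P : Subgroup G}
  (D : TraceCorner k G P)
variable (hunit : ∀ a, D.i * a * D.i = a → D.ε a ≠ 0 →
  ∃ w, D.i * w * D.i = w ∧ w * a = D.i)

include hunit in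
/-- **The corner is spanned by the powers of one element.** -/
theorem exists_powers_span_rad {p : ℕ} [Fact p.Prime] [CharP k p] {u : G}
    (hP : P = Subgroup.zpowers u) {a : ℕ} (hu : u ^ p ^ a = 1) :
    ∃ x ∈ cornerRad D, ∃ n : ℕ, D.i * x ^ n = 0 ∧ ∀ b, D.i * b * D.i = b →
      b ∈ Submodule.span k (Set.range fun m : Fin n => x ^ (m : ℕ) * D.i) := by
  classical
  obtain ⟨x, hx, hgen⟩ := exists_generator D hP hu
  have hxc := (mem_cornerRad D).1 hx
  have hJ := rad_le_mul D hunit hx hgen
  set L := cornerSp D with hL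
  let W : ℕ → Submodule k (MonoidAlgebra k G) := fun n => L.map (LinearMap.mulRight k (x ^ n))
  -- the chain stops
  have hanti : ∀ n, W (n + 1) ≤ W n := by
    intro n
    rintro _ ⟨l, hl, rfl⟩
    refine ⟨l * x, (mem_cornerSp D).2 (mul_mem_cornerSp D ((mem_cornerSp D).1 hl) hxc.1), ?_⟩
    show l * x * x ^ n = l * x ^ (n + 1)
    rw [pow_succ', mul_assoc]
  obtain ⟨n, hn⟩ : ∃ n, ∀ m, finrank k (W n) ≤ finrank k (W m) :=
    ⟨Function.argmin (fun m => finrank k (W m)),
      fun m => Function.argmin_le (fun m => finrank k (W m)) m⟩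
  have heq := Submodule.eq_of_le_of_finrank_le (hanti n) (hn (n + 1))
  have hxn : D.i * x ^ n = 0 := by
    have hmem : D.i * x ^ n ∈ W (n + 1) := by
      rw [heq]
      exact ⟨D.i, (mem_cornerSp D).2 (i_mem D), rfl⟩
    obtain ⟨l, hl, e⟩ := hmem
    rw [LinearMap.mulRight_apply, pow_succ', ← mul_assoc] at e
    have hlx := mul_mem_cornerSp D ((mem_cornerSp D).1 hl) hxc.1
    obtain ⟨w, hw, hwu⟩ := hunit (D.i - l * x) (by rw [mul_sub, sub_mul, i_mem, hlx])
      (by rw [map_sub, D.ε_i, D.ε_mul _ _ ((mem_cornerSp D).1 hl) hxc.1, hxc.2, mul_zero, sub_zero]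
          exact one_ne_zero)
    calc D.i * x ^ n = w * (D.i - l * x) * (D.i * x ^ n) := by
          rw [hwu, ← mul_assoc, D.idem]
      _ = w * ((D.i - l * x) * D.i * x ^ n) := by simp only [mul_assoc]
      _ = w * 0 := by
          rw [sub_mul, D.idem, mul_i_of_mem D hlx, sub_mul, e, sub_self]
      _ = 0 := mul_zero w
  refine ⟨x, hx, n, hxn, fun b hb => ?_⟩
  set T := Submodule.span k (Set.range fun m : Fin n => x ^ (m : ℕ) * D.i)
  have key : ∀ m, m ≤ n → ∀ b, D.i * b * D.i = b → b * x ^ (n - m) ∈ T := by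
    intro m
    induction m with
    | zero =>
      intro _ b hb
      rw [Nat.sub_zero, ← mul_i_of_mem D hb, mul_assoc, hxn, mul_zero]
      exact zero_mem _
    | succ m ih =>
      intro hm b hb
      have hr : b - D.ε b • D.i ∈ cornerRad D := by
        rw [mem_cornerRad, map_sub, map_smul, D.ε_i, smul_eq_mul, mul_one, sub_self]
        refine ⟨?_, rfl⟩
        rw [mul_sub, sub_mul, hb, mul_smul_comm, smul_mul_assoc, D.idem, D.idem]
      obtain ⟨l, hl, e⟩ := hJ hr
      rw [LinearMap.mulRight_apply] at e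
      rw [show b = D.ε b • D.i + l * x by rw [e]; abel, add_mul, smul_mul_assoc,
        mul_assoc, ← pow_succ', show n - (m + 1) + 1 = n - m by omega]
      refine add_mem (Submodule.smul_mem _ _ (Submodule.subset_span ⟨⟨n - (m + 1), by omega⟩, ?_⟩))
        (ih (by omega) l ((mem_cornerSp D).1 hl))
      show x ^ (n - (m + 1)) * D.i = _
      exact (Commute.pow_left (show Commute x D.i from
        (mul_i_of_mem D hxc.1).trans (i_mul_of_mem D hxc.1).symm) _).eq
  have := key n le_rfl b hb
  rwa [Nat.sub_self, pow_zero, mul_one] at this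

end Cfsg.Agent.Lib.CyclicTree
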