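import Cfsg.Agent.Lib.CyclicTree.Family
import Cfsg.Agent.Lib.CyclicTree.Ambient
import Mathlib.RingTheory.Finiteness.Ideal

/-!
# The relation between the central characters modulo `p` when the defect group has order `p`
-/

set_option autoImplicit false
set_option linter.unusedSectionVars false
set_option linter.style.haveILetI false

namespace Cfsg.Agent.Lib.CyclicTree

open Cfsg Cfsg.Agent.Lib.Blocks Cfsg.Agent.Lib.Characters Cfsg.Agent.Lib.BlockHeights
open Cfsg.Agent.Lib.BrauerPairs Cfsg.Agent.Lib.BrauerStar Cfsg.Agent.Lib.CyclicCorner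

universe u

variable {G : Type u} [Group G] [Fintype G] {M : Ideal AlgInt} [hMp : M.IsPrime] {p : ℕ}

section Embed

variable (H : Subgroup G)

/-- The group ring of a subgroup inside that of the group. -/
noncomputable def emb : RG M H →ₐ[locSubring M] RG M G :=
  MonoidAlgebra.mapDomainAlgHom (locSubring M) (locSubring M) H.subtype

theorem emb_el (h : H) : emb H (el h : RG M H) = el (h : G) := by
  simp [emb, el, MonoidAlgebra.of_apply, MonoidAlgebra.mapDomainAlgHom]

variable [Fintype H]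

theorem emb_eq_sum (y : RG M H) : emb H y = ∑ h : H, y.coeff h • (el (h : G) : RG M G) := by
  conv_lhs => rw [← sum_coeff_smul_el y, map_sum]
  exact Finset.sum_congr rfl fun h _ => by rw [map_smul, emb_el]

theorem coef_emb_coe (y : RG M H) (h : H) : coef (emb H y) (h : G) = coef y h := by
  classical
  rw [emb_eq_sum, coef_sum, Finset.sum_apply, Finset.sum_eq_single h]
  · rw [coef_smul, Pi.smul_apply, el, MonoidAlgebra.of_apply, coef_single, if_pos rfl,
      OneMemClass.coe_one, smul_eq_mul, mul_one]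
    rfl
  · intro b _ hb
    rw [coef_smul, Pi.smul_apply, el, MonoidAlgebra.of_apply, coef_single,
      if_neg fun h' => hb (Subtype.ext h'), smul_zero]
  · simp

theorem coef_emb_of_notMem (y : RG M H) {g : G} (hg : g ∉ H) : coef (emb H y) g = 0 := by
  classical
  rw [emb_eq_sum, coef_sum, Finset.sum_apply]
  refine Finset.sum_eq_zero fun b _ => ?_
  rw [coef_smul, Pi.smul_apply, el, MonoidAlgebra.of_apply, coef_single,
    if_neg fun (h' : (b : G) = g) => hg (h' ▸ b.2), smul_zero]

theorem emb_eBlock (hM : IsPModular p M) {f : Set (IrrCharacter H)} (hf : IsPBlock M f) :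
    emb H (eBlock hM hf) = ef M H f := by
  refine coef_injective (funext fun g => ?_)
  rw [coef_ef hM hf]
  by_cases hg : g ∈ H
  · rw [show g = ((⟨g, hg⟩ : H) : G) from rfl, coef_emb_coe, coef_eBlock,
      subgroupBlockCoeff_of_mem f hg]
  · rw [coef_emb_of_notMem H _ hg, subgroupBlockCoeff_of_notMem f hg]

theorem ev_emb (χ : G → ℂ) (y : RG M H) : ev χ (emb H y) = ev (resFun H χ) y := by
  rw [emb_eq_sum, ev_sum]
  refine Finset.sum_congr rfl fun h _ => ?_
  rw [ev_smul, ev_el]
  rfl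

theorem ev_emb_eq_sum [Fintype (IrrCharacter H)] (χ : IrrCharacter G) (y : RG M H) :
    ev (χ : G → ℂ) (emb H y) = ∑ η : IrrCharacter H, (mult χ η : ℂ) * ev (η : H → ℂ) y := by
  rw [ev_emb, resFun_eq_sum]
  simp only [ev, Finset.sum_apply, Pi.smul_apply, smul_eq_mul, resMult_eq_mult, Finset.mul_sum]
  rw [Finset.sum_comm]
  exact Finset.sum_congr rfl fun η _ => Finset.sum_congr rfl fun h _ => by ring

end Embed

section Trace

variable {K : Type u} [Group K] [Fintype K]

/-- The sum of the conjugates. -/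
noncomputable def trAll (v : RG M K) : RG M K := ∑ h : K, cj h v

theorem trAll_mul (v : RG M K) {c : RG M K} (hc : ∀ h : K, cj h c = c) :
    trAll v * c = trAll (v * c) := by
  rw [trAll, trAll, Finset.sum_mul]
  exact Finset.sum_congr rfl fun h _ => by rw [map_mul, hc]

theorem mul_trAll (v : RG M K) {c : RG M K} (hc : ∀ h : K, cj h c = c) :
    c * trAll v = trAll (c * v) := by
  rw [trAll, trAll, Finset.mul_sum]
  exact Finset.sum_congr rfl fun h _ => by rw [map_mul, hc]

/-- Elements with small coefficients have powers divisible by `p`. -/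
theorem exists_pow_eq_p_smul (hM : IsPModular p M) {x : RG M K} (hx : BrZero ⊥ x) :
    ∃ N : ℕ, 0 < N ∧ ∃ w : RG M K, x ^ N = p • w := by
  classical
  set I : Ideal (locSubring M) := Ideal.span (Set.range fun g : K => x.coeff g) with hI
  have hrad : I ≤ (Ideal.span {((p : ℕ) : locSubring M)}).radical := by
    rw [hI, Ideal.span_le]
    rintro _ ⟨g, rfl⟩
    obtain ⟨n, hn⟩ := exists_pow_div_p_pow hM (brZero_bot_iff.1 hx g) 1
    refine ⟨n, Ideal.mem_span_singleton.2 ⟨⟨_, hn n le_rfl⟩, Subtype.ext ?_⟩⟩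
    show ((x.coeff g : locSubring M) : ℂ) ^ n = ((p : ℕ) : locSubring M).1 * _
    simp only [pow_one, SubringClass.coe_natCast]
    rw [mul_div_cancel₀ _ (Nat.cast_ne_zero.2 hM.1.ne_zero)]
    rfl
  obtain ⟨N, hN⟩ := Ideal.exists_pow_le_of_le_radical_of_fg hrad
    (Submodule.fg_span (Set.finite_range _))
  have hpow : ∀ n : ℕ, ∀ g : K, (x ^ (n + 1)).coeff g ∈ I ^ (n + 1) := by
    intro n
    induction n with
    | zero =>
      intro g
      rw [pow_one, pow_one]
      exact Ideal.subset_span ⟨g, rfl⟩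
    | succ n ih =>
      intro g
      rw [pow_succ x, pow_succ I, MonoidAlgebra.coeff_mul_apply_left, Finsupp.sum_fintype _ _ (fun h => by simp)]
      exact Ideal.sum_mem _ fun h _ => Ideal.mul_mem_mul (ih h) (Ideal.subset_span ⟨_, rfl⟩)
  have hdvd : ∀ g : K, ∃ r : locSubring M, (x ^ (N + 1)).coeff g = (p : locSubring M) * r := fun g => by
    obtain ⟨r, hr⟩ := Ideal.mem_span_singleton.1 (hN (Ideal.pow_le_pow_right (Nat.le_succ N) (hpow N g)))
    exact ⟨r, hr⟩
  choose r hr using hdvd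
  refine ⟨N + 1, Nat.succ_pos _, ∑ g : K, r g • el g, ?_⟩
  conv_lhs => rw [← sum_coeff_smul_el (x ^ (N + 1))]
  rw [Finset.smul_sum]
  refine Finset.sum_congr rfl fun g _ => ?_
  rw [hr, mul_smul, Nat.cast_smul_eq_nsmul]

/-- **A block idempotent of defect group of order `p`, times `p`, is a sum of conjugates modulo
`p ^ 2`.** -/
theorem exists_p_smul_eBlock (hM : IsPModular p M) {f : Set (IrrCharacter K)} (hf : IsPBlock M f)
    {P : Subgroup K} (hPD : IsDefectGroup p M f P) (hP : Nat.card P = p) :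
    ∃ v w : RG M K, (∀ h : K, cj h w = w) ∧
      p • eBlock hM hf = trAll v + (p * p) • w := by
  classical
  haveI := Fact.mk hM.1
  obtain ⟨ts, R, c, hRP, hcomm, he⟩ := exists_trace_form hM hf hPD
  haveI : ∀ g, Fintype (K ⧸ R g) := fun g => Fintype.ofFinite _
  haveI : ∀ g, Fintype (R g) := fun g => Fintype.ofFinite _
  choose c' hc' using fun g : K => red_surjective (M := M) (c g)
  set A : RG M K := ∑ g ∈ ts, c' g • ∑ a : K ⧸ R g, cj a.out (el g) with hA
  set v₀ : RG M K := ∑ g ∈ ts, (c' g * ((p / Nat.card (R g) : ℕ) : locSubring M)) • el g with hv₀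
  set ε : RG M K := eBlock hM hf - A with hε
  have hred : BrZero ⊥ ε := by
    refine redG_eq_zero_iff.1 ?_
    rw [hε, map_sub, sub_eq_zero, he, hA, map_sum]
    refine Finset.sum_congr rfl fun g _ => ?_
    rw [redG_smul, hc', map_sum]
    refine congrArg _ (Finset.sum_congr rfl fun a _ => ?_)
    rw [cj_apply, ← el_mul, ← el_mul, redG_el]
  have hpA : p • A = trAll v₀ := by
    simp only [hA, hv₀, trAll, map_sum, map_smul, Finset.smul_sum]
    rw [Finset.sum_comm (s := (Finset.univ : Finset K))]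
    refine Finset.sum_congr rfl fun g hg => ?_
    rw [← Finset.smul_sum, ← Finset.smul_sum, ← Finset.smul_sum, ← sum_out_mul (R g) (fun k => cj k (el g : RG M K))]
    have hR : Nat.card (R g) ∣ p := hP ▸ Subgroup.card_dvd_of_le (hRP g hg)
    have hsum : ∀ a : K ⧸ R g, ∑ r : R g, cj (a.out * (r : K)) (el g : RG M K) =
        Nat.card (R g) • cj a.out (el g : RG M K) := fun a => by
      rw [Nat.card_eq_fintype_card, ← Finset.card_univ, ← Finset.sum_const]
      refine Finset.sum_congr rfl fun r _ => ?_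
      rw [cj_mul, commute_el_iff.1 (show Commute (el (r : K) : RG M K) (el g) from
        (hcomm g hg r r.2).map (MonoidAlgebra.of (locSubring M) K))]
    rw [Finset.sum_congr rfl fun a _ => hsum a, ← Finset.smul_sum, mul_smul, Nat.cast_smul_eq_nsmul,
      smul_smul (p / Nat.card (R g)), Nat.div_mul_cancel hR, smul_comm]
  have hEc : ∀ h : K, cj h (eBlock hM hf) = eBlock hM hf := fun h =>
    commute_el_iff.1 (eBlock_mul_comm hM hf (el h)).symm
  have hAc : ∀ h : K, cj h A = A := by
    intro h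
    refine (smul_right_injective (RG M K) (show ((p : ℕ) : locSubring M) ≠ 0 from fun h0 =>
      hM.1.ne_zero (Nat.cast_eq_zero.1 (congrArg Subtype.val h0 :)))) ?_
    simp only [Nat.cast_smul_eq_nsmul, ← map_nsmul, hpA]
    rw [trAll, map_sum]
    exact Fintype.sum_equiv (Equiv.mulLeft h) _ _ fun k => (cj_mul h k v₀).symm
  have hεc : ∀ h : K, cj h ε = ε := fun h => by rw [hε, map_sub, hEc, hAc]
  have hεn : ∀ n : ℕ, ∀ h : K, cj h (ε ^ n) = ε ^ n := fun n h => by rw [map_pow, hεc]
  have key : ∀ n : ℕ, 0 < n → ∃ v, p • eBlock hM hf = trAll v + p • ε ^ n := by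
    intro n hn
    induction n, hn using Nat.le_induction with
    | base => exact ⟨v₀, by rw [pow_one, ← hpA, hε, ← smul_add, add_sub_cancel]⟩
    | succ n hn ih =>
      obtain ⟨v, hv⟩ := ih
      refine ⟨v * eBlock hM hf + ε ^ n * v₀, ?_⟩
      have h1 : p • (eBlock hM hf * eBlock hM hf) = (trAll v + p • ε ^ n) * eBlock hM hf := by
        rw [← hv, smul_mul_assoc]
      rw [eBlock_idem] at h1
      have h2 : p • ε ^ n * eBlock hM hf = trAll (ε ^ n * v₀) + p • ε ^ (n + 1) := by
        rw [← mul_trAll v₀ (hεn n), ← hpA, mul_smul_comm, smul_mul_assoc, ← smul_add,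
          pow_succ, ← mul_add, hε, add_sub_cancel]
      rw [h1, add_mul, trAll_mul v hEc, h2, trAll, trAll, trAll, ← add_assoc, ← Finset.sum_add_distrib]
      congr 1
      exact Finset.sum_congr rfl fun h _ => (map_add _ _ _).symm
  obtain ⟨N, hN, w, hw⟩ := exists_pow_eq_p_smul hM hred
  obtain ⟨v, hv⟩ := key N hN
  refine ⟨v, w, fun h => ?_, by rw [hv, hw, smul_smul]⟩
  refine (smul_right_injective (RG M K) (show ((p : ℕ) : locSubring M) ≠ 0 from fun h0 =>
    hM.1.ne_zero (Nat.cast_eq_zero.1 (congrArg Subtype.val h0 :)))) ?_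
  simp only [Nat.cast_smul_eq_nsmul, ← map_nsmul, ← hw]
  exact hεn N h

end Trace

variable {hM : IsPModular p M} {B : Set (IrrCharacter G)} {z : G} {H N : Subgroup G} [Fintype H]
  {f : Set (IrrCharacter H)} {PH : Subgroup H} {t : G} {e : ℕ}

theorem ev_cj {χ : G → ℂ} (hχ : IsClassFunction G χ) (g : G) (x : RG M G) :
    ev χ (cj g x) = ev χ x := by
  rw [cj_apply, ev_mul_comm hχ, ← mul_assoc, ← el_mul, inv_mul_cancel, el_one, one_mul]

theorem cj_emb (h : H) (x : RG M H) : cj (h : G) (emb H x) = emb H (cj h x) := by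
  rw [cj_apply, cj_apply, map_mul, map_mul, emb_el, emb_el]
  rfl

open scoped Classical in
set_option maxHeartbeats 1000000 in
/-- **Pairs of conjugates from outside the normalizer give a multiple of `p |H|`.** -/
theorem LocalData.sum_outside (L : LocalData hM B z H N f PH t e) (χ : IrrCharacter G)
    {a y v w : RG M H} (ha : cj (⟨z, L.z_mem⟩ : H) a = a)
    (hw : ∀ h : H, cj h w = w) (hy : p • y = trAll v + (p * p) • w) :
    ∃ r : locSubring M, ∑ g ∈ Finset.univ.filter (fun g : G => g ∉ N),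
        ev (χ : G → ℂ) (emb H a * cj g (emb H y)) = (p : ℂ) * (Nat.card H : ℂ) * (r : ℂ) := by
  have hcl := irr_isClassFunction χ
  haveI : Fintype (G ⧸ H) := Fintype.ofFinite _
  let F : RG M H → G → locSubring M := fun u g =>
    ⟨ev (χ : G → ℂ) (emb H a * cj g (emb H u)),
      memLocalRing_ev (fun x => Glauberman.memLocalRing_char χ x) _⟩
  have hmul : ∀ (u : RG M H) (g : G) (h : H), F u (g * (h : G)) = F (cj h u) g := fun u g h =>
    Subtype.ext (by show ev _ _ = ev _ _; rw [cj_mul, cj_emb])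
  have hright : ∀ (h : H) (g : G), g * (h : G) ∈ N ↔ g ∈ N := fun h g =>
    N.mul_mem_cancel_right (L.H_le h.2)
  set Out := Finset.univ.filter (fun g : G => g ∉ N) with hOut
  -- the trace part
  let act : MulAction (Subgroup.zpowers z × Subgroup.zpowers z) G :=
    { smul := fun r g => (r.1 : G) * g * (r.2 : G)⁻¹
      one_smul := fun g => show ((1 : Subgroup.zpowers z) : G) * g * ((1 : Subgroup.zpowers z) : G)⁻¹ = g by simp
      mul_smul := fun r r' g => show ((r.1 * r'.1 : Subgroup.zpowers z) : G) * g *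
          ((r.2 * r'.2 : Subgroup.zpowers z) : G)⁻¹ = (r.1 : G) * ((r'.1 : G) * g * (r'.2 : G)⁻¹) * (r.2 : G)⁻¹ by
        simp only [Subgroup.coe_mul, mul_inv_rev, mul_assoc] }
  letI := act
  haveI : Fintype (Subgroup.zpowers z × Subgroup.zpowers z) := Fintype.ofFinite _
  have hzN : ∀ r : Subgroup.zpowers z, (r : G) ∈ N := fun r =>
    (Subgroup.zpowers_le.2 (L.H_le L.z_mem)) r.2
  have hzH : ∀ r : Subgroup.zpowers z, (r : G) ∈ H := fun r =>
    (Subgroup.zpowers_le.2 L.z_mem) r.2
  have hcen : ∀ (r : Subgroup.zpowers z), ∀ k : H, Commute k (⟨(r : G), hzH r⟩ : H) := fun r k => by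
    obtain ⟨i, hi⟩ := Subgroup.mem_zpowers_iff.1 r.2
    refine Subtype.ext ?_
    show (k : G) * (r : G) = (r : G) * (k : G)
    rw [← hi]
    exact ((((L.mem_H _).1 k.2).zpow_left i).eq).symm
  have hza : ∀ r : Subgroup.zpowers z, cj (⟨(r : G), hzH r⟩ : H) a = a := fun r => by
    obtain ⟨i, hi⟩ := Subgroup.mem_zpowers_iff.1 r.2
    obtain ⟨n, hn⟩ := mem_powers_iff_mem_zpowers.2
      (Subgroup.mem_zpowers_iff.2 ⟨i, rfl⟩ : (⟨z, L.z_mem⟩ : H) ^ i ∈ Subgroup.zpowers (⟨z, L.z_mem⟩ : H))
    have e1 : (⟨(r : G), hzH r⟩ : H) = (⟨z, L.z_mem⟩ : H) ^ n := by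
      refine Subtype.ext ?_
      rw [show ((⟨z, L.z_mem⟩ : H) ^ n : H) = (⟨z, L.z_mem⟩ : H) ^ i from hn]
      simpa using hi.symm
    rw [e1, ← cj_iterate]
    exact Function.iterate_fixed ha n
  obtain ⟨Φ, hΦ⟩ := exists_orbit_trace (k := ℕ)
    (1 : (Subgroup.zpowers z × Subgroup.zpowers z) →* locSubring M) (F v)
    (fun r g => by
      simp only [MonoidHom.one_apply, one_mul, mul_one]
      refine Subtype.ext ?_
      show ev _ (emb H a * cj ((r.1 : G) * g * (r.2 : G)⁻¹) (emb H v)) = ev _ (emb H a * cj g (emb H v))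
      have h2 : cj ((r.2 : G)⁻¹) (emb H v) = emb H v := by
        rw [show (r.2 : G)⁻¹ = ((⟨((r.2)⁻¹ : Subgroup.zpowers z), hzH _⟩ : H) : G) from rfl, cj_emb,
          commute_el_iff.1]
        conv_rhs => rw [← sum_coeff_smul_el v]
        refine Commute.sum_right _ _ _ fun k _ => Commute.smul_right ?_ _
        exact ((hcen _ k).symm).map (MonoidAlgebra.of (locSubring M) H)
      rw [cj_mul, h2, cj_mul]
      conv_lhs => rw [← hza r.1, ← cj_emb, ← map_mul, ev_cj hcl])
    (fun g => g ∉ N)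
    (fun r g hg => by
      show (r.1 : G) * g * (r.2 : G)⁻¹ ∉ N
      rwa [N.mul_mem_cancel_right (N.inv_mem (hzN r.2)), N.mul_mem_cancel_left (hzN r.1)])
    (fun r g hg hr => by
      have hr' : (r.1 : G) * g * (r.2 : G)⁻¹ = g := hr
      rw [mul_inv_eq_iff_eq_mul] at hr'
      have hP : ∀ s : Subgroup.zpowers z, (⟨(s : G), hzH s⟩ : H) ∈ PH := fun s => by
        obtain ⟨w, hw, hwz⟩ := L.zPH
        obtain ⟨i, hi⟩ := Subgroup.mem_zpowers_iff.1 s.2
        rw [show (⟨(s : G), hzH s⟩ : H) = w ^ i from Subtype.ext (by simp [hwz, hi])]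
        exact zpow_mem hw i
      have h1 : (⟨(r.1 : G), hzH r.1⟩ : H) = 1 := L.ti hg (hP r.1) (hP r.2) (by
        show g⁻¹ * (r.1 : G) * g = (r.2 : G)
        rw [mul_assoc, hr', inv_mul_cancel_left])
      have e1 : (r.1 : G) = 1 := congrArg Subtype.val h1
      rw [e1, one_mul] at hr'
      have e2 : (r.2 : G) = 1 := by simpa using hr'.symm
      exact Prod.ext (Subtype.ext e1) (Subtype.ext e2))
  simp only [MonoidHom.one_apply, one_mul, mul_one, Finset.sum_const, Finset.card_univ,
    ← Nat.card_eq_fintype_card] at hΦ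
  -- the divisible part
  have hblock : ∑ g ∈ Out, F w g = Nat.card H • ∑ b ∈ Finset.univ.filter (fun b : G ⧸ H => b.out ∉ N),
      F w b.out := by
    rw [hOut, Finset.sum_filter, ← sum_out_mul H, Finset.sum_filter, Finset.smul_sum]
    refine Finset.sum_congr rfl fun b _ => ?_
    rw [Finset.sum_congr rfl (g := fun _ => if b.out ∉ N then F w b.out else 0) fun h _ => by
      simp only [hright, hmul, hw], Finset.sum_const, Finset.card_univ, ← Nat.card_eq_fintype_card]
  have htr : ∑ g ∈ Out, F (trAll v) g = Nat.card H • ∑ g ∈ Out, F v g := by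
    have hlin : ∀ g, F (trAll v) g = ∑ h : H, F v (g * (h : G)) := fun g => by
      simp only [hmul]
      refine Subtype.ext ?_
      rw [AddSubmonoidClass.coe_finsetSum]
      show ev _ _ = ∑ h : H, ev _ _
      rw [trAll, map_sum, map_sum, Finset.mul_sum, ev_sum]
    rw [Finset.sum_congr rfl fun g _ => hlin g, Finset.sum_comm, Nat.card_eq_fintype_card,
      ← Finset.card_univ, ← Finset.sum_const]
    refine Finset.sum_congr rfl fun h _ => ?_
    exact Finset.sum_equiv (Equiv.mulRight (h : G)) (fun g => by simp [hOut, hright]) fun g _ => rfl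
  refine ⟨Φ + ∑ b ∈ Finset.univ.filter (fun b : G ⧸ H => b.out ∉ N), F w b.out, ?_⟩
  have hlin2 : ∀ g, (p : ℂ) * (F y g : ℂ) = (F (trAll v) g : ℂ) + (p : ℂ) * (p : ℂ) * (F w g : ℂ) := by
    intro g
    show (p : ℂ) * ev _ _ = ev _ _ + (p : ℂ) * (p : ℂ) * ev _ _
    have e1 : ∀ (n : ℕ) (u : RG M H), ev (χ : G → ℂ) (emb H a * cj g (emb H (n • u))) =
        (n : ℂ) * ev (χ : G → ℂ) (emb H a * cj g (emb H u)) := fun n u => by
      rw [map_nsmul, map_nsmul, mul_smul_comm, ← Nat.cast_smul_eq_nsmul (locSubring M), ev_smul]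
      rfl
    rw [← e1, hy, map_add, map_add, mul_add, ev_add, e1, Nat.cast_mul]
  have h2 : (p : ℂ) * ∑ g ∈ Out, (F y g : ℂ) = (p : ℂ) * ((p : ℂ) * (Nat.card H : ℂ) *
      ((Φ + ∑ b ∈ Finset.univ.filter (fun b : G ⧸ H => b.out ∉ N), F w b.out : locSubring M) : ℂ)) := by
    rw [Finset.mul_sum, Finset.sum_congr rfl fun g _ => hlin2 g, Finset.sum_add_distrib,
      ← Finset.mul_sum, ← AddSubmonoidClass.coe_finsetSum, ← AddSubmonoidClass.coe_finsetSum, htr, hblock]
    have hΦ' : ∑ g ∈ Out, F v g = (p * p) • Φ := by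
      convert hΦ using 2
      · rw [hOut]; ext; simp
      · rw [Nat.card_prod, Nat.card_zpowers, L.zo]
    rw [hΦ']
    simp only [nsmul_eq_mul, Subring.coe_mul, Subring.coe_add, Nat.cast_mul, SubringClass.coe_natCast]
    ring
  exact mul_left_cancel₀ (Nat.cast_ne_zero.2 hM.1.ne_zero) h2

end Cfsg.Agent.Lib.CyclicTree
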