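import Cfsg.Agent.Lib.CyclicTree.Main

/-!
# From the stabilizer of a block of the centralizer to the shape of the block
-/

set_option autoImplicit false
set_option linter.unusedSectionVars false
set_option linter.style.haveILetI false

namespace Cfsg.Agent.Lib.CyclicTree

open Cfsg Cfsg.Agent.Lib.Blocks Cfsg.Agent.Lib.Characters Cfsg.Agent.Lib.BlockHeights
open Cfsg.Agent.Lib.BrauerPairs

universe u

/-- **The shape, in the form of the statements.** -/
theorem cyclicShape_of_statement {G : Type u} [Group G] [Fintype G] {p : ℕ} (M : Ideal AlgInt)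
    (hM : IsPModular p M) (D : Subgroup G) (hD : IsCyclic D) {a : ℕ} (ha : 1 ≤ a)
    (hDa : Nat.card D = p ^ a) (B : Set (IrrCharacter G)) (hBD : IsDefectGroup p M B D)
    (b : Set (IrrCharacter (Subgroup.centralizer (D : Set G))))
    (hind : IsInducedBlock M (Subgroup.centralizer (D : Set G)) b B) (T : Subgroup G)
    (hT : ∀ g : G, g ∈ T ↔ (g ∈ Subgroup.normalizer (D : Set G) ∧ ∀ θ ∈ b,
      ∀ θ' : IrrCharacter (Subgroup.centralizer (D : Set G)),
        (∀ h h' : Subgroup.centralizer (D : Set G), (h' : G) = g * h * g⁻¹ →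
          (θ' : Subgroup.centralizer (D : Set G) → ℂ) h' = (θ : Subgroup.centralizer (D : Set G) → ℂ) h) →
        θ' ∈ b))
    {e : ℕ} (he : (Subgroup.centralizer (D : Set G)).relIndex T = e) : CyclicShape p B a e := by
  haveI : M.IsPrime := isPrime_of_isPModular hM
  haveI := hD
  have hTeq : T = pairStab D b := by
    ext g
    rw [hT g, mem_pairStab_iff]
    refine and_congr_right fun hg => ?_
    have hgC : g ∈ Subgroup.normalizer (Subgroup.centralizer (D : Set G) : Set G) := normalizer_le_normalizer_centralizer D hg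
    refine ⟨fun h => ⟨hgC, fun χ hχ => ?_⟩, fun h θ hθ θ' hθ' => ?_⟩
    · refine ⟨transIrr (conjEquiv g (mem_conj_iff_of_mem_normalizer hgC)) χ, h χ hχ _ ?_, ?_⟩ <;>
      · intro k k' hk
        show (χ : Subgroup.centralizer (D : Set G) → ℂ) ((conjEquiv g (mem_conj_iff_of_mem_normalizer hgC)).symm k') = _
        refine congrArg _ (Subtype.ext ?_)
        show g⁻¹ * (k' : G) * g = k
        rw [hk]
        group
    · obtain ⟨χ', hχ', hc⟩ := h.2 θ hθ
      rw [show θ' = χ' from Subtype.ext (funext fun k' => by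
        have hk : g⁻¹ * (k' : G) * g ∈ Subgroup.centralizer (D : Set G) := (mem_conj_iff_of_mem_normalizer hgC _).1 k'.2
        rw [hθ' ⟨_, hk⟩ k' (by simp [mul_assoc]), hc ⟨_, hk⟩ k' (by simp [mul_assoc])])]
      exact hχ'
  have hmax := isMaximal_of_induced hM hBD hind
  have hq : 1 < Nat.card D := by
    rw [hDa]; exact Nat.one_lt_pow (by omega) hM.1.one_lt
  obtain ⟨z, H, N, hH, f, PH, t, L, hcard⟩ := exists_localData hM hmax hq
  have h := L.cyclicShape (a := a) (hcard.trans hDa)
  rw [← hTeq, he] at h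
  exact h

end Cfsg.Agent.Lib.CyclicTree
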